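/-
Elements of the stabiliser of a tensor power: a pure tensor times a permutation of the factors; root elements.
-/
import Cfsg.Agent.Lib.Classical.TensorPower
import Cfsg.Agent.Lib.Classical.TensorMax.Linear

set_option autoImplicit false
set_option linter.unusedSectionVars false

namespace Cfsg.Agent.Classical.TensorPowerMax

open Matrix Cfsg.Geo
open Cfsg.Agent.Classical
open Cfsg.Agent.Classical.TensorMax (kr kr_val kr_mul kr_one kr_inv)
open scoped Kronecker

variable {F : Type*} [Field F] {m t : ℕ}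

/-- The invertible pure tensor. -/
def pureGL : (Fin t → GL (Fin m) F) →* GL (Fin t → Fin m) F where
  toFun A :=
    { val := pureM fun i => (A i : Matrix (Fin m) (Fin m) F)
      inv := pureM fun i => (((A i)⁻¹ : GL (Fin m) F) : Matrix (Fin m) (Fin m) F)
      val_inv := by rw [pureM_mul]; simp only [Units.mul_inv]; exact pureM_one
      inv_val := by rw [pureM_mul]; simp only [Units.inv_mul]; exact pureM_one }
  map_one' := Units.ext (by simp only [Pi.one_apply, Units.val_one]; exact pureM_one)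
  map_mul' A B := Units.ext (by simp only [Pi.mul_apply, Units.val_mul, pureM_mul])

theorem pureGL_val (A : Fin t → GL (Fin m) F) :
    (pureGL A : Matrix (Fin t → Fin m) (Fin t → Fin m) F) = pureM fun i => (A i : Matrix (Fin m) (Fin m) F) := rfl

/-- An element of one factor. -/
def facGL (i : Fin t) : GL (Fin m) F →* GL (Fin t → Fin m) F :=
  pureGL.comp (MonoidHom.mulSingle (fun _ : Fin t => GL (Fin m) F) i)

theorem facGL_val (i : Fin t) (a : GL (Fin m) F) :
    (facGL i a : Matrix (Fin t → Fin m) (Fin t → Fin m) F) = facM i (a : Matrix (Fin m) (Fin m) F) := by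
  rw [facM]
  show pureM _ = _
  congr 1
  funext j
  rcases eq_or_ne j i with rfl | hj
  · simp
  · simp [Function.update_of_ne hj, Pi.mulSingle_eq_of_ne hj]

theorem pureGL_mem (A : Fin t → GL (Fin m) F) : pureGL A ∈ tensorWreathStandard m t F :=
  Subgroup.subset_closure (Or.inl ⟨A, fun _ _ => rfl⟩)

theorem facGL_mem (i : Fin t) (a : GL (Fin m) F) : facGL i a ∈ tensorWreathStandard m t F := pureGL_mem _

theorem perm_mul (σ τ : Equiv.Perm (Fin t)) :
    factorPermGL m F σ * factorPermGL m F τ = factorPermGL m F (σ * τ) :=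
  Units.ext (factorPermM_mul σ τ)

theorem perm_one : factorPermGL m F (1 : Equiv.Perm (Fin t)) = 1 := Units.ext factorPermM_one

theorem perm_pure (σ : Equiv.Perm (Fin t)) (A : Fin t → GL (Fin m) F) :
    factorPermGL m F σ * pureGL A = pureGL (fun i => A (σ.symm i)) * factorPermGL m F σ :=
  Units.ext (factorPermM_pureM σ fun i => (A i : Matrix (Fin m) (Fin m) F))

theorem std_decomp {g : GL (Fin t → Fin m) F} (hg : g ∈ tensorWreathStandard m t F) :
    ∃ (A : Fin t → GL (Fin m) F) (σ : Equiv.Perm (Fin t)), g = pureGL A * factorPermGL m F σ := by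
  induction hg using Subgroup.closure_induction with
  | one => exact ⟨1, 1, by rw [map_one, perm_one, mul_one]⟩
  | mem x hx =>
    rcases hx with ⟨gs, h⟩ | ⟨σ, h⟩
    · exact ⟨gs, 1, by rw [perm_one, mul_one]; exact Units.ext (Matrix.ext h)⟩
    · exact ⟨1, σ, by rw [map_one, one_mul]; exact Units.ext (Matrix.ext h)⟩
  | mul a b _ _ ha hb =>
    obtain ⟨A, σ, rfl⟩ := ha
    obtain ⟨B, τ, rfl⟩ := hb
    refine ⟨A * fun i => B (σ.symm i), σ * τ, ?_⟩
    rw [map_mul, ← perm_mul, mul_assoc, ← mul_assoc _ (pureGL B), perm_pure]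
    simp only [mul_assoc]
  | inv a _ ha =>
    obtain ⟨A, σ, rfl⟩ := ha
    refine ⟨fun i => (A (σ i))⁻¹, σ⁻¹, ?_⟩
    have e : (factorPermGL m F σ)⁻¹ = factorPermGL m F σ⁻¹ :=
      inv_eq_of_mul_eq_one_right (by rw [perm_mul, mul_inv_cancel, perm_one])
    rw [_root_.mul_inv_rev, e, ← map_inv, perm_pure]
    rfl

/-- Conjugation of a factor by a standard element. -/
theorem std_conj_fac (A : Fin t → GL (Fin m) F) (σ : Equiv.Perm (Fin t)) (i : Fin t) (Y : Matrix (Fin m) (Fin m) F) :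
    ((pureGL A * factorPermGL m F σ : GL (Fin t → Fin m) F) : Matrix (Fin t → Fin m) (Fin t → Fin m) F) * facM i Y =
      facM (σ i) ((A (σ i) : Matrix (Fin m) (Fin m) F) * Y * (((A (σ i))⁻¹ : GL (Fin m) F) : Matrix (Fin m) (Fin m) F)) *
        ((pureGL A * factorPermGL m F σ : GL (Fin t → Fin m) F) : Matrix (Fin t → Fin m) (Fin t → Fin m) F) := by
  have key : pureM (fun j => (A j : Matrix (Fin m) (Fin m) F)) * facM (σ i) Y =
      facM (σ i) ((A (σ i) : Matrix (Fin m) (Fin m) F) * Y * (((A (σ i))⁻¹ : GL (Fin m) F) : Matrix (Fin m) (Fin m) F)) *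
        pureM (fun j => (A j : Matrix (Fin m) (Fin m) F)) := by
    rw [facM, facM, pureM_mul, pureM_mul]
    congr 1
    funext j
    rcases eq_or_ne j (σ i) with rfl | hj
    · rw [Function.update_self, Function.update_self, Matrix.mul_assoc _ _ (A (σ i) : Matrix (Fin m) (Fin m) F),
        Units.inv_mul, Matrix.mul_one]
    · rw [Function.update_of_ne hj, Function.update_of_ne hj, Matrix.mul_one, Matrix.one_mul]
  rw [Units.val_mul]
  show pureM _ * factorPermM m F σ * facM i Y = _ * (pureM _ * factorPermM m F σ)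
  rw [Matrix.mul_assoc, factorPermM_facM, ← Matrix.mul_assoc, key, Matrix.mul_assoc]

theorem facM_one (i : Fin t) : facM i (1 : Matrix (Fin m) (Fin m) F) = 1 := by
  rw [facM, Function.update_eq_self, pureM_one]

theorem facM_mul (i : Fin t) (A B : Matrix (Fin m) (Fin m) F) : facM i A * facM i B = facM i (A * B) := by
  rw [facM, facM, pureM_mul, facM]
  congr 1
  funext j
  rcases eq_or_ne j i with rfl | hj
  · simp
  · simp [Function.update_of_ne hj]

theorem facM_add (i : Fin t) (A B : Matrix (Fin m) (Fin m) F) : facM i (A + B) = facM i A + facM i B := by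
  ext x y
  simp only [Matrix.add_apply, facM_apply]
  split_ifs <;> simp

theorem facM_smul (i : Fin t) (c : F) (A : Matrix (Fin m) (Fin m) F) : facM i (c • A) = c • facM i A := by
  ext x y
  simp only [Matrix.smul_apply, facM_apply]
  split_ifs <;> simp

theorem facM_inj (hm : 0 < m) (i : Fin t) {A B : Matrix (Fin m) (Fin m) F} (h : facM i A = facM i B) : A = B := by
  ext a b
  let z : Fin t → Fin m := fun _ => ⟨0, hm⟩
  have e := congrFun (congrFun h (Function.update z i a)) (Function.update z i b)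
  rw [facM_apply, facM_apply, if_pos (fun j hj => by simp [Function.update_of_ne hj]),
    if_pos (fun j hj => by simp [Function.update_of_ne hj]), Function.update_self, Function.update_self] at e
  exact e

/-- The matrices of two factors meet in the scalars. -/
theorem facM_eq_facM (hm : 0 < m) {i j : Fin t} (hij : i ≠ j) {A B : Matrix (Fin m) (Fin m) F}
    (h : facM i A = facM j B) : ∃ c : F, A = c • 1 := by
  refine ⟨B ⟨0, hm⟩ ⟨0, hm⟩, Matrix.ext fun a b => ?_⟩
  let z : Fin t → Fin m := fun _ => ⟨0, hm⟩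
  have e := congrFun (congrFun h (Function.update z i a)) (Function.update z i b)
  rw [facM_apply, facM_apply, if_pos (fun k hk => by simp [Function.update_of_ne hk]), Function.update_self,
    Function.update_self] at e
  rw [e, Function.update_of_ne (Ne.symm hij), Function.update_of_ne (Ne.symm hij)]
  by_cases hab : a = b
  · subst hab
    rw [if_pos (fun k _ => rfl), Matrix.smul_apply, Matrix.one_apply_eq, smul_eq_mul, mul_one]
  · rw [if_neg (fun hh => hab (by simpa using hh i hij)), Matrix.smul_apply, Matrix.one_apply_ne hab, smul_zero]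

/-! ### Root elements -/

theorem vecMulVec_sq {f l : Fin m → F} (h : l ⬝ᵥ f = 0) : vecMulVec f l * vecMulVec f l = 0 := by
  rw [Matrix.vecMulVec_mul_vecMulVec, h, zero_smul, Matrix.vecMulVec_zero]

theorem one_add_sq_inv {R : Type*} [Ring R] {N : R} (h : N * N = 0) : (1 + N) * (1 - N) = 1 := by
  rw [add_mul, one_mul, mul_sub, mul_one, h, sub_zero, sub_add_cancel]

theorem one_sub_sq_inv {R : Type*} [Ring R] {N : R} (h : N * N = 0) : (1 - N) * (1 + N) = 1 := by
  rw [sub_mul, one_mul, mul_add, mul_one, h, add_zero, add_sub_cancel_right]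

/-- A transvection. -/
def tv (f l : Fin m → F) (h : l ⬝ᵥ f = 0) : GL (Fin m) F where
  val := 1 + vecMulVec f l
  inv := 1 - vecMulVec f l
  val_inv := one_add_sq_inv (vecMulVec_sq h)
  inv_val := one_sub_sq_inv (vecMulVec_sq h)

theorem tv_det (f l : Fin m → F) (h : l ⬝ᵥ f = 0) : (1 + vecMulVec f l : Matrix (Fin m) (Fin m) F).det = 1 := by
  rw [vecMulVec_eq (Fin 1), Matrix.det_one_add_replicateCol_mul_replicateRow, h, add_zero]

/-- A root element in the `i`-th factor. -/
def RootAt (i : Fin t) (g : GL (Fin t → Fin m) F) : Prop :=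
  ∃ f l : Fin m → F, f ≠ 0 ∧ l ≠ 0 ∧ l ⬝ᵥ f = 0 ∧
    (g : Matrix (Fin t → Fin m) (Fin t → Fin m) F) = facM i (1 + vecMulVec f l)

/-- A root element. -/
def IsRoot (g : GL (Fin t → Fin m) F) : Prop := ∃ i, RootAt i g

theorem RootAt.eq {i : Fin t} {g : GL (Fin t → Fin m) F} (h : RootAt i g) :
    ∃ (f l : Fin m → F) (hlf : l ⬝ᵥ f = 0), f ≠ 0 ∧ l ≠ 0 ∧ g = facGL i (tv f l hlf) := by
  obtain ⟨f, l, hf, hl, hlf, hg⟩ := h
  exact ⟨f, l, hlf, hf, hl, Units.ext (by rw [hg, facGL_val]; rfl)⟩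

theorem rootAt_fac (i : Fin t) {f l : Fin m → F} (hf : f ≠ 0) (hl : l ≠ 0) (hlf : l ⬝ᵥ f = 0) :
    RootAt i (facGL i (tv f l hlf)) := ⟨f, l, hf, hl, hlf, facGL_val _ _⟩

theorem IsRoot.mem_std {g : GL (Fin t → Fin m) F} (h : IsRoot g) : g ∈ tensorWreathStandard m t F := by
  obtain ⟨i, h⟩ := h
  obtain ⟨f, l, hlf, -, -, rfl⟩ := h.eq
  exact facGL_mem _ _

theorem vecMulVec_ne_zero {f l : Fin m → F} (hf : f ≠ 0) (hl : l ≠ 0) : vecMulVec f l ≠ 0 := by
  obtain ⟨a, ha⟩ := Function.ne_iff.1 hf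
  obtain ⟨b, hb⟩ := Function.ne_iff.1 hl
  intro e
  have := congrFun (congrFun e a) b
  rw [vecMulVec_apply] at this
  exact mul_ne_zero ha hb this

theorem RootAt.not_scalar {i : Fin t} {g : GL (Fin t → Fin m) F} (hm : 2 ≤ m) (h : RootAt i g) :
    ∀ c : F, (g : Matrix (Fin t → Fin m) (Fin t → Fin m) F) ≠ c • 1 := by
  intro c hc
  obtain ⟨f, l, hf, hl, hlf, hg⟩ := h
  rw [hg, ← facM_one i, ← facM_smul] at hc
  have e := facM_inj (by omega) i hc
  have e2 : vecMulVec f l = (c - 1) • (1 : Matrix (Fin m) (Fin m) F) := by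
    rw [sub_smul, one_smul, ← e]; abel
  have h0 := vecMulVec_sq hlf
  rw [e2, smul_mul_smul_comm, one_mul] at h0
  rcases smul_eq_zero.1 h0 with h0 | h0
  · exact vecMulVec_ne_zero hf hl (by rw [e2, mul_self_eq_zero.1 h0, zero_smul])
  · haveI : Nonempty (Fin m) := ⟨⟨0, by omega⟩⟩
    exact one_ne_zero h0

theorem RootAt.slot_unique (hm : 2 ≤ m) {i j : Fin t} {g : GL (Fin t → Fin m) F} (h : RootAt i g) (h' : RootAt j g) :
    i = j := by
  by_contra hne
  obtain ⟨f, l, hf, hl, hlf, hg⟩ := h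
  obtain ⟨f', l', hf', hl', hlf', hg'⟩ := h'
  obtain ⟨c, hc⟩ := facM_eq_facM (by omega) hne (hg.symm.trans hg')
  exact RootAt.not_scalar hm ⟨f, l, hf, hl, hlf, hg⟩ c (by rw [hg, hc, facM_smul, facM_one])

theorem RootAt.commute {i j : Fin t} (hij : i ≠ j) {g h : GL (Fin t → Fin m) F} (hg : RootAt i g) (hh : RootAt j h) :
    g * h = h * g := by
  obtain ⟨f, l, -, -, -, hg⟩ := hg
  obtain ⟨f', l', -, -, -, hh⟩ := hh
  refine Units.ext ?_
  rw [Units.val_mul, Units.val_mul, hg, hh, facM_commute hij]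

theorem RootAt.sq {i : Fin t} {g : GL (Fin t → Fin m) F} (h : RootAt i g) :
    ((g : Matrix (Fin t → Fin m) (Fin t → Fin m) F) - 1) * ((g : Matrix (Fin t → Fin m) (Fin t → Fin m) F) - 1) = 0 := by
  obtain ⟨f, l, -, -, hlf, hg⟩ := h
  rw [hg, facM_add, facM_one, add_sub_cancel_left, facM_mul, vecMulVec_sq hlf]
  ext x y
  simp [facM_apply]

/-- Conjugates of root elements by standard elements are root elements. -/
theorem RootAt.conj {i : Fin t} {g : GL (Fin t → Fin m) F} (h : RootAt i g) {A : Fin t → GL (Fin m) F}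
    {σ : Equiv.Perm (Fin t)} :
    RootAt (σ i) ((pureGL A * factorPermGL m F σ) * g * (pureGL A * factorPermGL m F σ)⁻¹) := by
  obtain ⟨f, l, hf, hl, hlf, hg⟩ := h
  obtain ⟨a, ha⟩ : ∃ a, a = A (σ i) := ⟨_, rfl⟩
  refine ⟨(a : Matrix (Fin m) (Fin m) F) *ᵥ f, l ᵥ* ((a⁻¹ : GL (Fin m) F) : Matrix (Fin m) (Fin m) F), ?_, ?_, ?_, ?_⟩
  · intro e
    refine hf ?_
    have h2 := congrArg (fun v => ((a⁻¹ : GL (Fin m) F) : Matrix (Fin m) (Fin m) F) *ᵥ v) e
    simpa [Matrix.mulVec_mulVec] using h2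
  · intro e
    refine hl ?_
    have h2 := congrArg (fun v => v ᵥ* (a : Matrix (Fin m) (Fin m) F)) e
    simpa [Matrix.vecMul_vecMul] using h2
  · rw [dotProduct_mulVec, Matrix.vecMul_vecMul, Units.inv_mul, Matrix.vecMul_one, hlf]
  · rw [Units.val_mul, Units.val_mul, hg, std_conj_fac A σ i, Matrix.mul_assoc, Units.mul_inv, Matrix.mul_one, ← ha]
    congr 1
    rw [mul_add, add_mul, mul_one, Units.mul_inv, Matrix.mul_vecMulVec, Matrix.vecMulVec_mul]

theorem IsRoot.conj {g h : GL (Fin t → Fin m) F} (hg : IsRoot g) (hh : h ∈ tensorWreathStandard m t F) :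
    IsRoot (h * g * h⁻¹) := by
  obtain ⟨i, hg⟩ := hg
  obtain ⟨A, σ, rfl⟩ := std_decomp hh
  exact ⟨σ i, hg.conj⟩

/-- The slot permutation of a standard element is well defined. -/
theorem perm_unique (hm : 2 ≤ m) {A B : Fin t → GL (Fin m) F} {σ τ : Equiv.Perm (Fin t)}
    (h : pureGL A * factorPermGL m F σ = pureGL B * factorPermGL m F τ) : σ = τ := by
  refine Equiv.ext fun i => ?_
  let e₀ : Fin m → F := Pi.single ⟨0, by omega⟩ 1
  let e₁ : Fin m → F := Pi.single ⟨1, by omega⟩ 1
  have h0 : e₁ ⬝ᵥ e₀ = 0 := by simp [e₀, e₁, dotProduct_single, Fin.ext_iff]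
  have hr : RootAt i (facGL i (tv e₀ e₁ h0)) := rootAt_fac i (by simp [e₀]) (by simp [e₁]) h0
  have h1 := hr.conj (A := A) (σ := σ)
  have h2 := hr.conj (A := B) (σ := τ)
  rw [h] at h1
  exact h1.slot_unique hm h2

theorem std_sign (hm : 2 ≤ m) : ∃ χ : ↥(tensorWreathStandard m t F) →* ℤˣ,
    ∀ (g : ↥(tensorWreathStandard m t F)) (A : Fin t → GL (Fin m) F) (σ : Equiv.Perm (Fin t)),
      (g : GL (Fin t → Fin m) F) = pureGL A * factorPermGL m F σ → χ g = Equiv.Perm.sign σ := by
  classical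
  choose A σ hA using fun g : ↥(tensorWreathStandard m t F) => std_decomp g.2
  have hu : ∀ (g : ↥(tensorWreathStandard m t F)) (B : Fin t → GL (Fin m) F) (τ : Equiv.Perm (Fin t)),
      (g : GL (Fin t → Fin m) F) = pureGL B * factorPermGL m F τ → σ g = τ :=
    fun g B τ h => perm_unique hm ((hA g).symm.trans h)
  have hmul : ∀ g h, σ (g * h) = σ g * σ h := fun g h => hu _ (A g * fun i => A h ((σ g).symm i)) _ (by
    rw [Subgroup.coe_mul, hA g, hA h, map_mul, ← perm_mul, mul_assoc, ← mul_assoc _ (pureGL (A h)), perm_pure]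
    simp only [mul_assoc])
  exact ⟨Equiv.Perm.sign.comp (MonoidHom.mk' σ hmul),
    fun g B τ h => congrArg Equiv.Perm.sign (hu g B τ h)⟩

end Cfsg.Agent.Classical.TensorPowerMax
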