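/-
One factor of a tensor power split off as a Kronecker factor.
-/
import Cfsg.Agent.Lib.Classical.TensorPowerMax.Basic

set_option autoImplicit false
set_option linter.unusedSectionVars false

namespace Cfsg.Agent.Classical.TensorPowerMax

open Matrix Cfsg.Geo
open Cfsg.Agent.Classical
open Cfsg.Agent.Classical.TensorMax (kr kr_val kr_mul kr_one kr_inv)
open scoped Kronecker

variable {F : Type*} [Field F] {m t : ℕ}

/-- The factor `i` split off. -/
def spl (i : Fin (t + 1)) : (Fin t → Fin m) × Fin m ≃ (Fin (t + 1) → Fin m) where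
  toFun p := i.insertNth p.2 p.1
  invFun x := (fun j => x (i.succAbove j), x i)
  left_inv p := by ext <;> simp
  right_inv x := by funext j; rcases Fin.eq_self_or_eq_succAbove i j with rfl | ⟨j, rfl⟩ <;> simp

theorem spl_symm_apply (i : Fin (t + 1)) (x : Fin (t + 1) → Fin m) :
    (spl i).symm x = (fun j => x (i.succAbove j), x i) := rfl

/-- The splitting on matrices. -/
def J (i : Fin (t + 1)) : GL ((Fin t → Fin m) × Fin m) F ≃* GL (Fin (t + 1) → Fin m) F :=
  glReindex (spl i)

theorem J_val (i : Fin (t + 1)) (g : GL ((Fin t → Fin m) × Fin m) F) :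
    (J i g : Matrix (Fin (t + 1) → Fin m) (Fin (t + 1) → Fin m) F) =
      Matrix.reindex (spl i) (spl i) (g : Matrix ((Fin t → Fin m) × Fin m) ((Fin t → Fin m) × Fin m) F) := rfl

theorem J_apply (i : Fin (t + 1)) (g : GL ((Fin t → Fin m) × Fin m) F) (x y : Fin (t + 1) → Fin m) :
    (J i g : Matrix (Fin (t + 1) → Fin m) (Fin (t + 1) → Fin m) F) x y =
      (g : Matrix ((Fin t → Fin m) × Fin m) ((Fin t → Fin m) × Fin m) F) ((spl i).symm x) ((spl i).symm y) := rfl

theorem J_det (i : Fin (t + 1)) (g : GL ((Fin t → Fin m) × Fin m) F) :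
    (J i g : Matrix (Fin (t + 1) → Fin m) (Fin (t + 1) → Fin m) F).det =
      (g : Matrix ((Fin t → Fin m) × Fin m) ((Fin t → Fin m) × Fin m) F).det := by
  rw [J_val, Matrix.det_reindex_self]

theorem J_mulVec (i : Fin (t + 1)) (g : GL ((Fin t → Fin m) × Fin m) F) (v : (Fin (t + 1) → Fin m) → F) :
    ((J i g : Matrix (Fin (t + 1) → Fin m) (Fin (t + 1) → Fin m) F) *ᵥ v) ∘ spl i =
      (g : Matrix ((Fin t → Fin m) × Fin m) ((Fin t → Fin m) × Fin m) F) *ᵥ (v ∘ spl i) := by
  funext p
  rw [Function.comp_apply, Matrix.mulVec, Matrix.mulVec, dotProduct, dotProduct]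
  refine (Fintype.sum_equiv (spl i) _ _ fun q => ?_).symm
  rw [J_apply, Equiv.symm_apply_apply, Equiv.symm_apply_apply]
  rfl

theorem J_kr_pure (i : Fin (t + 1)) (A : Fin t → GL (Fin m) F) (b : GL (Fin m) F) :
    J i (kr (pureGL A) b) = pureGL (i.insertNth b A) := by
  refine Units.ext (Matrix.ext fun x y => ?_)
  rw [J_apply, kr_val, kroneckerMap_apply, pureGL_val, pureGL_val, spl_symm_apply, spl_symm_apply]
  simp only [pureM, Matrix.of_apply]
  rw [Fin.prod_univ_succAbove _ i, mul_comm]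
  simp

theorem J_kr_right (i : Fin (t + 1)) (b : GL (Fin m) F) :
    J i (kr (1 : GL (Fin t → Fin m) F) b) = facGL i b := by
  rw [← map_one (pureGL (F := F) (m := m) (t := t)), J_kr_pure]
  show pureGL _ = pureGL _
  congr 1
  funext j
  rcases Fin.eq_self_or_eq_succAbove i j with rfl | ⟨j, rfl⟩
  · simp
  · simp [Pi.mulSingle_eq_of_ne (Fin.succAbove_ne i j)]

theorem facM_spl (i : Fin (t + 1)) (Y : Matrix (Fin m) (Fin m) F) :
    facM i Y = Matrix.reindex (spl i) (spl i) ((1 : Matrix (Fin t → Fin m) (Fin t → Fin m) F) ⊗ₖ Y) := by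
  ext x y
  rw [Matrix.reindex_apply, Matrix.submatrix_apply, kroneckerMap_apply, spl_symm_apply, spl_symm_apply, facM_apply]
  by_cases h : ∀ j, j ≠ i → x j = y j
  · rw [if_pos h]
    simp only
    rw [show (fun j => x (i.succAbove j)) = fun j => y (i.succAbove j) from funext fun j => h _ (Fin.succAbove_ne i j),
      Matrix.one_apply_eq, one_mul]
  · rw [if_neg h]
    simp only
    rw [Matrix.one_apply_ne, zero_mul]
    intro e
    exact h fun j hj => by
      obtain ⟨k, rfl⟩ := Fin.exists_succAbove_eq hj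
      exact congrFun e k

/-- A permutation of the other factors, extended. -/
def permExt (i : Fin (t + 1)) (σ : Equiv.Perm (Fin t)) : Equiv.Perm (Fin (t + 1)) :=
  ((finSuccEquiv' i).trans σ.optionCongr).trans (finSuccEquiv' i).symm

theorem permExt_self (i : Fin (t + 1)) (σ : Equiv.Perm (Fin t)) : permExt i σ i = i := by
  simp [permExt]

theorem permExt_succAbove (i : Fin (t + 1)) (σ : Equiv.Perm (Fin t)) (j : Fin t) :
    permExt i σ (i.succAbove j) = i.succAbove (σ j) := by
  simp [permExt]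

theorem J_kr_perm (i : Fin (t + 1)) (σ : Equiv.Perm (Fin t)) :
    J i (kr (factorPermGL m F σ) (1 : GL (Fin m) F)) = factorPermGL m F (permExt i σ) := by
  refine Units.ext (Matrix.ext fun x y => ?_)
  rw [J_apply, kr_val, kroneckerMap_apply, spl_symm_apply, spl_symm_apply]
  show (if _ then (1 : F) else 0) * (1 : Matrix (Fin m) (Fin m) F) _ _ = if _ then (1 : F) else 0
  rw [Matrix.one_apply]
  simp only [ite_mul, one_mul, zero_mul, ← ite_and]
  refine if_congr ⟨fun ⟨h1, h2⟩ => funext fun j => ?_, fun h => ⟨funext fun j => ?_, ?_⟩⟩ rfl rfl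
  · rcases Fin.eq_self_or_eq_succAbove i j with rfl | ⟨j, rfl⟩
    · simpa [permExt_self] using h2.symm
    · simpa [permExt_succAbove] using congrFun h1 j
  · simpa [permExt_succAbove] using congrFun h (i.succAbove j)
  · simpa [permExt_self] using (congrFun h i).symm

/-- A standard element of the other factors and anything on the split factor. -/
theorem J_kr_mem (i : Fin (t + 1)) {a : GL (Fin t → Fin m) F} (ha : a ∈ tensorWreathStandard m t F)
    (b : GL (Fin m) F) : J i (kr a b) ∈ tensorWreathStandard m (t + 1) F := by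
  obtain ⟨A, σ, rfl⟩ := std_decomp ha
  rw [show kr (pureGL A * factorPermGL m F σ) b = kr (pureGL A) b * kr (factorPermGL m F σ) 1 by rw [kr_mul, mul_one],
    map_mul, J_kr_pure, J_kr_perm]
  exact mul_mem (pureGL_mem _) (factorPermGL_mem _)

/-- The commutant of one factor. -/
theorem eq_kr_of_commute (hm : 0 < m) (i : Fin (t + 1)) (g : GL (Fin (t + 1) → Fin m) F)
    (h : ∀ Y, (g : Matrix (Fin (t + 1) → Fin m) (Fin (t + 1) → Fin m) F) * facM i Y =
      facM i Y * (g : Matrix (Fin (t + 1) → Fin m) (Fin (t + 1) → Fin m) F)) :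
    ∃ a : GL (Fin t → Fin m) F, g = J i (kr a 1) := by
  classical
  obtain ⟨G, rfl⟩ := (J i).surjective g
  obtain ⟨M, hM⟩ : ∃ M, M = (G : Matrix ((Fin t → Fin m) × Fin m) ((Fin t → Fin m) × Fin m) F) := ⟨_, rfl⟩
  have hc : ∀ Y : Matrix (Fin m) (Fin m) F, M * ((1 : Matrix (Fin t → Fin m) (Fin t → Fin m) F) ⊗ₖ Y) =
      ((1 : Matrix (Fin t → Fin m) (Fin t → Fin m) F) ⊗ₖ Y) * M := fun Y => by
    have e := h Y
    rw [J_val, facM_spl, Matrix.reindex_apply, Matrix.reindex_apply, Matrix.submatrix_mul_equiv,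
      Matrix.submatrix_mul_equiv] at e
    rw [hM]
    exact (Matrix.reindex (spl i) (spl i)).injective e
  have hval : ∀ x a y b c d, (if b = d then M (x, a) (y, c) else 0) = if a = c then M (x, d) (y, b) else 0 :=
    fun x a y b c d => by
      have e := congrFun (congrFun (hc (Matrix.single c d 1)) (x, a)) (y, b)
      rw [Matrix.mul_apply, Matrix.mul_apply, Fintype.sum_prod_type, Fintype.sum_prod_type] at e
      rw [Finset.sum_eq_single y (fun z _ hz => by simp [Matrix.one_apply, hz]) (by simp),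
        Finset.sum_eq_single c (fun z _ hz => by simp [Matrix.single_apply, Ne.symm hz]) (by simp),
        Finset.sum_eq_single x (fun z _ hz => by simp [Matrix.one_apply, Ne.symm hz]) (by simp),
        Finset.sum_eq_single d (fun z _ hz => by simp [Matrix.single_apply, Ne.symm hz]) (by simp)] at e
      simpa [kroneckerMap_apply, Matrix.single_apply, eq_comm] using e
  let o : Fin m := ⟨0, hm⟩
  have hM' : M = (Matrix.of fun x y => M (x, o) (y, o)) ⊗ₖ (1 : Matrix (Fin m) (Fin m) F) := by
    ext ⟨x, a⟩ ⟨y, b⟩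
    rw [kroneckerMap_apply]
    rcases eq_or_ne a b with rfl | hab
    · rw [Matrix.one_apply_eq, mul_one, Matrix.of_apply]
      simpa using hval x a y o a o
    · rw [Matrix.one_apply_ne hab, mul_zero]
      simpa [hab] using hval x a y a b a
  have hu : IsUnit (Matrix.of fun x y => M (x, o) (y, o)) := by
    have e : ((G⁻¹ : GL ((Fin t → Fin m) × Fin m) F) : Matrix _ _ F) * M = 1 := by
      rw [hM, ← Units.val_mul, inv_mul_cancel, Units.val_one]
    refine IsUnit.of_mul_eq_one_right
      (Matrix.of fun x y => ((G⁻¹ : GL ((Fin t → Fin m) × Fin m) F) : Matrix _ _ F) (x, o) (y, o)) ?_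
    ext x y
    have e1 := congrFun (congrFun e (x, o)) (y, o)
    rw [Matrix.mul_apply, Fintype.sum_prod_type] at e1
    rw [Matrix.mul_apply]
    refine Eq.trans ?_ (e1.trans ?_)
    · refine Finset.sum_congr rfl fun z _ => Eq.symm ?_
      refine (Finset.sum_eq_single o (fun c _ hc => ?_) (fun h => absurd (Finset.mem_univ o) h)).trans rfl
      rw [hM', kroneckerMap_apply, Matrix.one_apply_ne hc, mul_zero, mul_zero]
    · simp [Matrix.one_apply, Prod.ext_iff]
  refine ⟨hu.unit, congrArg (J i) (Units.ext ?_)⟩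
  rw [kr_val, IsUnit.unit_spec, Units.val_one, ← hM, ← hM']

/-- A standard element fixing a slot is a Kronecker product there. -/
theorem exists_kr_of_fixed (hm : 0 < m) (i : Fin (t + 1)) (A : Fin (t + 1) → GL (Fin m) F)
    {σ : Equiv.Perm (Fin (t + 1))} (hσ : σ i = i) :
    ∃ a : GL (Fin t → Fin m) F, pureGL A * factorPermGL m F σ = J i (kr a (A i)) := by
  obtain ⟨g, hg⟩ : ∃ g, g = (facGL i (A i))⁻¹ * (pureGL A * factorPermGL m F σ) := ⟨_, rfl⟩
  have hs : ∀ Y, (g : Matrix (Fin (t + 1) → Fin m) (Fin (t + 1) → Fin m) F) * facM i Y =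
      facM i Y * (g : Matrix (Fin (t + 1) → Fin m) (Fin (t + 1) → Fin m) F) := fun Y => by
    rw [hg, Units.val_mul, Matrix.mul_assoc, std_conj_fac, hσ, ← map_inv, facGL_val, ← Matrix.mul_assoc,
      ← Matrix.mul_assoc, facM_mul, facM_mul]
    congr 2
    rw [← Matrix.mul_assoc, ← Matrix.mul_assoc, Units.inv_mul, Matrix.one_mul]
  obtain ⟨a, ha⟩ := eq_kr_of_commute hm i g hs
  refine ⟨a, ?_⟩
  rw [show kr a (A i) = kr (1 : GL (Fin t → Fin m) F) (A i) * kr a 1 by rw [kr_mul, one_mul, mul_one], map_mul, ← ha,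
    J_kr_right, hg, mul_inv_cancel_left]

end Cfsg.Agent.Classical.TensorPowerMax
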