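/-
The displacement rank of standard elements of a tensor power.
-/
import Cfsg.Agent.Lib.Classical.TensorPowerMax.Split
import Cfsg.Agent.Lib.Classical.TensorMax.RankOne

set_option autoImplicit false
set_option linter.unusedSectionVars false

namespace Cfsg.Agent.Classical.TensorPowerMax

open Matrix Cfsg.Geo
open Cfsg.Agent.Classical
open Cfsg.Agent.Classical.TensorMax (kr kr_val kr_mul kr_one kr_inv)
open scoped Kronecker

variable {F : Type*} [Field F] {m t : ℕ}

/-- A set carrying no fixed vector bounds the displacement rank. -/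
theorem card_le_of_no_fixed {κ : Type} [Fintype κ] [DecidableEq κ] (U : Matrix κ κ F) (T : Finset κ)
    (h : ∀ v : κ → F, (∀ x ∉ T, v x = 0) → U *ᵥ v = v → v = 0) : T.card ≤ (U - 1).rank := by
  classical
  let W : Matrix κ T F := Matrix.of fun x s => if x = s.1 then 1 else 0
  have hW : ∀ (y : T → F) x, (W *ᵥ y) x = if hx : x ∈ T then y ⟨x, hx⟩ else 0 := fun y x => by
    simp only [Matrix.mulVec, dotProduct, W, Matrix.of_apply, ite_mul, one_mul, zero_mul]
    by_cases hx : x ∈ T
    · rw [dif_pos hx, Finset.sum_eq_single ⟨x, hx⟩ (fun s _ hs => if_neg fun e => hs (Subtype.ext e.symm)) (by simp),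
        if_pos rfl]
    · rw [dif_neg hx]
      exact Finset.sum_eq_zero fun s _ => if_neg fun (e : x = s.1) => hx (by rw [e]; exact s.2)
  have := TensorMax.card_le_rank (U - 1) W fun y hy => ?_
  · rwa [Fintype.card_coe] at this
  · rw [Matrix.sub_mulVec, Matrix.one_mulVec, sub_eq_zero] at hy
    have h0 := h _ (fun x hx => by rw [hW, dif_neg hx]) hy
    funext s
    have := congrFun h0 s.1
    rw [hW, dif_pos s.2] at this
    exact this

/-- A matrix moving the key `ψ` of a column to the key `φ` of a row fixes no vector on `φ < ψ`. -/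
theorem no_fixed_of_key {κ K : Type} [Fintype κ] [DecidableEq κ] [LinearOrder K] (U : Matrix κ κ F) (φ ψ : κ → K)
    (hU : ∀ x y, U x y ≠ 0 → φ x = ψ y) (v : κ → F) (hv : ∀ x, v x ≠ 0 → φ x < ψ x) (hfix : U *ᵥ v = v) : v = 0 := by
  classical
  by_contra hne
  obtain ⟨x₁, hx₁⟩ := Function.ne_iff.1 hne
  obtain ⟨x, hx, hmin⟩ := Finset.exists_min_image (Finset.univ.filter fun x => v x ≠ 0) φ
    ⟨x₁, Finset.mem_filter.2 ⟨Finset.mem_univ _, hx₁⟩⟩
  have hx' := (Finset.mem_filter.1 hx).2
  rw [← congrFun hfix x, Matrix.mulVec, dotProduct] at hx'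
  obtain ⟨y, -, hy⟩ := Finset.exists_ne_zero_of_sum_ne_zero hx'
  have h1 := hv y (right_ne_zero_of_mul hy)
  rw [← hU x y (left_ne_zero_of_mul hy)] at h1
  exact absurd (hmin y (Finset.mem_filter.2 ⟨Finset.mem_univ _, right_ne_zero_of_mul hy⟩)) (not_le.2 h1)

theorem card_eq_set (t : ℕ) (i : Fin (t + 1)) {j : Fin (t + 1)} (hij : i ≠ j) :
    ((Finset.univ : Finset (Fin (t + 1) → Fin m)).filter fun x => x i = x j).card = m ^ t := by
  obtain ⟨j', rfl⟩ := Fin.exists_succAbove_eq (Ne.symm hij)
  rw [show m ^ t = (Finset.univ : Finset (Fin t → Fin m)).card by simp]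
  refine Finset.card_nbij' (fun x k => x (i.succAbove k)) (fun w => i.insertNth (w j') w) (by simp) ?_ ?_ ?_
  · intro w _
    simp
  · intro x hx
    simp only [Finset.coe_filter, Set.mem_setOf_eq, Finset.mem_univ, true_and] at hx
    funext k
    rcases Fin.eq_self_or_eq_succAbove i k with rfl | ⟨k, rfl⟩
    · simpa using hx.symm
    · simp
  · intro w _
    simp

/-- Twice the number of increasing pairs. -/
theorem two_card_lt (t : ℕ) (i j : Fin (t + 1)) (hij : i ≠ j) :
    2 * ((Finset.univ : Finset (Fin (t + 1) → Fin m)).filter fun x => x i < x j).card + m ^ t = m * m ^ t := by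
  classical
  have h1 : ((Finset.univ : Finset (Fin (t + 1) → Fin m)).filter fun x => x j < x i).card =
      ((Finset.univ : Finset (Fin (t + 1) → Fin m)).filter fun x => x i < x j).card := by
    refine Finset.card_nbij' (fun x => x ∘ Equiv.swap i j) (fun x => x ∘ Equiv.swap i j) ?_ ?_ ?_ ?_ <;> intro x hx
    · simpa using hx
    · simpa using hx
    · funext k; simp
    · funext k; simp
  have h2 : (Finset.univ : Finset (Fin (t + 1) → Fin m)).card =
      ((Finset.univ : Finset (Fin (t + 1) → Fin m)).filter fun x => x i < x j).card +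
      ((Finset.univ : Finset (Fin (t + 1) → Fin m)).filter fun x => x j < x i).card +
      ((Finset.univ : Finset (Fin (t + 1) → Fin m)).filter fun x => x i = x j).card := by
    rw [← Finset.card_union_of_disjoint, ← Finset.card_union_of_disjoint]
    · congr 1
      ext x
      simp only [Finset.mem_univ, Finset.mem_union, Finset.mem_filter, true_and, true_iff]
      rcases lt_trichotomy (x i) (x j) with h | h | h <;> simp [h]
    · refine Finset.disjoint_left.2 fun x hx hx' => ?_
      simp only [Finset.mem_univ, Finset.mem_union, Finset.mem_filter, true_and] at hx hx'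
      rcases hx with h | h <;> simp [hx'] at h
    · refine Finset.disjoint_left.2 fun x hx hx' => ?_
      simp only [Finset.mem_filter, Finset.mem_univ, true_and] at hx hx'
      exact lt_asymm hx hx'
  rw [h1, card_eq_set t i hij, Finset.card_univ, Fintype.card_fun, Fintype.card_fin, Fintype.card_fin, pow_succ] at h2
  rw [mul_comm m]
  omega

theorem le_card_lt (hm : 3 ≤ m) (i j : Fin (t + 1)) (hij : i ≠ j) :
    m ^ t ≤ ((Finset.univ : Finset (Fin (t + 1) → Fin m)).filter fun x => x i < x j).card ∧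
      (4 ≤ m → m ^ t < ((Finset.univ : Finset (Fin (t + 1) → Fin m)).filter fun x => x i < x j).card) := by
  have h := two_card_lt (m := m) t i j hij
  have h3 : 3 * m ^ t ≤ m * m ^ t := Nat.mul_le_mul_right _ hm
  refine ⟨by omega, fun h4 => ?_⟩
  have : 4 * m ^ t ≤ m * m ^ t := Nat.mul_le_mul_right _ h4
  have : 0 < m ^ t := pow_pos (by omega) _
  omega

theorem rank_conj {κ : Type} [Fintype κ] [DecidableEq κ] (g h : GL κ F) :
    (((g * h * g⁻¹ : GL κ F) : Matrix κ κ F) - 1).rank = ((h : Matrix κ κ F) - 1).rank := by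
  have hu : ∀ a : GL κ F, IsUnit (a : Matrix κ κ F).det := fun a => (Matrix.isUnit_iff_isUnit_det _).1 a.isUnit
  rw [show ((g * h * g⁻¹ : GL κ F) : Matrix κ κ F) - 1 =
      (g : Matrix κ κ F) * ((h : Matrix κ κ F) - 1) * ((g⁻¹ : GL κ F) : Matrix κ κ F) by
    rw [mul_sub, sub_mul, mul_one, Units.val_mul, Units.val_mul, Units.mul_inv],
    Matrix.rank_mul_eq_left_of_isUnit_det _ _ (hu _), Matrix.rank_mul_eq_right_of_isUnit_det _ _ (hu _)]

theorem std_apply (A : Fin t → GL (Fin m) F) (σ : Equiv.Perm (Fin t)) (x y : Fin t → Fin m) :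
    ((pureGL A * factorPermGL m F σ : GL (Fin t → Fin m) F) : Matrix (Fin t → Fin m) (Fin t → Fin m) F) x y =
      ∏ k, (A k : Matrix (Fin m) (Fin m) F) (x k) (y (σ.symm k)) := by
  rw [Units.val_mul]
  show (pureM (fun k => (A k : Matrix (Fin m) (Fin m) F)) * factorPermM m F σ) x y = _
  rw [mul_factorPermM_apply]
  rfl

theorem std_key {A : Fin t → GL (Fin m) F} {σ : Equiv.Perm (Fin t)} {i j : Fin t} (hA : A i = 1) (hij : σ j = i)
    {x y : Fin t → Fin m}
    (h : ((pureGL A * factorPermGL m F σ : GL (Fin t → Fin m) F) : Matrix (Fin t → Fin m) (Fin t → Fin m) F) x y ≠ 0) :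
    x i = y j := by
  rw [std_apply, Finset.prod_ne_zero_iff] at h
  have e := h i (Finset.mem_univ i)
  rw [hA, Units.val_one, show σ.symm i = j by rw [← hij, Equiv.symm_apply_apply]] at e
  by_contra hne
  exact e (Matrix.one_apply_ne hne)

theorem gauge (D A : Fin t → GL (Fin m) F) (σ : Equiv.Perm (Fin t)) :
    pureGL D * (pureGL A * factorPermGL m F σ) * (pureGL D)⁻¹ =
      pureGL (fun k => D k * A k * (D (σ.symm k))⁻¹) * factorPermGL m F σ := by
  rw [← map_inv, ← mul_assoc, mul_assoc _ (factorPermGL m F σ), perm_pure, ← mul_assoc, ← map_mul, ← map_mul]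
  rfl

/-- A moved pair of factors. -/
theorem rank_perm_pair (hm : 3 ≤ m) (A : Fin (t + 1) → GL (Fin m) F) {σ : Equiv.Perm (Fin (t + 1))}
    {j : Fin (t + 1)} (hj : σ j ≠ j) :
    m ^ t ≤ (((pureGL A * factorPermGL m F σ : GL (Fin (t + 1) → Fin m) F) : Matrix (Fin (t + 1) → Fin m) (Fin (t + 1) → Fin m) F) - 1).rank ∧
    (4 ≤ m → m ^ t < (((pureGL A * factorPermGL m F σ : GL (Fin (t + 1) → Fin m) F) : Matrix (Fin (t + 1) → Fin m) (Fin (t + 1) → Fin m) F) - 1).rank) := by
  classical
  obtain ⟨i, hi⟩ : ∃ i, σ j = i := ⟨_, rfl⟩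
  let D : Fin (t + 1) → GL (Fin m) F := Function.update 1 i (A i)⁻¹
  obtain ⟨A', hA'⟩ : ∃ A' : Fin (t + 1) → GL (Fin m) F, A' = fun k => D k * A k * (D (σ.symm k))⁻¹ := ⟨_, rfl⟩
  have h1 : A' i = 1 := by
    rw [hA']
    simp only [D, Function.update_self]
    rw [show σ.symm i = j by rw [← hi, Equiv.symm_apply_apply], Function.update_of_ne (fun e => hj (hi.trans e.symm))]
    simp
  rw [← rank_conj (pureGL D) (pureGL A * factorPermGL m F σ), gauge, ← hA']
  obtain ⟨T, hT⟩ : ∃ T, T = (Finset.univ : Finset (Fin (t + 1) → Fin m)).filter fun x => x i < x j := ⟨_, rfl⟩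
  have := card_le_of_no_fixed (((pureGL A' * factorPermGL m F σ : GL (Fin (t + 1) → Fin m) F)) : Matrix (Fin (t + 1) → Fin m) (Fin (t + 1) → Fin m) F) T
    fun v hv hfix => no_fixed_of_key _ (fun x => x i) (fun x => x j) (fun x y h => std_key h1 hi h) v
      (fun x hx => by
        have := not_imp_comm.1 (hv x) hx
        rw [hT] at this
        exact (Finset.mem_filter.1 this).2) hfix
  have hle := le_card_lt (t := t) hm i j (fun e => hj (hi.trans e))
  rw [← hT] at hle
  exact ⟨hle.1.trans this, fun h4 => lt_of_lt_of_le (hle.2 h4) this⟩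

/-- A second relation on the factors makes the bound strict. -/
theorem rank_perm_strict (hm : 3 ≤ m) {A : Fin (t + 1) → GL (Fin m) F} {σ : Equiv.Perm (Fin (t + 1))}
    {j i j' i' : Fin (t + 1)} (hi : σ j = i) (hi' : σ j' = i') (hji : j ≠ i) (hii : i ≠ i') (hjj : j ≠ j')
    (hij' : i' ≠ j) (hsame : j' ≠ i') :
    m ^ t < (((pureGL A * factorPermGL m F σ : GL (Fin (t + 1) → Fin m) F) : Matrix (Fin (t + 1) → Fin m) (Fin (t + 1) → Fin m) F) - 1).rank := by
  classical
  let D₁ : GL (Fin m) F := (A i)⁻¹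
  let D : Fin (t + 1) → GL (Fin m) F :=
    Function.update (Function.update 1 i D₁) i' ((Function.update 1 i D₁ : Fin (t + 1) → GL (Fin m) F) j' * (A i')⁻¹)
  obtain ⟨A', hA'⟩ : ∃ A' : Fin (t + 1) → GL (Fin m) F, A' = fun k => D k * A k * (D (σ.symm k))⁻¹ := ⟨_, rfl⟩
  have h1 : A' i = 1 := by
    rw [hA']
    simp only [D, show σ.symm i = j by rw [← hi, Equiv.symm_apply_apply]]
    rw [Function.update_of_ne hii, Function.update_self, Function.update_of_ne (Ne.symm hij'), Function.update_of_ne hji]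
    simp [D₁]
  have h2 : A' i' = 1 := by
    rw [hA']
    simp only [D, show σ.symm i' = j' by rw [← hi', Equiv.symm_apply_apply], Function.update_self,
      Function.update_of_ne hsame]
    group
  rw [← rank_conj (pureGL D) (pureGL A * factorPermGL m F σ), gauge, ← hA']
  obtain ⟨T₀, hT₀⟩ : ∃ T, T = (Finset.univ : Finset (Fin (t + 1) → Fin m)).filter fun x => x i < x j := ⟨_, rfl⟩
  let a₀ : Fin m := ⟨0, by omega⟩
  let a₁ : Fin m := ⟨1, by omega⟩
  let w : Fin (t + 1) → Fin m := fun k => if k = i' then a₀ else a₁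
  have hwi : w i = a₁ := if_neg hii
  have hwj : w j = a₁ := if_neg (Ne.symm hij')
  have hwj' : w j' = a₁ := if_neg hsame
  have hw : w ∉ T₀ := by simp [hT₀, hwi, hwj]
  have := card_le_of_no_fixed (((pureGL A' * factorPermGL m F σ : GL (Fin (t + 1) → Fin m) F)) : Matrix (Fin (t + 1) → Fin m) (Fin (t + 1) → Fin m) F)
    (insert w T₀) fun v hv hfix => no_fixed_of_key _ (fun x => toLex (x i, x i')) (fun x => toLex (x j, x j'))
      (fun x y h => by rw [std_key h1 hi h, std_key h2 hi' h]) v (fun x hx => by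
        have h0 := not_imp_comm.1 (hv x) hx
        rcases Finset.mem_insert.1 h0 with rfl | h0
        · rw [hwi, hwj, hwj', show w i' = a₀ from if_pos rfl]
          exact Prod.Lex.toLex_lt_toLex.2 (Or.inr ⟨rfl, by simp [a₀, a₁, Fin.lt_def]⟩)
        · rw [hT₀] at h0
          exact Prod.Lex.toLex_lt_toLex.2 (Or.inl (Finset.mem_filter.1 h0).2)) hfix
  rw [Finset.card_insert_of_notMem hw] at this
  have hle := (le_card_lt (t := t) hm i j (Ne.symm hji)).1
  rw [← hT₀] at hle
  omega

/-- Outside transpositions of three-dimensional factors a moved factor costs more than a root element. -/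
theorem perm_is_swap (hm : 3 ≤ m) {A : Fin (t + 1) → GL (Fin m) F} {σ : Equiv.Perm (Fin (t + 1))}
    (hσ : σ ≠ 1)
    (hr : (((pureGL A * factorPermGL m F σ : GL (Fin (t + 1) → Fin m) F) : Matrix (Fin (t + 1) → Fin m) (Fin (t + 1) → Fin m) F) - 1).rank ≤ m ^ t) :
    m = 3 ∧ σ.IsSwap := by
  obtain ⟨j, hj⟩ : ∃ j, σ j ≠ j := by
    by_contra h
    push Not at h
    exact hσ (Equiv.ext h)
  refine ⟨by
    by_contra h3
    have := (rank_perm_pair hm A hj).2 (by omega)
    omega, ⟨j, σ j, Ne.symm hj, ?_⟩⟩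
  have h2 : σ (σ j) = j := by
    by_contra h2
    have := rank_perm_strict hm (A := A) (σ := σ) (j := j) (i := σ j) (j' := σ j) (i' := σ (σ j)) rfl rfl (Ne.symm hj)
      (fun e => hj (σ.injective e.symm)) (Ne.symm hj) h2 (fun e => hj (σ.injective e.symm))
    omega
  refine Equiv.ext fun k => ?_
  by_cases hk : k = j
  · subst hk; rw [Equiv.swap_apply_left]
  by_cases hk' : k = σ j
  · subst hk'; rw [Equiv.swap_apply_right, h2]
  rw [Equiv.swap_apply_of_ne_of_ne hk hk']
  by_contra hne
  have h4 : σ k ≠ j := fun e => hk' (σ.injective (e.trans h2.symm))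
  have := rank_perm_strict hm (A := A) (σ := σ) (j := j) (i := σ j) (j' := k) (i' := σ k) rfl rfl (Ne.symm hj)
    (fun e => hk (σ.injective e.symm)) (Ne.symm hk) h4 (Ne.symm hne)
  omega

theorem rank_facM (hm : 0 < m) (i : Fin (t + 1)) {f l : Fin m → F} (hf : f ≠ 0) (hl : l ≠ 0) :
    (facM i (vecMulVec f l)).rank = m ^ t := by
  classical
  rw [facM_spl, Matrix.rank_reindex]
  refine le_antisymm ?_ ?_
  · rw [show vecMulVec f l = Matrix.replicateCol (Fin 1) f * Matrix.replicateRow (Fin 1) l from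
      vecMulVec_eq (Fin 1) f l,
      show ((1 : Matrix (Fin t → Fin m) (Fin t → Fin m) F) ⊗ₖ
        (Matrix.replicateCol (Fin 1) f * Matrix.replicateRow (Fin 1) l)) =
      ((1 : Matrix (Fin t → Fin m) (Fin t → Fin m) F) ⊗ₖ Matrix.replicateCol (Fin 1) f) *
      ((1 : Matrix (Fin t → Fin m) (Fin t → Fin m) F) ⊗ₖ Matrix.replicateRow (Fin 1) l) by
        rw [← Matrix.mul_kronecker_mul, one_mul]]
    refine (Matrix.rank_mul_le_left _ _).trans ((Matrix.rank_le_card_width _).trans ?_)
    simp
  · obtain ⟨b, hb⟩ := Function.ne_iff.1 hl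
    obtain ⟨a, ha⟩ := Function.ne_iff.1 hf
    let W : Matrix ((Fin t → Fin m) × Fin m) (Fin t → Fin m) F :=
      Matrix.of fun p y => if p = (y, b) then 1 else 0
    have := TensorMax.card_le_rank ((1 : Matrix (Fin t → Fin m) (Fin t → Fin m) F) ⊗ₖ vecMulVec f l) W fun y hy => ?_
    · simpa using this
    · funext w
      have e := congrFun hy (w, a)
      simp only [Matrix.mulVec, dotProduct, W, Matrix.of_apply, kroneckerMap_apply, Fintype.sum_prod_type,
        Matrix.one_apply, ite_mul, one_mul, zero_mul, vecMulVec_apply, Prod.ext_iff, Pi.zero_apply] at e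
      simp only [ite_and, Finset.sum_ite_irrel, Finset.sum_const_zero, Finset.sum_ite_eq, Finset.sum_ite_eq',
        Finset.mem_univ, if_true, mul_ite, mul_zero] at e
      simpa [show f a ≠ 0 from ha, show l b ≠ 0 from hb] using e

theorem RootAt.rank (hm : 0 < m) {i : Fin (t + 1)} {g : GL (Fin (t + 1) → Fin m) F} (h : RootAt i g) :
    ((g : Matrix (Fin (t + 1) → Fin m) (Fin (t + 1) → Fin m) F) - 1).rank = m ^ t := by
  obtain ⟨f, l, hf, hl, -, hg⟩ := h
  rw [hg, facM_add, facM_one, add_sub_cancel_left, rank_facM hm i hf hl]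

theorem IsRoot.rank (hm : 0 < m) {g : GL (Fin (t + 1) → Fin m) F} (h : IsRoot g) :
    ((g : Matrix (Fin (t + 1) → Fin m) (Fin (t + 1) → Fin m) F) - 1).rank = m ^ t := by
  obtain ⟨i, h⟩ := h
  exact h.rank hm

end Cfsg.Agent.Classical.TensorPowerMax
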