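/-
A matrix carrying the standard root elements to root elements is a standard element.
-/
import Cfsg.Agent.Lib.Classical.TensorPowerMax.Rank

set_option autoImplicit false
set_option linter.unusedSectionVars false

namespace Cfsg.Agent.Classical.TensorPowerMax

open Matrix Cfsg.Geo
open Cfsg.Agent.Classical

variable {F : Type*} [Field F] {m t : ℕ}

theorem single_dot {a b : Fin m} (h : a ≠ b) : (Pi.single b (1 : F) : Fin m → F) ⬝ᵥ Pi.single a 1 = 0 := by
  simp [dotProduct_single, Pi.single_eq_of_ne h]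

/-- The standard root elements. -/
def stdRoot (i : Fin t) {a b : Fin m} (h : a ≠ b) : GL (Fin t → Fin m) F :=
  facGL i (tv (Pi.single a 1) (Pi.single b 1) (single_dot h))

theorem rootAt_std (i : Fin t) {a b : Fin m} (h : a ≠ b) : RootAt i (stdRoot (F := F) i h) :=
  rootAt_fac i (by simp) (by simp) _

theorem stdRoot_val (i : Fin t) {a b : Fin m} (h : a ≠ b) :
    (stdRoot (F := F) i h : Matrix (Fin t → Fin m) (Fin t → Fin m) F) = facM i (1 + Matrix.single a b 1) := by
  rw [stdRoot, facGL_val]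
  show facM i (1 + vecMulVec (Pi.single a 1) (Pi.single b 1)) = _
  rw [← Matrix.single_eq_single_vecMulVec_single]

/-- Adjacent standard roots do not commute. -/
theorem stdRoot_not_commute (i : Fin t) {a b c : Fin m} (hab : a ≠ b) (hbc : b ≠ c) :
    stdRoot (F := F) i hab * stdRoot i hbc ≠ stdRoot i hbc * stdRoot i hab := by
  intro h
  have e := congrArg (fun g : GL (Fin t → Fin m) F => (g : Matrix (Fin t → Fin m) (Fin t → Fin m) F)) h
  simp only [Units.val_mul, stdRoot_val, facM_mul] at e
  have e2 := facM_inj (lt_of_le_of_lt (Nat.zero_le _) a.isLt) i e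
  simp only [add_mul, mul_add, one_mul, mul_one, Matrix.single_mul_single_same] at e2
  rw [← add_assoc (1 + _), ← add_assoc (1 + _)] at e2
  by_cases hca : c = a
  · subst hca
    rw [Matrix.single_mul_single_same, mul_one] at e2
    have := congrFun (congrFun e2 c) c
    simp [Matrix.single_apply, hab, hab.symm] at this
  · rw [Matrix.single_mul_single_of_ne _ _ _ _ hca] at e2
    have := congrFun (congrFun e2 a) c
    simp [Matrix.single_apply, Matrix.one_apply, hab, hbc, hab.symm, hbc.symm, hca, Ne.symm hca] at this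

/-- Standard root elements to root elements. -/
theorem mem_std_of_roots (hm : 2 ≤ m) (ht : 0 < t) (g : GL (Fin t → Fin m) F)
    (h : ∀ (i : Fin t) (a b : Fin m) (hab : a ≠ b), IsRoot (g * stdRoot i hab * g⁻¹)) :
    g ∈ tensorWreathStandard m t F := by
  classical
  choose s hs using fun i a b hab => (h i a b hab : ∃ j, RootAt j (g * stdRoot i hab * g⁻¹))
  have hadj : ∀ i a b c (hab : a ≠ b) (hbc : b ≠ c), s i a b hab = s i b c hbc := by
    intro i a b c hab hbc
    by_contra hne
    have e := (hs i a b hab).commute hne (hs i b c hbc)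
    refine stdRoot_not_commute (F := F) i hab hbc ?_
    simp only [mul_assoc, inv_mul_cancel_left, mul_right_inj] at e
    rw [← mul_assoc, ← mul_assoc (stdRoot i hbc), mul_left_inj] at e
    exact e
  let a₀ : Fin m := ⟨0, by omega⟩
  let b₀ : Fin m := ⟨1, by omega⟩
  have hab₀ : a₀ ≠ b₀ := by simp [a₀, b₀, Fin.ext_iff]
  let π : Fin t → Fin t := fun i => s i a₀ b₀ hab₀
  have hall : ∀ i a b (hab : a ≠ b), s i a b hab = π i := by
    intro i a b hab
    by_cases h1 : b₀ = a
    · subst h1
      exact (hadj i a₀ b₀ b hab₀ hab).symm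
    · exact ((hadj i a₀ b₀ a hab₀ h1).trans (hadj i b₀ a b h1 hab)).symm
  obtain ⟨G, hG⟩ : ∃ G, G = (g : Matrix (Fin t → Fin m) (Fin t → Fin m) F) := ⟨_, rfl⟩
  have hmap : ∀ i Y, ∃ Y', G * facM i Y = facM (π i) Y' * G := by
    intro i
    let S : Set (Matrix (Fin m) (Fin m) F) := {Y | ∃ Y', G * facM i Y = facM (π i) Y' * G}
    have h1 : (1 : Matrix (Fin m) (Fin m) F) ∈ S := ⟨1, by rw [facM_one, facM_one, mul_one, one_mul]⟩
    have hadd : ∀ X Y, X ∈ S → Y ∈ S → X + Y ∈ S := by
      rintro X Y ⟨X', hX⟩ ⟨Y', hY⟩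
      exact ⟨X' + Y', by rw [facM_add, facM_add, mul_add, add_mul, hX, hY]⟩
    have hsmul : ∀ (c : F) X, X ∈ S → c • X ∈ S := by
      rintro c X ⟨X', hX⟩
      exact ⟨c • X', by rw [facM_smul, facM_smul, mul_smul_comm, smul_mul_assoc, hX]⟩
    have hmul : ∀ X Y, X ∈ S → Y ∈ S → X * Y ∈ S := by
      rintro X Y ⟨X', hX⟩ ⟨Y', hY⟩
      exact ⟨X' * Y', by rw [← facM_mul, ← facM_mul, ← mul_assoc, hX, mul_assoc, hY, mul_assoc]⟩
    have hsingle : ∀ a b, Matrix.single a b (1 : F) ∈ S := by
      have hoff : ∀ a b, a ≠ b → Matrix.single a b (1 : F) ∈ S := by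
        intro a b hab
        obtain ⟨f, l, -, -, -, hv⟩ := hs i a b hab
        rw [hall i a b hab] at hv
        have hr : (1 + Matrix.single a b (1 : F)) ∈ S := ⟨1 + vecMulVec f l, by
          rw [← hv, Units.val_mul, Units.val_mul, ← hG, Matrix.mul_assoc, hG, Units.inv_mul, Matrix.mul_one,
            stdRoot_val]⟩
        have := hadd _ _ hr (hsmul (-1 : F) _ h1)
        rwa [neg_one_smul, add_neg_cancel_comm] at this
      intro a b
      rcases eq_or_ne a b with rfl | hab
      · haveI : Nontrivial (Fin m) := Fin.nontrivial_iff_two_le.2 hm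
        obtain ⟨c, hc⟩ := exists_ne a
        have := hmul _ _ (hoff a c hc.symm) (hoff c a hc)
        rwa [Matrix.single_mul_single_same, mul_one] at this
      · exact hoff a b hab
    intro Y
    suffices hY : Y ∈ S from hY
    induction Y using Matrix.induction_on' with
    | h_zero => simpa using hsmul 0 _ h1
    | h_add X Y hX hY => exact hadd _ _ hX hY
    | h_std_basis a b c => simpa [Matrix.smul_single] using hsmul c _ (hsingle a b)
  have hGu : IsUnit G := hG ▸ g.isUnit
  have hm0 : 0 < m := by omega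
  have hπ : Function.Injective π := by
    intro i i' hii
    by_contra hne
    choose Φ hΦ using hmap i
    have huniq : ∀ Y Z, G * facM i Y = facM (π i) Z * G → Φ Y = Z := fun Y Z e =>
      facM_inj hm0 (π i) (hGu.mul_right_cancel ((hΦ Y).symm.trans e))
    let L : Matrix (Fin m) (Fin m) F →ₗ[F] Matrix (Fin m) (Fin m) F :=
      { toFun := Φ
        map_add' := fun X Y => huniq _ _ (by rw [facM_add, facM_add, mul_add, add_mul, hΦ, hΦ])
        map_smul' := fun c X => huniq _ _ (by
          rw [RingHom.id_apply, facM_smul, facM_smul, mul_smul_comm, smul_mul_assoc, hΦ]) }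
    have hinj : Function.Injective L := fun X Y (e : Φ X = Φ Y) =>
      facM_inj hm0 i (hGu.mul_left_cancel (by rw [hΦ X, hΦ Y, e]))
    have hsurj := LinearMap.surjective_of_injective hinj
    obtain ⟨Z, hZ⟩ := hmap i' (1 + Matrix.single a₀ b₀ 1)
    rw [← hii] at hZ
    have hcomm : ∀ W, Commute Z W := by
      intro W
      obtain ⟨Y, rfl⟩ := hsurj W
      refine facM_inj hm0 (π i) (hGu.mul_right_cancel ?_)
      show facM (π i) (Z * Φ Y) * G = facM (π i) (Φ Y * Z) * G
      rw [← facM_mul, ← facM_mul, Matrix.mul_assoc, ← hΦ, ← Matrix.mul_assoc, ← hZ, Matrix.mul_assoc,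
        facM_commute (Ne.symm hne), ← Matrix.mul_assoc, hΦ, Matrix.mul_assoc, hZ, ← Matrix.mul_assoc]
    obtain ⟨c, hc⟩ : ∃ c : F, Z = c • 1 := by
      obtain ⟨c, hc⟩ := Matrix.mem_range_scalar_of_commute_single (M := Z) fun a b _ => (hcomm _).symm
      exact ⟨c, by rw [← hc]; simp [Matrix.smul_one_eq_diagonal]⟩
    refine RootAt.not_scalar hm (rootAt_std (F := F) i' hab₀) c ?_
    rw [stdRoot_val]
    refine hGu.mul_left_cancel ?_
    rw [hZ, hc, facM_smul, facM_one, smul_mul_assoc, one_mul, mul_smul_comm, mul_one]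
  let P : Equiv.Perm (Fin t) := Equiv.ofBijective π (Finite.injective_iff_bijective.1 hπ)
  obtain ⟨A, hA⟩ := exists_pure_of_normalises ht hm0
    (G := factorPermM m F P⁻¹ * G) (((factorPermGL m F P⁻¹).isUnit).mul hGu) (fun i Y => by
      obtain ⟨Y', hY⟩ := hmap i Y
      refine ⟨Y', ?_⟩
      rw [Matrix.mul_assoc, hY, ← Matrix.mul_assoc, factorPermM_facM, show P⁻¹ (π i) = i from
        Equiv.symm_apply_apply P i, Matrix.mul_assoc])
  have e : factorPermGL m F P⁻¹ * g = pureGL A := Units.ext (by rw [Units.val_mul, ← hG]; exact hA)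
  have e2 : g = (factorPermGL m F P⁻¹)⁻¹ * pureGL A := by rw [← e, inv_mul_cancel_left]
  rw [e2]
  exact mul_mem (inv_mem (factorPermGL_mem _)) (pureGL_mem _)

end Cfsg.Agent.Classical.TensorPowerMax
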