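/-
A subalgebra of the matrices on a tensor power normalised by the standard elements is scalar or everything.
-/
import Cfsg.Agent.Lib.Classical.TensorPowerMax.Split

set_option autoImplicit false
set_option linter.unusedSectionVars false

namespace Cfsg.Agent.Classical.TensorPowerMax

open Matrix Cfsg.Geo
open Cfsg.Agent.Classical
open scoped Kronecker

variable {F : Type*} [Field F] {m t : ℕ}

/-- Sets closed under the algebra operations and conjugation by standard elements. -/
structure Closed (S : Set (Matrix (Fin t → Fin m) (Fin t → Fin m) F)) : Prop where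
  zero : (0 : Matrix (Fin t → Fin m) (Fin t → Fin m) F) ∈ S
  add : ∀ {A B}, A ∈ S → B ∈ S → A + B ∈ S
  smul : ∀ (c : F) {A}, A ∈ S → c • A ∈ S
  mul : ∀ {A B}, A ∈ S → B ∈ S → A * B ∈ S
  conj : ∀ a ∈ tensorWreathStandard m t F, ∀ {A}, A ∈ S →
    (a : Matrix (Fin t → Fin m) (Fin t → Fin m) F) * A * ((a⁻¹ : GL (Fin t → Fin m) F) : Matrix _ _ F) ∈ S

theorem Closed.sub {S : Set (Matrix (Fin t → Fin m) (Fin t → Fin m) F)} (hS : Closed S) {A B} (hA : A ∈ S)
    (hB : B ∈ S) : A - B ∈ S := by
  have := hS.add hA (hS.smul (-1) hB)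
  rwa [neg_one_smul, ← sub_eq_add_neg] at this

/-- A set of matrices closed under products containing all one-factor matrices contains every matrix. -/
theorem mem_of_facs (S : Set (Matrix (Fin t → Fin m) (Fin t → Fin m) F))
    (h1 : (1 : Matrix (Fin t → Fin m) (Fin t → Fin m) F) ∈ S) (hadd : ∀ A B, A ∈ S → B ∈ S → A + B ∈ S)
    (hsmul : ∀ (c : F) A, A ∈ S → c • A ∈ S) (hmul : ∀ A B, A ∈ S → B ∈ S → A * B ∈ S)
    (hf : ∀ i Y, facM i Y ∈ S) (M : Matrix (Fin t → Fin m) (Fin t → Fin m) F) : M ∈ S := by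
  classical
  have hp : ∀ A : Fin t → Matrix (Fin m) (Fin m) F, pureM A ∈ S := by
    intro A
    suffices ∀ s : Finset (Fin t), pureM (s.piecewise A (fun _ => 1)) ∈ S by simpa using this Finset.univ
    intro s
    induction s using Finset.induction with
    | empty => rw [Finset.piecewise_empty, pureM_one]; exact h1
    | insert i s hi ih =>
      have e : pureM ((insert i s).piecewise A fun _ => 1) =
          facM i (A i) * pureM (s.piecewise A fun _ => 1) := by
        rw [facM, pureM_mul, Finset.piecewise_insert]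
        congr 1
        funext j
        rcases eq_or_ne j i with rfl | hj
        · simp [Finset.piecewise_eq_of_notMem _ _ _ hi]
        · simp [Function.update_of_ne hj]
      exact e ▸ hmul _ _ (hf i (A i)) ih
  induction M using Matrix.induction_on' with
  | h_zero => simpa using hsmul 0 _ h1
  | h_add A B hA hB => exact hadd _ _ hA hB
  | h_std_basis x y c =>
    have e : Matrix.single x y c = c • pureM fun i => Matrix.single (x i) (y i) (1 : F) := by
      ext u v
      simp only [pureM, Matrix.smul_apply, Matrix.of_apply, smul_eq_mul]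
      by_cases h : x = u ∧ y = v
      · obtain ⟨rfl, rfl⟩ := h
        simp [Matrix.single_apply]
      · rw [Matrix.single_apply, if_neg h]
        obtain ⟨i, hi⟩ : ∃ i, ¬ (x i = u i ∧ y i = v i) := by
          by_contra hcon
          push Not at hcon
          exact h ⟨funext fun i => (hcon i).1, funext fun i => (hcon i).2⟩
        rw [Finset.prod_eq_zero (Finset.mem_univ i) (by rw [Matrix.single_apply, if_neg hi]), mul_zero]
    exact e ▸ hsmul c _ (hp _)

/-- A matrix on the factor `i` tensor one on the others. -/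
def Emb (i : Fin (t + 1)) (Y : Matrix (Fin m) (Fin m) F) (N : Matrix (Fin t → Fin m) (Fin t → Fin m) F) :
    Matrix (Fin (t + 1) → Fin m) (Fin (t + 1) → Fin m) F :=
  Matrix.reindex (spl i) (spl i) (N ⊗ₖ Y)

theorem emb_apply (i : Fin (t + 1)) (Y : Matrix (Fin m) (Fin m) F) (N : Matrix (Fin t → Fin m) (Fin t → Fin m) F)
    (p q : (Fin t → Fin m) × Fin m) : Emb i Y N (spl i p) (spl i q) = N p.1 q.1 * Y p.2 q.2 := by
  rw [Emb, Matrix.reindex_apply, Matrix.submatrix_apply, Equiv.symm_apply_apply, Equiv.symm_apply_apply,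
    kroneckerMap_apply]

theorem emb_mul (i : Fin (t + 1)) (Y Y' : Matrix (Fin m) (Fin m) F) (N N' : Matrix (Fin t → Fin m) (Fin t → Fin m) F) :
    Emb i Y N * Emb i Y' N' = Emb i (Y * Y') (N * N') := by
  rw [Emb, Emb, Emb, Matrix.mul_kronecker_mul, Matrix.reindex_apply, Matrix.reindex_apply, Matrix.reindex_apply,
    Matrix.submatrix_mul_equiv]

theorem emb_one (i : Fin (t + 1)) (Y : Matrix (Fin m) (Fin m) F) : Emb i Y 1 = facM i Y := (facM_spl i Y).symm

theorem emb_add (i : Fin (t + 1)) (Y : Matrix (Fin m) (Fin m) F) (N N' : Matrix (Fin t → Fin m) (Fin t → Fin m) F) :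
    Emb i Y (N + N') = Emb i Y N + Emb i Y N' := by
  ext x y; simp [Emb, add_mul]

theorem emb_smul (i : Fin (t + 1)) (Y : Matrix (Fin m) (Fin m) F) (c : F)
    (N : Matrix (Fin t → Fin m) (Fin t → Fin m) F) : Emb i Y (c • N) = c • Emb i Y N := by
  ext x y; simp [Emb, mul_assoc]

/-- Conjugation of an embedded matrix by a factor element. -/
theorem emb_conj (i : Fin (t + 1)) (b : GL (Fin m) F) (Y : Matrix (Fin m) (Fin m) F)
    (N : Matrix (Fin t → Fin m) (Fin t → Fin m) F) :
    (facGL i b : Matrix (Fin (t + 1) → Fin m) (Fin (t + 1) → Fin m) F) * Emb i Y N *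
      (((facGL i b)⁻¹ : GL (Fin (t + 1) → Fin m) F) : Matrix _ _ F) =
      Emb i ((b : Matrix (Fin m) (Fin m) F) * Y * ((b⁻¹ : GL (Fin m) F) : Matrix (Fin m) (Fin m) F)) N := by
  rw [← map_inv, facGL_val, facGL_val, ← emb_one, ← emb_one, emb_mul, emb_mul, one_mul, mul_one]

variable {S : Set (Matrix (Fin (t + 1) → Fin m) (Fin (t + 1) → Fin m) F)}

/-- The coefficients in the off-diagonal positions of one factor. -/
def offCoef (S : Set (Matrix (Fin (t + 1) → Fin m) (Fin (t + 1) → Fin m) F)) (i : Fin (t + 1)) :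
    Set (Matrix (Fin t → Fin m) (Fin t → Fin m) F) :=
  {N | ∀ r s : Fin m, r ≠ s → Emb i (Matrix.single r s 1) N ∈ S}

theorem single_one_mul (a b : Fin m) (M : Matrix (Fin m) (Fin m) F) (c d : Fin m) :
    Matrix.single a b (1 : F) * M * Matrix.single c d 1 = M b c • Matrix.single a d 1 := by
  rw [Matrix.single_mul_mul_single, one_mul, mul_one, Matrix.smul_single, smul_eq_mul, mul_one]

theorem Closed.offCoef_closed (hm : 3 ≤ m) (hS : Closed S) (i : Fin (t + 1)) : Closed (offCoef S i) where
  zero r s _ := by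
    have : Emb i (Matrix.single r s (1 : F)) (0 : Matrix (Fin t → Fin m) (Fin t → Fin m) F) = 0 := by
      ext x y; simp [Emb]
    exact this ▸ hS.zero
  add hA hB r s h := by rw [emb_add]; exact hS.add (hA r s h) (hB r s h)
  smul c _ hA r s h := by rw [emb_smul]; exact hS.smul c (hA r s h)
  mul hA hB r s h := by
    obtain ⟨u, -, hu⟩ := Finset.exists_mem_notMem_of_card_lt_card (s := {r, s}) (t := (Finset.univ : Finset (Fin m)))
      (lt_of_le_of_lt Finset.card_le_two (by rw [Finset.card_univ, Fintype.card_fin]; omega))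
    simp only [Finset.mem_insert, Finset.mem_singleton, not_or] at hu
    have := hS.mul (hA r u (Ne.symm hu.1)) (hB u s hu.2)
    rwa [emb_mul, Matrix.single_mul_single_same, mul_one] at this
  conj a ha _ hA r s h := by
    have := hS.conj _ (J_kr_mem i ha 1) (hA r s h)
    rwa [← map_inv, J_val, J_val, TensorMax.kr_inv, TensorMax.kr_val, TensorMax.kr_val, inv_one, Units.val_one,
      ← Emb, ← Emb, emb_mul, emb_mul, one_mul, mul_one] at this

/-- One off-diagonal coefficient gives all. -/
theorem mem_offCoef (hS : Closed S) (i : Fin (t + 1)) {r s : Fin m} (hrs : r ≠ s)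
    {N : Matrix (Fin t → Fin m) (Fin t → Fin m) F} (h : Emb i (Matrix.single r s 1) N ∈ S) : N ∈ offCoef S i := by
  intro r' s' h'
  obtain ⟨σ, hσr, hσs⟩ : ∃ σ : Equiv.Perm (Fin m), σ r = r' ∧ σ s = s' := by
    refine ⟨Equiv.swap (Equiv.swap r r' s) s' * Equiv.swap r r', ?_, ?_⟩
    · rw [Equiv.Perm.mul_apply, Equiv.swap_apply_left, Equiv.swap_apply_of_ne_of_ne ?_ h']
      intro e
      exact hrs ((Equiv.swap r r').injective (by rw [Equiv.swap_apply_left, ← e]))
    · rw [Equiv.Perm.mul_apply, Equiv.swap_apply_left]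
  let P : GL (Fin m) F :=
    ⟨σ⁻¹.permMatrix F, σ.permMatrix F, by rw [← Matrix.permMatrix_mul, mul_inv_cancel, Matrix.permMatrix_one],
      by rw [← Matrix.permMatrix_mul, inv_mul_cancel, Matrix.permMatrix_one]⟩
  have := hS.conj _ (facGL_mem i P) h
  rw [emb_conj] at this
  have e : (P : Matrix (Fin m) (Fin m) F) * Matrix.single r s 1 * ((P⁻¹ : GL (Fin m) F) : Matrix (Fin m) (Fin m) F) =
      Matrix.single r' s' 1 := by
    show (σ⁻¹.permMatrix F) * Matrix.single r s 1 * σ.permMatrix F = _
    ext a b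
    rw [Matrix.mul_apply, Finset.sum_eq_single s]
    · rw [Matrix.mul_single_apply_same]
      simp only [Equiv.Perm.permMatrix, PEquiv.toMatrix_apply, Equiv.toPEquiv_apply, Option.mem_def,
        Option.some.injEq, mul_one, Matrix.single_apply, ← hσr, ← hσs, Equiv.Perm.inv_def, Equiv.symm_apply_eq]
      by_cases h1 : a = σ r <;> by_cases h2 : σ s = b <;> simp [h1, h2, Ne.symm, eq_comm]
    · intro c _ hc
      rw [Matrix.mul_single_apply_of_ne _ _ _ _ _ hc, zero_mul]
    · simp
  rwa [e] at this

/-- A matrix is constant in a factor or gives an off-diagonal coefficient there. -/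
theorem exists_offCoef (hm : 3 ≤ m) (hS : Closed S) (i : Fin (t + 1))
    {M : Matrix (Fin (t + 1) → Fin m) (Fin (t + 1) → Fin m) F} (hM : M ∈ S) :
    (∃ M₀, M = Emb i 1 M₀) ∨ ∃ N ∈ offCoef S i, N ≠ 0 := by
  classical
  let blk : Fin m → Fin m → Matrix (Fin t → Fin m) (Fin t → Fin m) F := fun a b =>
    Matrix.of fun x y => M (spl i (x, a)) (spl i (y, b))
  have hM' : M = ∑ a, ∑ b, Emb i (Matrix.single a b 1) (blk a b) := by
    ext u v
    obtain ⟨⟨x, a⟩, rfl⟩ := (spl i).surjective u
    obtain ⟨⟨y, b⟩, rfl⟩ := (spl i).surjective v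
    simp only [Matrix.sum_apply, emb_apply, Matrix.single_apply]
    simp [blk, ite_and]
  have hEME : ∀ r s r' s', Emb i (Matrix.single r s (1 : F)) 1 * M * Emb i (Matrix.single r' s' 1) 1 =
      Emb i (Matrix.single r s' 1) (blk s r') := by
    intro r s r' s'
    conv_lhs => rw [hM']
    simp only [Finset.mul_sum, Finset.sum_mul, emb_mul, one_mul, mul_one, single_one_mul, Matrix.single_apply]
    rw [Finset.sum_eq_single s, Finset.sum_eq_single r']
    · simp
    · intro b _ hb
      rw [if_neg (by simp [hb]), zero_smul]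
      ext u v; simp [Emb]
    · simp
    · intro a _ ha
      refine Finset.sum_eq_zero fun b _ => ?_
      rw [if_neg (by simp [ha]), zero_smul]
      ext u v; simp [Emb]
    · simp
  have hd : ∀ {E : Matrix (Fin m) (Fin m) F} (_ : E * E = 0),
      Emb i E (1 : Matrix (Fin t → Fin m) (Fin t → Fin m) F) * M -
        M * Emb i E 1 - Emb i E 1 * M * Emb i E 1 ∈ S := by
    intro E hE
    let b : GL (Fin m) F := ⟨1 + E, 1 - E, one_add_sq_inv hE, one_sub_sq_inv hE⟩
    have h1 := hS.sub (hS.conj _ (facGL_mem i b) hM) hM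
    rw [← map_inv, facGL_val, facGL_val] at h1
    have e1 : facM i ((b : Matrix (Fin m) (Fin m) F)) = 1 + Emb i E (1 : Matrix (Fin t → Fin m) (Fin t → Fin m) F) := by
      rw [emb_one, show (b : Matrix (Fin m) (Fin m) F) = 1 + E from rfl, facM_add, facM_one]
    have e2 : facM i (((b⁻¹ : GL (Fin m) F) : Matrix (Fin m) (Fin m) F)) =
        1 - Emb i E (1 : Matrix (Fin t → Fin m) (Fin t → Fin m) F) := by
      rw [emb_one, show ((b⁻¹ : GL (Fin m) F) : Matrix (Fin m) (Fin m) F) = 1 + (-1 : F) • E by
        rw [neg_one_smul, ← sub_eq_add_neg]; rfl, facM_add, facM_one, facM_smul, neg_one_smul, ← sub_eq_add_neg]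
    rw [e1, e2] at h1
    convert h1 using 1
    noncomm_ring
  by_cases hoff : ∃ r s, r ≠ s ∧ blk s r ≠ 0
  · obtain ⟨r, s, hrs, hA⟩ := hoff
    obtain ⟨u, -, hu⟩ := Finset.exists_mem_notMem_of_card_lt_card (s := {r, s}) (t := (Finset.univ : Finset (Fin m)))
      (lt_of_le_of_lt Finset.card_le_two (by rw [Finset.card_univ, Fintype.card_fin]; omega))
    simp only [Finset.mem_insert, Finset.mem_singleton, not_or] at hu
    obtain ⟨hur, hus⟩ := hu
    obtain ⟨E₁, hE₁⟩ : ∃ E, E = Matrix.single r s (1 : F) := ⟨_, rfl⟩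
    obtain ⟨E₂, hE₂⟩ : ∃ E, E = Matrix.single r u (1 : F) := ⟨_, rfl⟩
    have z : ∀ {p q p' q' : Fin m}, q ≠ p' → Matrix.single p q (1 : F) * Matrix.single p' q' 1 = 0 :=
      fun h => Matrix.single_mul_single_of_ne _ _ _ _ h _
    have h12 : (E₁ + E₂) * (E₁ + E₂) = 0 := by
      rw [hE₁, hE₂, add_mul, mul_add, mul_add, z hrs.symm, z hrs.symm, z hur, z hur]; simp
    have h1 := hS.sub (hS.sub (hd h12) (hd (E := E₁) (hE₁ ▸ z hrs.symm))) (hd (E := E₂) (hE₂ ▸ z hur))
    obtain ⟨D, hD⟩ : ∃ D, D = Emb i (Matrix.single r u (1 : F)) (blk s r) + Emb i (Matrix.single r s 1) (blk u r) :=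
      ⟨_, rfl⟩
    have hadd' : Emb i (E₁ + E₂) (1 : Matrix (Fin t → Fin m) (Fin t → Fin m) F) = Emb i E₁ 1 + Emb i E₂ 1 := by
      rw [emb_one, emb_one, emb_one, facM_add]
    have hDS : D ∈ S := by
      have := hS.smul (-1) h1
      convert this using 1
      rw [hD, hadd', ← hEME r s r u, ← hEME r u r s, ← hE₁, ← hE₂, neg_one_smul]
      noncomm_ring
    -- separate the two terms
    have hb : Matrix.single u s (1 : F) * Matrix.single u s 1 = 0 := z (Ne.symm hus)
    let b : GL (Fin m) F := ⟨1 + Matrix.single u s 1, 1 - Matrix.single u s 1, one_add_sq_inv hb, one_sub_sq_inv hb⟩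
    have h2 := hS.sub hDS (hS.conj _ (facGL_mem i b) hDS)
    rw [hD, mul_add, add_mul, emb_conj, emb_conj] at h2
    have ev : ∀ x, x = u ∨ x = s → (b : Matrix (Fin m) (Fin m) F) * Matrix.single r x 1 *
        ((b⁻¹ : GL (Fin m) F) : Matrix (Fin m) (Fin m) F) = if x = u then Matrix.single r u 1 - Matrix.single r s 1
          else Matrix.single r s 1 := by
      intro x hx
      show (1 + Matrix.single u s (1 : F)) * Matrix.single r x 1 * (1 - Matrix.single u s 1) = _
      rw [add_mul, one_mul, z hrs.symm, add_zero, mul_sub, mul_one]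
      rcases hx with rfl | rfl
      · rw [if_pos rfl, Matrix.single_mul_single_same, one_mul]
      · rw [if_neg (Ne.symm hus), z (Ne.symm hus), sub_zero]
    rw [ev u (Or.inl rfl), ev s (Or.inr rfl), if_pos rfl, if_neg (Ne.symm hus)] at h2
    refine Or.inr ⟨blk s r, mem_offCoef hS i hrs ?_, hA⟩
    convert h2 using 1
    ext x y
    simp [Emb]
    ring
  · push Not at hoff
    by_cases hdiag : ∃ r s, r ≠ s ∧ blk r r ≠ blk s s
    · obtain ⟨r, s, hrs, hne⟩ := hdiag
      have h1 := hd (E := Matrix.single r s (1 : F)) (Matrix.single_mul_single_of_ne _ _ _ _ hrs.symm _)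
      rw [hEME, hoff r s hrs] at h1
      refine Or.inr ⟨blk s s - blk r r, mem_offCoef hS i hrs ?_, sub_ne_zero.2 (Ne.symm hne)⟩
      convert h1 using 1
      ext v w
      obtain ⟨⟨x, a⟩, rfl⟩ := (spl i).surjective v
      obtain ⟨⟨y, b⟩, rfl⟩ := (spl i).surjective w
      rw [Matrix.sub_apply, Matrix.sub_apply, Matrix.mul_apply, Matrix.mul_apply,
        ← (spl i).sum_comp, ← (spl i).sum_comp, Fintype.sum_prod_type, Fintype.sum_prod_type]
      simp only [emb_apply, Matrix.one_apply, Matrix.single_apply, Matrix.zero_apply, zero_mul, sub_zero]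
      by_cases ha : r = a <;> by_cases hb : s = b
      · subst ha hb
        simp [blk]
      · subst ha
        simp only [hb, and_false, if_false, mul_zero, true_and, mul_ite, ite_mul, mul_one, one_mul, zero_mul,
          Finset.sum_const_zero, Finset.sum_ite_eq, Finset.mem_univ, if_true, sub_zero]
        exact (congrFun (congrFun (hoff b s (Ne.symm hb)) x) y).symm
      · subst hb
        simp only [ha, false_and, if_false, mul_zero, and_true, mul_ite, ite_mul, mul_one, one_mul, zero_mul,
          Finset.sum_const_zero, Finset.sum_ite_eq', Finset.sum_ite_eq, Finset.mem_univ, if_true, zero_sub, sub_zero]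
        rw [eq_comm, neg_eq_zero]
        exact congrFun (congrFun (hoff r a ha) x) y
      · simp [ha, hb]
    · push Not at hdiag
      refine Or.inl ⟨blk ⟨0, by omega⟩ ⟨0, by omega⟩, ?_⟩
      ext u v
      obtain ⟨⟨x, a⟩, rfl⟩ := (spl i).surjective u
      obtain ⟨⟨y, b⟩, rfl⟩ := (spl i).surjective v
      rw [emb_apply]
      rcases eq_or_ne a b with rfl | hab
      · rw [Matrix.one_apply_eq, mul_one]
        rcases eq_or_ne a ⟨0, by omega⟩ with rfl | ha0
        · rfl
        · exact congrFun (congrFun (hdiag a _ ha0) x) y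
      · rw [Matrix.one_apply_ne hab, mul_zero]
        exact congrFun (congrFun (hoff b a hab.symm) x) y

/-- Off-diagonal coefficient one gives the whole factor. -/
theorem fac_mem (hm : 3 ≤ m) (hS : Closed S) (i : Fin (t + 1))
    (h : (1 : Matrix (Fin t → Fin m) (Fin t → Fin m) F) ∈ offCoef S i) (Y : Matrix (Fin m) (Fin m) F) :
    facM i Y ∈ S := by
  induction Y using Matrix.induction_on' with
  | h_zero =>
    convert hS.zero using 1
    rw [← emb_one]
    ext u v; simp [Emb]
  | h_add A B hA hB => rw [facM_add]; exact hS.add hA hB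
  | h_std_basis a b c =>
    rw [show Matrix.single a b c = c • Matrix.single a b (1 : F) by simp [Matrix.smul_single], facM_smul]
    refine hS.smul c ?_
    rw [← emb_one]
    rcases eq_or_ne a b with rfl | hab
    · haveI : Nontrivial (Fin m) := Fin.nontrivial_iff_two_le.2 (by omega)
      obtain ⟨d, hd⟩ := exists_ne a
      have := hS.mul (h a d hd.symm) (h d a hd)
      rwa [emb_mul, Matrix.single_mul_single_same, one_mul, mul_one] at this
    · exact h a b hab

theorem one_mem_of_closed (hm : 3 ≤ m) : ∀ (t : ℕ) (S : Set (Matrix (Fin t → Fin m) (Fin t → Fin m) F)), Closed S →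
    ∀ M ∈ S, M ≠ 0 → (1 : Matrix (Fin t → Fin m) (Fin t → Fin m) F) ∈ S := by
  intro t
  induction t with
  | zero =>
    intro S hS M hM hne
    have e : M = M default default • (1 : Matrix (Fin 0 → Fin m) (Fin 0 → Fin m) F) := by
      ext x y
      rw [Subsingleton.elim x default, Subsingleton.elim y default]
      simp
    have hc : M default default ≠ 0 := fun h => hne (by rw [e, h, zero_smul])
    have := hS.smul (M default default)⁻¹ (e ▸ hM)
    rwa [smul_smul, inv_mul_cancel₀ hc, one_smul] at this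
  | succ t ih =>
    intro S hS M hM hne
    rcases exists_offCoef hm hS 0 hM with ⟨M₀, rfl⟩ | ⟨N, hN, hN0⟩
    · let S' : Set (Matrix (Fin t → Fin m) (Fin t → Fin m) F) := {N | Emb 0 1 N ∈ S}
      have hS' : Closed S' :=
        { zero := by
            show Emb 0 1 0 ∈ S
            convert hS.zero using 1
            ext u v; simp [Emb]
          add := fun hA hB => by show Emb 0 1 _ ∈ S; rw [emb_add]; exact hS.add hA hB
          smul := fun c _ hA => by show Emb 0 1 _ ∈ S; rw [emb_smul]; exact hS.smul c hA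
          mul := fun hA hB => by
            have h' := hS.mul hA hB
            rwa [emb_mul, one_mul] at h'
          conj := fun a ha _ hA => by
            have h' := hS.conj _ (J_kr_mem 0 ha 1) hA
            rwa [← map_inv, J_val, J_val, TensorMax.kr_inv, TensorMax.kr_val, TensorMax.kr_val, inv_one,
              Units.val_one, ← Emb, ← Emb, emb_mul, emb_mul, one_mul, mul_one] at h' }
      have h0 : M₀ ≠ 0 := fun e => hne (by rw [e]; ext u v; simp [Emb])
      have h1 : Emb 0 1 (1 : Matrix (Fin t → Fin m) (Fin t → Fin m) F) ∈ S := ih S' hS' M₀ hM h0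
      rwa [emb_one, facM_one] at h1
    · have := fac_mem hm hS 0 (ih _ (hS.offCoef_closed hm 0) N hN hN0) 1
      rwa [facM_one] at this

/-- A non-scalar member makes the set everything. -/
theorem Closed.eq_univ (hm : 3 ≤ m) (hS : Closed S) {M : Matrix (Fin (t + 1) → Fin m) (Fin (t + 1) → Fin m) F}
    (hM : M ∈ S) (hns : ∀ c : F, M ≠ c • 1) (X : Matrix (Fin (t + 1) → Fin m) (Fin (t + 1) → Fin m) F) : X ∈ S := by
  classical
  obtain ⟨i, hi⟩ : ∃ i, (1 : Matrix (Fin t → Fin m) (Fin t → Fin m) F) ∈ offCoef S i := by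
    by_contra hcon
    push Not at hcon
    have hc : ∀ i, ∃ M₀, M = Emb i 1 M₀ := fun i => (exists_offCoef hm hS i hM).resolve_right fun ⟨N, hN, hN0⟩ =>
      hcon i (one_mem_of_closed hm t _ (hS.offCoef_closed hm i) N hN hN0)
    have hcomm : ∀ Z, M * Z = Z * M := fun Z => by
      refine mem_of_facs {Z | M * Z = Z * M} (by simp) (fun A B (hA : M * A = A * M) (hB : M * B = B * M) => ?_)
        (fun c A (hA : M * A = A * M) => ?_) (fun A B (hA : M * A = A * M) (hB : M * B = B * M) => ?_) (fun i Y => ?_) Z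
      · show M * (A + B) = (A + B) * M
        rw [mul_add, add_mul, hA, hB]
      · show M * (c • A) = (c • A) * M
        rw [mul_smul_comm, smul_mul_assoc, hA]
      · show M * (A * B) = A * B * M
        rw [← mul_assoc, hA, mul_assoc, hB, mul_assoc]
      · show M * facM i Y = facM i Y * M
        obtain ⟨M₀, hM₀⟩ := hc i
        rw [hM₀, ← emb_one, emb_mul, emb_mul, one_mul, mul_one, one_mul, mul_one]
    obtain ⟨c, hc'⟩ := Matrix.mem_range_scalar_of_commute_single (M := M) fun a b _ => (hcomm _).symm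
    exact hns c (by rw [← hc']; simp [Matrix.smul_one_eq_diagonal])
  have hfac : ∀ k Y, facM k Y ∈ S := by
    intro k Y
    have h1 := fac_mem hm hS i hi Y
    have h2 := hS.conj _ (factorPermGL_mem (F := F) (m := m) (Equiv.swap i k)) h1
    rwa [show (factorPermGL m F (Equiv.swap i k) : Matrix (Fin (t + 1) → Fin m) (Fin (t + 1) → Fin m) F) * facM i Y =
      facM k Y * (factorPermGL m F (Equiv.swap i k) : Matrix (Fin (t + 1) → Fin m) (Fin (t + 1) → Fin m) F) by
        show factorPermM m F _ * _ = _ * factorPermM m F _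
        rw [factorPermM_facM, Equiv.swap_apply_left], mul_assoc, Units.mul_inv, mul_one] at h2
  refine mem_of_facs S ?_ (fun A B => hS.add) (fun c A => hS.smul c) (fun A B => hS.mul) hfac X
  have := fac_mem hm hS i hi 1
  rwa [facM_one] at this

end Cfsg.Agent.Classical.TensorPowerMax
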