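/-
An overgroup of the tensor power stabiliser without all transvections: radical elements at a factor are scalar, and
an element stabilising a fibre is a Kronecker product.
-/
import Cfsg.Agent.Lib.Classical.TensorPowerMax.Algebra
import Cfsg.Agent.Lib.Classical.TensorMax.Main

set_option autoImplicit false
set_option linter.unusedSectionVars false

namespace Cfsg.Agent.Classical.TensorPowerMax

open Matrix Cfsg.Geo
open Cfsg.Agent.Classical
open Cfsg.Agent.Classical.TensorMax (kr kr_val kr_mul kr_one kr_inv rmat rmat_apply InR)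
open scoped Kronecker

variable {F : Type*} [Field F] {m t : ℕ}

theorem det_facM (i : Fin (t + 1)) (Y : Matrix (Fin m) (Fin m) F) : (facM i Y).det = Y.det ^ (m ^ t) := by
  rw [facM_spl, Matrix.det_reindex_self, det_kronecker, Matrix.det_one, one_pow, one_mul, Fintype.card_fun,
    Fintype.card_fin, Fintype.card_fin]

theorem det_perm_sq (σ : Equiv.Perm (Fin t)) :
    (factorPermM m F σ).det * (factorPermM m F σ).det = 1 := by
  have hT : (factorPermM m F σ)ᵀ = factorPermM m F σ⁻¹ := by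
    ext x y
    simp only [Matrix.transpose_apply, factorPermM, Matrix.of_apply]
    refine if_congr ⟨fun h => ?_, fun h => ?_⟩ rfl rfl
    · funext k; rw [h]; simp
    · funext k; rw [h]; simp
  nth_rewrite 2 [← Matrix.det_transpose]
  rw [hT, ← Matrix.det_mul, factorPermM_mul, mul_inv_cancel, factorPermM_one, Matrix.det_one]

/-- The determinant of a standard element, raised to the size of a factor, is a power of the fibre size. -/
theorem det_std (hm : 0 < m) {a : GL (Fin t → Fin m) F} (ha : a ∈ tensorWreathStandard m t F) :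
    ∃ c : F, c ≠ 0 ∧ (a : Matrix (Fin t → Fin m) (Fin t → Fin m) F).det ^ m = c ^ (m ^ t) := by
  classical
  obtain ⟨A, σ, rfl⟩ := std_decomp ha
  obtain ⟨d, hd, hd'⟩ : ∃ d : F, d ≠ 0 ∧ (factorPermM m F σ).det ^ m = d ^ (m ^ t) := by
    have h2 := det_perm_sq (F := F) (m := m) σ
    refine ⟨(factorPermM m F σ).det, fun h => by rw [h, zero_mul] at h2; exact zero_ne_one h2, ?_⟩
    rcases Nat.eq_zero_or_pos t with rfl | ht
    · rw [pow_zero, pow_one, Subsingleton.elim σ 1, factorPermM_one, Matrix.det_one, one_pow]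
    · have hpar : m % 2 = (m ^ t) % 2 := by
        rw [Nat.pow_mod]
        rcases Nat.mod_two_eq_zero_or_one m with h | h <;> rw [h]
        · rw [zero_pow (by omega), Nat.zero_mod]
        · simp
      have hk : ∀ k : ℕ, (factorPermM m F σ).det ^ k = (factorPermM m F σ).det ^ (k % 2) := fun k => by
        conv_lhs => rw [← Nat.mod_add_div k 2, pow_add, pow_mul, sq, h2, one_pow, mul_one]
      rw [hk m, hk (m ^ t), hpar]
  suffices h : ∀ s : Finset (Fin t), ∃ c : F, c ≠ 0 ∧
      (pureM (s.piecewise (fun k => (A k : Matrix (Fin m) (Fin m) F)) (fun _ => 1))).det ^ m = c ^ (m ^ t) by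
    obtain ⟨c, hc, hc'⟩ := h Finset.univ
    refine ⟨c * d, mul_ne_zero hc hd, ?_⟩
    rw [Units.val_mul, Matrix.det_mul, mul_pow, mul_pow, ← hc', ← hd']
    simp [pureGL_val, factorPermGL]
  intro s
  induction s using Finset.induction with
  | empty => exact ⟨1, one_ne_zero, by rw [Finset.piecewise_empty, pureM_one, Matrix.det_one, one_pow, one_pow]⟩
  | insert i s hi ih =>
    obtain ⟨c, hc, hc'⟩ := ih
    have e : pureM ((insert i s).piecewise (fun k => (A k : Matrix (Fin m) (Fin m) F)) fun _ => 1) =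
        facM i (A i : Matrix (Fin m) (Fin m) F) *
          pureM (s.piecewise (fun k => (A k : Matrix (Fin m) (Fin m) F)) fun _ => 1) := by
      rw [facM, pureM_mul, Finset.piecewise_insert]
      congr 1
      funext j
      rcases eq_or_ne j i with rfl | hj
      · simp [Finset.piecewise_eq_of_notMem _ _ _ hi]
      · simp [Function.update_of_ne hj]
    obtain ⟨t', rfl⟩ : ∃ t', t = t' + 1 := ⟨t - 1, by have := i.isLt; omega⟩
    refine ⟨(A i : Matrix (Fin m) (Fin m) F).det * c, mul_ne_zero ?_ hc, ?_⟩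
    · exact ((Matrix.isUnit_iff_isUnit_det _).1 (A i).isUnit).ne_zero
    · rw [e, Matrix.det_mul, det_facM, mul_pow, mul_pow, hc', ← pow_mul, ← pow_succ]

section Overgroup

variable {X : Subgroup (GL (Fin (t + 1) → Fin m) F)} (i : Fin (t + 1))

/-- The overgroup seen at one factor. -/
def XI (X : Subgroup (GL (Fin (t + 1) → Fin m) F)) (i : Fin (t + 1)) :
    Subgroup (GL ((Fin t → Fin m) × Fin m) F) := X.comap (J i).toMonoidHom

theorem mem_XI {g : GL ((Fin t → Fin m) × Fin m) F} : g ∈ XI X i ↔ J i g ∈ X := Iff.rfl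

variable (hN : tensorWreathStandard m (t + 1) F ⊓ specialLinear (Fin (t + 1) → Fin m) F ≤ X)

include hN

theorem right_mem {b : GL (Fin m) F} (hb : (b : Matrix (Fin m) (Fin m) F).det = 1) :
    kr (1 : GL (Fin t → Fin m) F) b ∈ XI X i :=
  hN ⟨J_kr_mem i (one_mem _) b, mem_specialLinear_iff.2 (by
    rw [MulEquiv.coe_toMonoidHom, J_det, kr_val, det_kronecker, hb, Units.val_one, Matrix.det_one, one_pow, one_pow, mul_one])⟩

theorem left_mem {a : GL (Fin t → Fin m) F} (ha : a ∈ tensorWreathStandard m t F) (hm : 0 < m) :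
    ∃ d : Fin m → F, (∀ k, d k ≠ 0) ∧ ∃ g ∈ XI X i, (g : Matrix ((Fin t → Fin m) × Fin m) _ F) =
      (a : Matrix (Fin t → Fin m) (Fin t → Fin m) F) ⊗ₖ Matrix.diagonal d := by
  classical
  obtain ⟨c, hc, hc'⟩ := det_std hm ha
  let d : Fin m → F := Function.update 1 ⟨0, hm⟩ c⁻¹
  have hdd : (Matrix.diagonal d).det = c⁻¹ := by
    rw [Matrix.det_diagonal, Finset.prod_update_of_mem (Finset.mem_univ _)]
    simp
  have hd : ∀ k, d k ≠ 0 := fun k => by
    by_cases h : k = ⟨0, hm⟩ <;> simp [d, h, hc]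
  let D : GL (Fin m) F := ((Matrix.isUnit_iff_isUnit_det _).2
    (isUnit_iff_ne_zero.2 (hdd ▸ inv_ne_zero hc : (Matrix.diagonal d).det ≠ 0))).unit
  refine ⟨d, hd, kr a D, hN ⟨J_kr_mem i ha D, mem_specialLinear_iff.2 ?_⟩, by rw [kr_val, IsUnit.unit_spec]⟩
  rw [MulEquiv.coe_toMonoidHom, J_det, kr_val, det_kronecker, IsUnit.unit_spec, hdd, Fintype.card_fin, Fintype.card_fun, Fintype.card_fin,
    Fintype.card_fin, hc', inv_pow, mul_inv_cancel₀ (pow_ne_zero _ hc)]

omit hN in
/-- The coefficients of elementary elements at the split factor. -/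
def Alg (X : Subgroup (GL (Fin (t + 1) → Fin m) F)) (i : Fin (t + 1)) :
    Set (Matrix (Fin t → Fin m) (Fin t → Fin m) F) :=
  {M | ∀ k l : Fin m, k ≠ l → ∀ c : F, ∃ g ∈ XI X i, (g : Matrix ((Fin t → Fin m) × Fin m) _ F) =
    1 + (c • M) ⊗ₖ Matrix.single k l 1}

omit hN in
theorem single_sq {k l : Fin m} (h : k ≠ l) (A B : Matrix (Fin t → Fin m) (Fin t → Fin m) F) :
    (A ⊗ₖ Matrix.single k l (1 : F)) * (B ⊗ₖ Matrix.single k l 1) = 0 := by
  rw [← Matrix.mul_kronecker_mul, Matrix.single_mul_single_of_ne _ _ _ _ h.symm, Matrix.kronecker_zero]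

/-- One position suffices. -/
theorem mem_alg {k l : Fin m} (hkl : k ≠ l) {M : Matrix (Fin t → Fin m) (Fin t → Fin m) F}
    (h : ∀ c : F, ∃ g ∈ XI X i, (g : Matrix ((Fin t → Fin m) × Fin m) _ F) =
      1 + (c • M) ⊗ₖ Matrix.single k l 1) : M ∈ Alg X i := by
  intro k' l' h' c
  obtain ⟨σ, hσk, hσl⟩ : ∃ σ : Equiv.Perm (Fin m), σ k = k' ∧ σ l = l' := by
    refine ⟨Equiv.swap (Equiv.swap k k' l) l' * Equiv.swap k k', ?_, ?_⟩
    · rw [Equiv.Perm.mul_apply, Equiv.swap_apply_left, Equiv.swap_apply_of_ne_of_ne ?_ h']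
      intro e
      exact hkl ((Equiv.swap k k').injective (by rw [Equiv.swap_apply_left, ← e]))
    · rw [Equiv.Perm.mul_apply, Equiv.swap_apply_left]
  haveI : Nonempty (Fin m) := ⟨k⟩
  obtain ⟨B, hB, d, hd, hBv⟩ := TensorMax.exists_monomial (F := F) σ
  obtain ⟨g, hg, hgv⟩ := h (c * d l / d k)
  refine ⟨kr 1 B * g * (kr 1 B)⁻¹, mul_mem (mul_mem (right_mem i hN hB) hg) (inv_mem (right_mem i hN hB)), ?_⟩
  have key : (B : Matrix (Fin m) (Fin m) F) * Matrix.single k l 1 =
      (d k / d l) • (Matrix.single k' l' (1 : F) * (B : Matrix (Fin m) (Fin m) F)) := by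
    ext x y
    rw [Matrix.smul_apply, smul_eq_mul]
    by_cases hy : y = l
    · subst hy
      rw [Matrix.mul_single_apply_same, mul_one, hBv]
      by_cases hx : x = k'
      · subst hx
        rw [Matrix.single_mul_apply_same, one_mul, if_pos hσk.symm, hBv, if_pos hσl.symm]
        field_simp [hd]
      · rw [Matrix.single_mul_apply_of_ne _ _ _ _ _ hx, mul_zero, if_neg (by rw [hσk]; exact hx)]
    · rw [Matrix.mul_single_apply_of_ne _ _ _ _ _ hy]
      by_cases hx : x = k'
      · subst hx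
        rw [Matrix.single_mul_apply_same, one_mul, hBv, if_neg (fun e => hy (σ.injective (by rw [← e, hσl]))),
          mul_zero]
      · rw [Matrix.single_mul_apply_of_ne _ _ _ _ _ hx, mul_zero]
  rw [Units.val_mul, Units.val_mul, hgv, mul_add, add_mul, mul_one, Units.mul_inv, kr_inv, kr_val, kr_val,
    ← Matrix.mul_kronecker_mul, ← Matrix.mul_kronecker_mul, key, smul_mul_assoc (d k / d l), Matrix.mul_assoc (Matrix.single k' l' (1 : F)), Units.mul_inv, mul_one,
    inv_one, Units.val_one, one_mul, mul_one, Matrix.kronecker_smul, Matrix.smul_kronecker, Matrix.smul_kronecker,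
    smul_smul]
  congr 2
  field_simp [hd]

theorem alg_closed (hm : 3 ≤ m) : Closed (Alg X i) where
  zero k l _ c := ⟨1, one_mem _, by simp⟩
  smul a M hM k l hkl c := by
    obtain ⟨g, hg, hgv⟩ := hM k l hkl (c * a)
    exact ⟨g, hg, by rw [hgv, smul_smul]⟩
  add := fun {M M'} hM hM' k l hkl c => by
    obtain ⟨g, hg, hgv⟩ := hM k l hkl c
    obtain ⟨g', hg', hgv'⟩ := hM' k l hkl c
    refine ⟨g * g', mul_mem hg hg', ?_⟩
    rw [Units.val_mul, hgv, hgv', mul_add, add_mul, add_mul, single_sq hkl, one_mul, one_mul, mul_one, add_zero,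
      smul_add, Matrix.add_kronecker, add_assoc]
  mul := fun {M M'} hM hM' => by
    obtain ⟨k, l, hkl⟩ : ∃ k l : Fin m, k ≠ l := ⟨⟨0, by omega⟩, ⟨1, by omega⟩, by simp [Fin.ext_iff]⟩
    refine mem_alg i hN hkl fun c => ?_
    obtain ⟨u, -, hu⟩ := Finset.exists_mem_notMem_of_card_lt_card (s := {k, l}) (t := (Finset.univ : Finset (Fin m)))
      (lt_of_le_of_lt Finset.card_le_two (by rw [Finset.card_univ, Fintype.card_fin]; omega))
    simp only [Finset.mem_insert, Finset.mem_singleton, not_or] at hu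
    obtain ⟨g₁, hg₁, e₁⟩ := hM k u (Ne.symm hu.1) c
    obtain ⟨g₂, hg₂, e₂⟩ := hM' u l hu.2 1
    rw [one_smul] at e₂
    refine ⟨g₁ * g₂ * g₁⁻¹ * g₂⁻¹, mul_mem (mul_mem (mul_mem hg₁ hg₂) (inv_mem hg₁)) (inv_mem hg₂), ?_⟩
    obtain ⟨A, hA⟩ : ∃ A, A = (c • M) ⊗ₖ Matrix.single k u (1 : F) := ⟨_, rfl⟩
    obtain ⟨B, hB⟩ : ∃ B, B = M' ⊗ₖ Matrix.single u l (1 : F) := ⟨_, rfl⟩
    rw [← hA] at e₁
    rw [← hB] at e₂
    have i₁ : ((g₁⁻¹ : GL ((Fin t → Fin m) × Fin m) F) : Matrix ((Fin t → Fin m) × Fin m) _ F) = 1 - A :=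
      (left_inv_eq_right_inv (a := (g₁ : Matrix ((Fin t → Fin m) × Fin m) _ F)) (Units.inv_mul g₁)
        (e₁ ▸ one_add_sq_inv (hA ▸ single_sq (Ne.symm hu.1) _ _)))
    have i₂ : ((g₂⁻¹ : GL ((Fin t → Fin m) × Fin m) F) : Matrix ((Fin t → Fin m) × Fin m) _ F) = 1 - B :=
      (left_inv_eq_right_inv (a := (g₂ : Matrix ((Fin t → Fin m) × Fin m) _ F)) (Units.inv_mul g₂)
        (e₂ ▸ one_add_sq_inv (hB ▸ single_sq hu.2 _ _)))
    have hAA : A * A = 0 := hA ▸ single_sq (Ne.symm hu.1) _ _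
    have hBB : B * B = 0 := hB ▸ single_sq hu.2 _ _
    have hBA : B * A = 0 := by
      rw [hA, hB, ← Matrix.mul_kronecker_mul, Matrix.single_mul_single_of_ne _ _ _ _ hkl.symm, Matrix.kronecker_zero]
    have hAB : A * B = (c • (M * M')) ⊗ₖ Matrix.single k l (1 : F) := by
      rw [hA, hB, ← Matrix.mul_kronecker_mul, Matrix.single_mul_single_same, one_mul, smul_mul_assoc]
    rw [Units.val_mul, Units.val_mul, Units.val_mul, e₁, e₂, i₁, i₂, ← hAB]
    simp only [add_mul, mul_add, sub_mul, mul_sub, one_mul, mul_one, mul_assoc, hAA, hBB, hBA, mul_zero, zero_mul,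
      sub_zero, add_zero, zero_add]
    abel
  conj a ha M hM := by
    obtain ⟨k, l, hkl⟩ : ∃ k l : Fin m, k ≠ l := ⟨⟨0, by omega⟩, ⟨1, by omega⟩, by simp [Fin.ext_iff]⟩
    refine mem_alg i hN hkl fun c => ?_
    obtain ⟨d, hd, G, hG, hGv⟩ := left_mem i hN ha (by omega)
    obtain ⟨g, hg, hgv⟩ := hM k l hkl (c * d l / d k)
    have hGi : ((G⁻¹ : GL ((Fin t → Fin m) × Fin m) F) : Matrix ((Fin t → Fin m) × Fin m) _ F) =
        ((a⁻¹ : GL (Fin t → Fin m) F) : Matrix (Fin t → Fin m) (Fin t → Fin m) F) ⊗ₖ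
          Matrix.diagonal (fun j => (d j)⁻¹) := by
      refine left_inv_eq_right_inv (a := (G : Matrix ((Fin t → Fin m) × Fin m) _ F)) (Units.inv_mul G) ?_
      rw [hGv, ← Matrix.mul_kronecker_mul, Units.mul_inv, Matrix.diagonal_mul_diagonal,
        show (fun j => d j * (d j)⁻¹) = fun _ => (1 : F) from funext fun j => mul_inv_cancel₀ (hd j),
        Matrix.diagonal_one, Matrix.one_kronecker_one]
    refine ⟨G * g * G⁻¹, mul_mem (mul_mem hG hg) (inv_mem hG), ?_⟩
    rw [Units.val_mul, Units.val_mul, hgv, mul_add, add_mul, mul_one, Units.mul_inv, hGv, hGi,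
      ← Matrix.mul_kronecker_mul, ← Matrix.mul_kronecker_mul,
      show Matrix.diagonal d * Matrix.single k l (1 : F) * Matrix.diagonal (fun j => (d j)⁻¹) =
        (d k / d l) • Matrix.single k l (1 : F) by
          ext u w
          rw [Matrix.mul_diagonal, Matrix.diagonal_mul, Matrix.smul_apply, smul_eq_mul, Matrix.single_apply]
          split_ifs with h
          · obtain ⟨rfl, rfl⟩ := h; ring
          · ring]
    congr 1
    rw [mul_smul_comm, smul_mul_assoc, Matrix.kronecker_smul, Matrix.smul_kronecker, Matrix.smul_kronecker, smul_smul]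
    congr 1
    field_simp [hd]

variable (hX : ¬ specialLinear (Fin (t + 1) → Fin m) F ≤ X)

include hX

/-- The coefficient set holds only scalars. -/
theorem alg_scalar (hm : 3 ≤ m) (ht : 0 < t) {M : Matrix (Fin t → Fin m) (Fin t → Fin m) F} (hM : M ∈ Alg X i) :
    ∃ c : F, M = c • 1 := by
  by_contra hcon
  push Not at hcon
  obtain ⟨t', rfl⟩ : ∃ t', t = t' + 1 := ⟨t - 1, by omega⟩
  have hall := (alg_closed i hN hm).eq_univ hm hM hcon
  refine hX fun g hg => ?_
  obtain ⟨G, rfl⟩ := (J i).surjective g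
  rw [← mem_XI]
  haveI : Nontrivial ((Fin (t' + 1) → Fin m) × Fin m) :=
    ⟨⟨(fun _ => ⟨0, by omega⟩, ⟨0, by omega⟩), (fun _ => ⟨0, by omega⟩, ⟨1, by omega⟩), by simp [Fin.ext_iff]⟩⟩
  refine (specialLinear_le_iff (XI X i)).2 ?_ (mem_specialLinear_iff.2 (by
    rw [← J_det i G]; exact mem_specialLinear_iff.1 hg))
  have hoff : ∀ (x y : Fin (t' + 1) → Fin m) (k l : Fin m), k ≠ l → ∀ (hne : (x, k) ≠ (y, l)) (c : F),
      transGL hne c ∈ XI X i := by
    intro x y k l hkl hne c
    obtain ⟨g, hg, hgv⟩ := hall (Matrix.single x y 1) k l hkl c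
    have e : g = transGL hne c := Units.ext (by
      rw [hgv, transGL_coe, Matrix.transvection]
      congr 1
      ext ⟨a, b⟩ ⟨a', b'⟩
      simp [Matrix.single_apply, Prod.ext_iff]
      split_ifs <;> simp_all)
    exact e ▸ hg
  rintro ⟨x, k⟩ ⟨y, l⟩ hne c
  by_cases hkl : k = l
  · subst hkl
    obtain ⟨u, hu⟩ : ∃ u : Fin m, u ≠ k := by
      haveI : Nontrivial (Fin m) := Fin.nontrivial_iff_two_le.2 (by omega)
      exact exists_ne k
    have h1 : (x, k) ≠ (x, u) := by simp [hu.symm]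
    have h2 : (x, u) ≠ (y, k) := by simp [hu]
    have e : transGL h1 c * transGL h2 1 = transGL hne c * (transGL h2 1 * transGL h1 c) := by
      refine Units.ext ?_
      simp only [Units.val_mul, transGL_coe, Matrix.transvection, add_mul, mul_add, one_mul, mul_one,
        Matrix.single_mul_single_same, Matrix.single_mul_single_of_ne _ _ _ _ h1.symm,
        Matrix.single_mul_single_of_ne _ _ _ _ (Ne.symm hne), Matrix.single_mul_single_of_ne _ _ _ _ h2.symm,
        add_zero, mul_zero]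
      abel
    rw [show transGL hne c = transGL h1 c * transGL h2 1 * (transGL h2 1 * transGL h1 c)⁻¹ by
      rw [e, mul_inv_cancel_right]]
    exact mul_mem (mul_mem (hoff _ _ _ _ hu.symm h1 c) (hoff _ _ _ _ hu h2 1))
      (inv_mem (mul_mem (hoff _ _ _ _ hu h2 1) (hoff _ _ _ _ hu.symm h1 c)))
  · exact hoff x y k l hkl hne c

/-- Radical elements are scalar in each position. -/
theorem inR_scalar (hm : 3 ≤ m) (ht : 0 < t) {o : Fin m} {φ : Fin m → Matrix (Fin t → Fin m) (Fin t → Fin m) F}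
    (hφ : InR (XI X i) o φ) (j : Fin m) : ∃ c : F, φ j = c • 1 := by
  classical
  by_cases hj : j = o
  · exact ⟨0, by rw [hj, hφ.1, zero_smul]⟩
  refine alg_scalar i hN hX hm ht ?_
  obtain ⟨k, -, hk⟩ := Finset.exists_mem_notMem_of_card_lt_card (s := {o, j}) (t := (Finset.univ : Finset (Fin m)))
    (lt_of_le_of_lt Finset.card_le_two (by rw [Finset.card_univ, Fintype.card_fin]; omega))
  simp only [Finset.mem_insert, Finset.mem_singleton, not_or] at hk
  refine mem_alg i hN (Ne.symm hk.1) fun c => ?_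
  obtain ⟨h0, g, hg, hgv⟩ := hφ
  obtain ⟨B, hB⟩ : ∃ B : GL (Fin m) F, B = transGL (Ne.symm hk.2) c := ⟨_, rfl⟩
  have hBd : (B : Matrix (Fin m) (Fin m) F).det = 1 := hB ▸ mem_specialLinear_iff.1 (transGL_mem _ _)
  have hBm := right_mem i hN hBd
  refine ⟨g * kr 1 B * g⁻¹ * (kr 1 B)⁻¹, mul_mem (mul_mem (mul_mem hg hBm) (inv_mem hg)) (inv_mem hBm), ?_⟩
  have hgi := TensorMax.inR_val_inv h0 hgv
  obtain ⟨T, hT⟩ : ∃ T, T = (1 : Matrix (Fin t → Fin m) (Fin t → Fin m) F) ⊗ₖ Matrix.single j k c := ⟨_, rfl⟩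
  have hTv : (kr (1 : GL (Fin t → Fin m) F) B : Matrix ((Fin t → Fin m) × Fin m) _ F) = 1 + T := by
    rw [kr_val, hB, transGL_coe, Matrix.transvection, Units.val_one, Matrix.kronecker_add, Matrix.one_kronecker_one, hT]
  have hTi : (((kr (1 : GL (Fin t → Fin m) F) B)⁻¹ : GL ((Fin t → Fin m) × Fin m) F) :
      Matrix ((Fin t → Fin m) × Fin m) _ F) = 1 - T := by
    refine left_inv_eq_right_inv (a := (kr (1 : GL (Fin t → Fin m) F) B : Matrix ((Fin t → Fin m) × Fin m) _ F))
      (Units.inv_mul _) ?_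
    rw [hTv]
    refine one_add_sq_inv ?_
    rw [hT, ← Matrix.mul_kronecker_mul, Matrix.single_mul_single_of_ne _ _ _ _ hk.2, Matrix.kronecker_zero]
  have hRT : rmat o φ * T = (c • φ j) ⊗ₖ Matrix.single o k (1 : F) := by
    ext ⟨x, u⟩ ⟨y, w⟩
    rw [hT, Matrix.mul_apply, Fintype.sum_prod_type]
    by_cases hu : u = o
    · subst hu
      by_cases hw : w = k
      · subst hw
        simp [rmat_apply, Matrix.one_apply, Matrix.single_apply]
        ring
      · simp [rmat_apply, Matrix.single_apply, Ne.symm hw]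
    · simp [rmat_apply, hu, Matrix.single_apply, Ne.symm hu]
  have hTR : ∀ ψ : Fin m → Matrix (Fin t → Fin m) (Fin t → Fin m) F, T * rmat o ψ = 0 := by
    intro ψ
    ext ⟨x, u⟩ ⟨y, w⟩
    rw [hT, Matrix.mul_apply, Fintype.sum_prod_type, Matrix.zero_apply]
    refine Finset.sum_eq_zero fun a _ => Finset.sum_eq_zero fun b _ => ?_
    by_cases hb : b = o
    · simp [hb, Matrix.single_apply, hk.1]
    · simp [rmat_apply, hb]
  have hT2 : T * T = 0 := by
    rw [hT, ← Matrix.mul_kronecker_mul, Matrix.single_mul_single_of_ne _ _ _ _ hk.2, Matrix.kronecker_zero]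
  have hRn : rmat o (-φ) = -rmat o φ := by
    ext p q; by_cases hp : p.2 = o <;> simp [rmat_apply, hp]
  have hRR : rmat o φ * rmat o φ = 0 := TensorMax.rmat_mul_rmat φ h0
  rw [Units.val_mul, Units.val_mul, Units.val_mul, hgv, hgi, hTv, hTi, hRn, ← hRT]
  simp only [add_mul, mul_add, mul_sub, one_mul, mul_one, mul_neg, neg_mul, mul_assoc, hRR, hTR, hT2, mul_zero,
    neg_zero, add_zero, zero_add, sub_zero, zero_mul]
  abel

end Overgroup

end Cfsg.Agent.Classical.TensorPowerMax
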