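/-
An element of the overgroup stabilising a fibre of one factor is a Kronecker product there.
-/
import Cfsg.Agent.Lib.Classical.TensorPowerMax.Radical

set_option autoImplicit false
set_option linter.unusedSectionVars false

namespace Cfsg.Agent.Classical.TensorPowerMax

open Matrix Cfsg.Geo
open Cfsg.Agent.Classical
open Cfsg.Agent.Classical.TensorMax (kr kr_val kr_mul kr_one kr_inv rmat rmat_apply InR left_mul_rmat)
open scoped Kronecker

variable {F : Type*} [Field F] {m t : ℕ}

/-- An element of `X` stabilising a fibre lies in the tensor stabiliser. -/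
theorem stab_fibre {X : Subgroup (GL (Fin (t + 1) → Fin m) F)} (i₀ : Fin (t + 1))
    (hN : tensorWreathStandard m (t + 1) F ⊓ specialLinear (Fin (t + 1) → Fin m) F ≤ X)
    (hX : ¬ specialLinear (Fin (t + 1) → Fin m) F ≤ X) (hm : 3 ≤ m) (ht : 0 < t) {o : Fin m}
    {h : GL ((Fin t → Fin m) × Fin m) F} (hh : h ∈ XI X i₀)
    (h0 : ∀ x k y, k ≠ o → (h : Matrix ((Fin t → Fin m) × Fin m) ((Fin t → Fin m) × Fin m) F) (x, k) (y, o) = 0)
    (h0' : ∀ x k y, k ≠ o → ((h⁻¹ : GL ((Fin t → Fin m) × Fin m) F) : Matrix ((Fin t → Fin m) × Fin m) ((Fin t → Fin m) × Fin m) F) (x, k) (y, o) = 0) :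
    ∃ a b, h = kr a b := by
  classical
  have hne : Nonempty (Fin t → Fin m) := ⟨fun _ => ⟨0, by omega⟩⟩
  obtain ⟨H, hH⟩ : ∃ H, H = (h : Matrix ((Fin t → Fin m) × Fin m) ((Fin t → Fin m) × Fin m) F) := ⟨_, rfl⟩
  obtain ⟨H', hH'⟩ : ∃ H', H' = ((h⁻¹ : GL ((Fin t → Fin m) × Fin m) F) : Matrix ((Fin t → Fin m) × Fin m) ((Fin t → Fin m) × Fin m) F) := ⟨_, rfl⟩
  have hHH : H * H' = 1 := by rw [hH, hH', ← Units.val_mul, mul_inv_cancel, Units.val_one]
  have hH'H : H' * H = 1 := by rw [hH, hH', ← Units.val_mul, inv_mul_cancel, Units.val_one]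
  rw [← hH] at h0
  rw [← hH'] at h0'
  let A : Matrix (Fin t → Fin m) (Fin t → Fin m) F := Matrix.of fun x y => H (x, o) (y, o)
  let A' : Matrix (Fin t → Fin m) (Fin t → Fin m) F := Matrix.of fun x y => H' (x, o) (y, o)
  have hAA : A' * A = 1 := Matrix.ext fun x y => by
    have e := congrFun (congrFun hH'H (x, o)) (y, o)
    rw [Matrix.mul_apply, Fintype.sum_prod_type] at e
    rw [Matrix.mul_apply]
    refine Eq.trans (Finset.sum_congr rfl fun z _ => ?_) (e.trans ?_)
    · rw [Finset.sum_eq_single o (fun k _ hk => by rw [h0 z k y hk, mul_zero]) (by simp)]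
      rfl
    · simp [Matrix.one_apply]
  have hAA' : A * A' = 1 := mul_eq_one_comm.1 hAA
  let a : GL (Fin t → Fin m) F := ⟨A, A', hAA', hAA⟩
  -- conjugates of the scalar radical elements are scalar
  have key : ∀ j, j ≠ o → ∃ σ : Fin m → F, ∀ p q, (if q.2 = j then H p (q.1, o) else 0) =
      ∑ k, σ k * (if p.2 = o then H (p.1, k) q else 0) := by
    intro j hj
    haveI : Nontrivial (Fin m) := ⟨⟨j, o, hj⟩⟩
    obtain ⟨g, hgX, hg⟩ : ∃ g ∈ XI X i₀, (g : Matrix ((Fin t → Fin m) × Fin m) ((Fin t → Fin m) × Fin m) F) = 1 + rmat o (Pi.single j (1 : Matrix (Fin t → Fin m) (Fin t → Fin m) F)) := by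
      refine ⟨kr 1 (transGL (Ne.symm hj) 1), right_mem i₀ hN (mem_specialLinear_iff.1 (transGL_mem _ _)), ?_⟩
      ext ⟨x, k⟩ ⟨y, i⟩
      rw [kr_val, kroneckerMap_apply, transGL_coe]
      by_cases hk : k = o <;> by_cases hi : i = j <;> by_cases hxy : x = y <;>
        simp [rmat_apply, Matrix.transvection, Matrix.one_apply, Matrix.single_apply, hk, hi, hxy, Ne.symm, eq_comm,
          Prod.ext_iff]
    let ψ : Fin m → Matrix (Fin t → Fin m) (Fin t → Fin m) F := fun i => Matrix.of fun x y =>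
      (H * rmat o (Pi.single j (1 : Matrix (Fin t → Fin m) (Fin t → Fin m) F)) * H') (x, o) (y, i)
    have hrow : H * rmat o (Pi.single j (1 : Matrix (Fin t → Fin m) (Fin t → Fin m) F)) * H' = rmat o ψ := by
      ext ⟨x, k⟩ q
      by_cases hk : k = o
      · subst hk; simp [rmat_apply, ψ]
      · rw [rmat_apply, if_neg hk, Matrix.mul_apply]
        refine Finset.sum_eq_zero fun l _ => ?_
        rw [Matrix.mul_apply, Finset.sum_eq_zero, zero_mul]
        intro r _
        by_cases hr : r.2 = o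
        · rw [show r = (r.1, o) from Prod.ext rfl hr, h0 x k r.1 hk, zero_mul]
        · rw [rmat_apply, if_neg hr, mul_zero]
    have hψo : ψ o = 0 := Matrix.ext fun x y => by
      simp only [ψ, Matrix.of_apply, Matrix.zero_apply]
      rw [Matrix.mul_apply]
      refine Finset.sum_eq_zero fun l _ => ?_
      by_cases hl : l.2 = o
      · rw [Matrix.mul_apply, Finset.sum_eq_zero, zero_mul]
        intro r _
        by_cases hr : r.2 = o <;> simp [rmat_apply, hr, hl, Ne.symm hj]
      · rw [show l = (l.1, l.2) from rfl, h0' l.1 l.2 y hl, mul_zero]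
    have hin : InR (XI X i₀) o ψ := ⟨hψo, h * g * h⁻¹, mul_mem (mul_mem hh hgX) (inv_mem hh), by
      rw [Units.val_mul, Units.val_mul, hg, ← hH, ← hH', mul_add, add_mul, mul_one, hHH, hrow]⟩
    choose σ hσ using inR_scalar i₀ hN hX hm ht hin
    refine ⟨σ, fun p q => ?_⟩
    have e : H * rmat o (Pi.single j (1 : Matrix (Fin t → Fin m) (Fin t → Fin m) F)) = rmat o ψ * H := by
      rw [← hrow, mul_assoc (H * rmat o (Pi.single j (1 : Matrix (Fin t → Fin m) (Fin t → Fin m) F))), hH'H, mul_one]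
    have h1 := congrFun (congrFun e p) q
    rw [Matrix.mul_apply, Matrix.mul_apply, Fintype.sum_prod_type, Fintype.sum_prod_type] at h1
    refine Eq.trans ?_ (h1.trans ?_)
    · obtain ⟨y, i⟩ := q
      by_cases hi : i = j
      · subst hi
        simp [rmat_apply, Matrix.one_apply]
      · simp [rmat_apply, hi]
    · obtain ⟨x, k⟩ := p
      by_cases hk : k = o
      · subst hk
        simp only [rmat_apply, if_true, hσ, Matrix.smul_apply, Matrix.one_apply, smul_eq_mul, mul_ite, mul_one,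
          mul_zero, ite_mul, zero_mul]
        rw [Finset.sum_comm]
        simp
      · simp [rmat_apply, hk]
  choose σ hσ using key
  let D : Fin m → Fin m → Matrix (Fin t → Fin m) (Fin t → Fin m) F := fun k i => Matrix.of fun x y =>
    if k = o then (if i = o then H (x, o) (y, o) else 0) else H (x, k) (y, i)
  let S : Matrix (Fin m) (Fin m) F := Matrix.of fun j k =>
    if hj : j = o then (if k = o then 1 else 0) else (if k = o then 0 else σ j hj k)
  have hσo : ∀ j (hj : j ≠ o), σ j hj o = 0 := fun j hj => by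
    -- read off the diagonal block at the distinguished column
    obtain ⟨x₀⟩ := hne
    have h1 : ∀ x y, (0 : F) = σ j hj o * A x y := fun x y => by
      have e := hσ j hj (x, o) (y, o)
      rw [if_neg (Ne.symm hj), Finset.sum_eq_single o] at e
      · simpa [A] using e
      · intro k _ hk
        rw [if_pos rfl, h0 x k y hk, mul_zero]
      · simp
    obtain ⟨y, hy⟩ : ∃ y, A x₀ y ≠ 0 := by
      by_contra hcon
      push Not at hcon
      have := congrFun (congrFun hAA' x₀) x₀
      rw [Matrix.mul_apply, Finset.sum_eq_zero (fun z _ => by rw [hcon z, zero_mul]), Matrix.one_apply_eq] at this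
      exact zero_ne_one this
    exact (mul_eq_zero.1 (h1 x₀ y).symm).resolve_right hy
  have hSD : ∀ j i, ∑ k, S j k • D k i = if j = i then A else 0 := by
    intro j i
    by_cases hj : j = o
    · rw [hj]
      rw [Finset.sum_eq_single o (fun k _ hk => by simp [S, hk]) (by simp)]
      ext x y
      by_cases hi : i = o
      · subst hi; simp [S, D, A]
      · simp [S, D, hi, Ne.symm hi]
    · ext x y
      have e := hσ j hj (x, o) (y, i)
      simp only at e
      rw [Matrix.sum_apply]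
      refine Eq.trans (Finset.sum_congr rfl fun k _ => ?_) (e.symm.trans ?_)
      · by_cases hk : k = o
        · subst hk; simp [S, hj, hσo j hj]
        · simp [S, D, hj, hk]
      · by_cases hi : j = i
        · subst hi; simp [A]
        · simp [hi, Ne.symm hi]
  have hA0 : A ≠ 0 := fun e => by
    obtain ⟨x₀⟩ := hne
    have := congrFun (congrFun hAA' x₀) x₀
    rw [e, zero_mul, Matrix.zero_apply, Matrix.one_apply_eq] at this
    exact zero_ne_one this
  have hSdet : S.det ≠ 0 := by
    intro hdet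
    obtain ⟨c, hc, hcS⟩ := Matrix.exists_vecMul_eq_zero_iff.2 hdet
    obtain ⟨i, hi⟩ := Function.ne_iff.1 hc
    have e1 : c i • A = ∑ j, c j • ∑ k, S j k • D k i := by
      rw [Finset.sum_eq_single i (fun j _ hji => by rw [hSD, if_neg hji, smul_zero]) (by simp), hSD, if_pos rfl]
    have e2 : ∑ j, c j • ∑ k, S j k • D k i = ∑ k, (Matrix.vecMul c S) k • D k i := by
      simp only [Finset.smul_sum, smul_smul, Matrix.vecMul, dotProduct, Finset.sum_smul]
      exact Finset.sum_comm
    rw [e2, hcS] at e1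
    simp only [Pi.zero_apply, zero_smul, Finset.sum_const_zero] at e1
    exact hA0 ((smul_eq_zero.1 e1).resolve_left hi)
  let bS : GL (Fin m) F := ((Matrix.isUnit_iff_isUnit_det S).2 (isUnit_iff_ne_zero.2 hSdet)).unit
  obtain ⟨B, hB⟩ : ∃ B : Matrix (Fin m) (Fin m) F, B = ((bS⁻¹ : GL (Fin m) F) : Matrix (Fin m) (Fin m) F) := ⟨_, rfl⟩
  have hBS : B * S = 1 := by
    rw [hB, show S = (bS : Matrix (Fin m) (Fin m) F) from (IsUnit.unit_spec _).symm, ← Units.val_mul, inv_mul_cancel, Units.val_one]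
  have hD : ∀ k i, D k i = B k i • A := fun k i => by
    calc D k i = ∑ l, (B * S) k l • D l i := by simp [hBS, Matrix.one_apply]
      _ = ∑ j, B k j • ∑ l, S j l • D l i := by
        simp only [Matrix.mul_apply, Finset.sum_smul, Finset.smul_sum, smul_smul]
        exact Finset.sum_comm
      _ = B k i • A := by
        rw [Finset.sum_eq_single i (fun j _ hji => by rw [hSD, if_neg hji, smul_zero]) (by simp), hSD, if_pos rfl]
  have hBo : ∀ k, B k o = if k = o then 1 else 0 := fun k => by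
    have e := congrFun (congrFun hBS k) o
    rw [Matrix.mul_apply, Finset.sum_eq_single o (fun j _ hj => by simp [S, hj]) (by simp)] at e
    simpa [S, Matrix.one_apply] using e
  let φ : Fin m → Matrix (Fin t → Fin m) (Fin t → Fin m) F := fun i => if i = o then 0 else A' * Matrix.of fun x y => H (x, o) (y, i)
  have hfac : H = (kr a bS⁻¹ : Matrix ((Fin t → Fin m) × Fin m) ((Fin t → Fin m) × Fin m) F) * (1 + rmat o φ) := by
    rw [kr_val, ← hB, mul_add, mul_one, left_mul_rmat o φ _ hBo]
    ext ⟨x, k⟩ ⟨y, i⟩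
    rw [Matrix.add_apply, kroneckerMap_apply, rmat_apply]
    have e := congrFun (congrFun (hD k i) x) y
    rw [Matrix.smul_apply, smul_eq_mul] at e
    rw [show (a : Matrix (Fin t → Fin m) (Fin t → Fin m) F) x y * B k i = B k i * A x y from mul_comm _ _, ← e]
    by_cases hk : k = o <;> by_cases hi : i = o
    · subst hk; subst hi; simp [D, φ]
    · subst hk
      simp only [D, Matrix.of_apply, if_true, hi, if_false, zero_add, φ]
      show _ = (A * (A' * Matrix.of fun x y => H (x, k) (y, i))) x y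
      rw [← mul_assoc, hAA', one_mul]; rfl
    · subst hi
      simp [D, hk, h0 x k y hk]
    · simp [D, hk]
  have hscal : ∀ j, ∃ c : F, φ j = c • 1 := by
    intro j
    by_cases hj : j = o
    · exact ⟨0, by simp [φ, hj]⟩
    obtain ⟨k, -, hk⟩ := Finset.exists_mem_notMem_of_card_lt_card (s := {o, j}) (t := (Finset.univ : Finset (Fin m)))
      (lt_of_le_of_lt Finset.card_le_two (by rw [Finset.card_univ, Fintype.card_fin]; omega))
    simp only [Finset.mem_insert, Finset.mem_singleton, not_or] at hk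
    obtain ⟨e, he⟩ : ∃ e : GL (Fin m) F, e = transGL (Ne.symm hk.2) 1 := ⟨_, rfl⟩
    have hed : (e : Matrix (Fin m) (Fin m) F).det = 1 := he ▸ mem_specialLinear_iff.1 (transGL_mem _ _)
    have hed' : ((bS⁻¹ * e * bS : GL (Fin m) F) : Matrix (Fin m) (Fin m) F).det = 1 := by
      rw [Units.val_mul, Units.val_mul, Matrix.det_mul, Matrix.det_mul, hed, mul_one, ← Matrix.det_mul, Units.inv_mul,
        Matrix.det_one]
    obtain ⟨P, hP⟩ : ∃ P, P = kr a bS⁻¹ := ⟨_, rfl⟩
    rw [← hP] at hfac
    obtain ⟨g₃, hg₃⟩ : ∃ g, g = h * kr 1 e * h⁻¹ * (kr 1 (bS⁻¹ * e * bS))⁻¹ := ⟨_, rfl⟩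
    have hg₃X : g₃ ∈ XI X i₀ := hg₃ ▸ mul_mem (mul_mem (mul_mem hh (right_mem i₀ hN hed)) (inv_mem hh))
      (inv_mem (right_mem i₀ hN hed'))
    obtain ⟨R, hR⟩ : ∃ R, R = rmat o φ := ⟨_, rfl⟩
    have hRR : R * R = 0 := hR ▸ TensorMax.rmat_mul_rmat φ (by simp [φ])
    obtain ⟨T, hT⟩ : ∃ T, T = (1 : Matrix (Fin t → Fin m) (Fin t → Fin m) F) ⊗ₖ Matrix.single j k (1 : F) := ⟨_, rfl⟩
    have hev : (kr (1 : GL (Fin t → Fin m) F) e : Matrix ((Fin t → Fin m) × Fin m) ((Fin t → Fin m) × Fin m) F) = 1 + T := by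
      rw [kr_val, he, transGL_coe, Matrix.transvection, Units.val_one, Matrix.kronecker_add, Matrix.one_kronecker_one, hT]
    have hT2 : T * T = 0 := by
      rw [hT, ← Matrix.mul_kronecker_mul, Matrix.single_mul_single_of_ne _ _ _ _ hk.2, Matrix.kronecker_zero]
    have hTR : T * R = 0 := by
      ext ⟨x, u⟩ ⟨y, w⟩
      rw [hT, hR, Matrix.mul_apply, Fintype.sum_prod_type, Matrix.zero_apply]
      refine Finset.sum_eq_zero fun a _ => Finset.sum_eq_zero fun b _ => ?_
      by_cases hb : b = o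
      · simp [hb, Matrix.single_apply, hk.1]
      · simp [rmat_apply, hb]
    have hRT : R * T = φ j ⊗ₖ Matrix.single o k (1 : F) := by
      ext ⟨x, u⟩ ⟨y, w⟩
      rw [hT, hR, Matrix.mul_apply, Fintype.sum_prod_type]
      by_cases hu : u = o
      · subst hu
        by_cases hw : w = k
        · subst hw
          simp [rmat_apply, Matrix.one_apply, Matrix.single_apply]
        · simp [rmat_apply, Matrix.single_apply, Ne.symm hw]
      · simp [rmat_apply, hu, Matrix.single_apply, Ne.symm hu]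
    have hei : (((kr (1 : GL (Fin t → Fin m) F) (bS⁻¹ * e * bS))⁻¹ : GL ((Fin t → Fin m) × Fin m) F) :
        Matrix ((Fin t → Fin m) × Fin m) ((Fin t → Fin m) × Fin m) F) = (P : Matrix ((Fin t → Fin m) × Fin m) ((Fin t → Fin m) × Fin m) F) * (1 - T) *
          ((P⁻¹ : GL ((Fin t → Fin m) × Fin m) F) : Matrix ((Fin t → Fin m) × Fin m) ((Fin t → Fin m) × Fin m) F) := by
      have e1 : kr (1 : GL (Fin t → Fin m) F) (bS⁻¹ * e * bS) = P * kr 1 e * P⁻¹ := by
        rw [hP, kr_inv, kr_mul, kr_mul, inv_inv, mul_one, mul_inv_cancel]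
      rw [e1, show (P * kr 1 e * P⁻¹)⁻¹ = P * (kr 1 e)⁻¹ * P⁻¹ by group, Units.val_mul, Units.val_mul]
      congr 2
      refine left_inv_eq_right_inv (a := (kr (1 : GL (Fin t → Fin m) F) e : Matrix ((Fin t → Fin m) × Fin m) ((Fin t → Fin m) × Fin m) F))
        (Units.inv_mul _) ?_
      rw [hev]
      exact one_add_sq_inv hT2
    have hhi : ((h⁻¹ : GL ((Fin t → Fin m) × Fin m) F) : Matrix ((Fin t → Fin m) × Fin m) ((Fin t → Fin m) × Fin m) F) =
        (1 - R) * ((P⁻¹ : GL ((Fin t → Fin m) × Fin m) F) : Matrix ((Fin t → Fin m) × Fin m) ((Fin t → Fin m) × Fin m) F) := by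
      refine left_inv_eq_right_inv (a := H) (by rw [hH, Units.inv_mul]) ?_
      rw [hfac, ← hR, mul_assoc, ← mul_assoc (1 + R), one_add_sq_inv hRR, one_mul, Units.mul_inv]
    have hval : (g₃ : Matrix ((Fin t → Fin m) × Fin m) ((Fin t → Fin m) × Fin m) F) = 1 +
        ((a : Matrix (Fin t → Fin m) (Fin t → Fin m) F) * φ j * ((a⁻¹ : GL (Fin t → Fin m) F) : Matrix (Fin t → Fin m) (Fin t → Fin m) F)) ⊗ₖ
          (B * Matrix.single o k (1 : F) * (bS : Matrix (Fin m) (Fin m) F)) := by
      rw [hg₃, Units.val_mul, Units.val_mul, Units.val_mul, ← hH, hev, hhi, hei, hfac, ← hR]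
      rw [show (P : Matrix ((Fin t → Fin m) × Fin m) ((Fin t → Fin m) × Fin m) F) * (1 + R) * (1 + T) *
          ((1 - R) * ((P⁻¹ : GL ((Fin t → Fin m) × Fin m) F) : Matrix ((Fin t → Fin m) × Fin m) ((Fin t → Fin m) × Fin m) F)) *
          ((P : Matrix ((Fin t → Fin m) × Fin m) ((Fin t → Fin m) × Fin m) F) * (1 - T) *
            ((P⁻¹ : GL ((Fin t → Fin m) × Fin m) F) : Matrix ((Fin t → Fin m) × Fin m) ((Fin t → Fin m) × Fin m) F)) =
          (P : Matrix ((Fin t → Fin m) × Fin m) ((Fin t → Fin m) × Fin m) F) * ((1 + R) * (1 + T) * (1 - R) * (1 - T)) *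
            ((P⁻¹ : GL ((Fin t → Fin m) × Fin m) F) : Matrix ((Fin t → Fin m) × Fin m) ((Fin t → Fin m) × Fin m) F) by
        simp only [← mul_assoc]
        rw [mul_assoc _ _ (P : Matrix ((Fin t → Fin m) × Fin m) ((Fin t → Fin m) × Fin m) F), Units.inv_mul, mul_one]]
      rw [show (1 + R) * (1 + T) * (1 - R) * (1 - T) = 1 + R * T by
        simp only [add_mul, mul_add, mul_sub, sub_mul, one_mul, mul_one, mul_assoc, hRR, hTR, hT2, mul_zero, sub_zero,
          add_zero, zero_add]
        abel, mul_add, add_mul, mul_one, Units.mul_inv, hRT, hP, kr_inv, inv_inv, kr_val, kr_val,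
        ← Matrix.mul_kronecker_mul, ← Matrix.mul_kronecker_mul, ← hB]
    obtain ⟨ψ, hψ⟩ : ∃ ψ : Fin m → Matrix (Fin t → Fin m) (Fin t → Fin m) F, ψ = fun y => (bS : Matrix (Fin m) (Fin m) F) k y •
        ((a : Matrix (Fin t → Fin m) (Fin t → Fin m) F) * φ j * ((a⁻¹ : GL (Fin t → Fin m) F) : Matrix (Fin t → Fin m) (Fin t → Fin m) F)) := ⟨_, rfl⟩
    have hbk : (B * Matrix.single o k (1 : F) * (bS : Matrix (Fin m) (Fin m) F)) =
        Matrix.of fun x y => if x = o then (bS : Matrix (Fin m) (Fin m) F) k y else 0   := by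
      ext x y
      rw [mul_assoc, Matrix.mul_apply, Finset.sum_eq_single o (fun z _ hz => by
        rw [Matrix.single_mul_apply_of_ne _ _ _ _ _ hz, mul_zero]) (by simp), Matrix.single_mul_apply_same, one_mul,
        hBo, Matrix.of_apply]
      by_cases hx : x = o <;> simp [hx]
    have hin : InR (XI X i₀) o ψ := ⟨by
      rw [hψ]
      simp only [show (bS : Matrix (Fin m) (Fin m) F) k o = 0 by
        rw [show (bS : Matrix (Fin m) (Fin m) F) = S from IsUnit.unit_spec _]
        by_cases hkk : k = o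
        · exact absurd hkk hk.1
        · simp [S, hkk, hσo]]
      rw [zero_smul], g₃, hg₃X, by
      rw [hval, hbk]
      congr 1
      ext ⟨x, u⟩ ⟨y, w⟩
      rw [kroneckerMap_apply, rmat_apply, hψ]
      by_cases hu : u = o <;> simp [hu, mul_comm]⟩
    obtain ⟨y, hy⟩ : ∃ y, (bS : Matrix (Fin m) (Fin m) F) k y ≠ 0 := by
      by_contra hcon
      push Not at hcon
      have := congrFun (congrFun (bS.mul_inv) k) k
      rw [Matrix.mul_apply, Finset.sum_eq_zero (fun z _ => by rw [hcon z, zero_mul]), Matrix.one_apply_eq] at this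
      exact zero_ne_one this
    obtain ⟨c, hc⟩ := inR_scalar i₀ hN hX hm ht hin y
    refine ⟨((bS : Matrix (Fin m) (Fin m) F) k y)⁻¹ * c, ?_⟩
    rw [hψ] at hc
    have hc' : (a : Matrix (Fin t → Fin m) (Fin t → Fin m) F) * φ j * ((a⁻¹ : GL (Fin t → Fin m) F) : Matrix (Fin t → Fin m) (Fin t → Fin m) F) =
        (((bS : Matrix (Fin m) (Fin m) F) k y)⁻¹ * c) • 1 := by
      rw [← smul_smul, ← hc, smul_smul, inv_mul_cancel₀ hy, one_smul]
    calc φ j = ((a⁻¹ : GL (Fin t → Fin m) F) : Matrix (Fin t → Fin m) (Fin t → Fin m) F) *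
          ((a : Matrix (Fin t → Fin m) (Fin t → Fin m) F) * φ j * ((a⁻¹ : GL (Fin t → Fin m) F) : Matrix (Fin t → Fin m) (Fin t → Fin m) F)) *
          (a : Matrix (Fin t → Fin m) (Fin t → Fin m) F) := by
            simp only [mul_assoc]
            rw [Units.inv_mul, mul_one, ← mul_assoc, Units.inv_mul, one_mul]
      _ = _ := by rw [hc', mul_smul_comm, mul_one, smul_mul_assoc, Units.inv_mul]
  choose c hc using hscal
  have hco : ∀ i, i = o → c i = 0 := fun i hi => by
    subst hi
    obtain ⟨x₀⟩ := hne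
    have := congrFun (congrFun (hc i) x₀) x₀
    simpa [φ] using this.symm
  let T : Matrix (Fin m) (Fin m) F := 1 + Matrix.of fun k i => if k = o then c i else 0
  have hTdet : IsUnit T.det := by
    refine IsUnit.of_mul_eq_one (1 - Matrix.of fun k i => if k = o then c i else 0).det ?_
    rw [← Matrix.det_mul]
    have e : (Matrix.of fun k i => if k = o then c i else 0) * (Matrix.of fun k i => if k = o then c i else 0) =
        (0 : Matrix (Fin m) (Fin m) F) := by
      ext k i
      rw [Matrix.mul_apply, Matrix.zero_apply]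
      refine Finset.sum_eq_zero fun l _ => ?_
      by_cases hl : l = o <;> by_cases hk : k = o <;> simp [hl, hk, hco]
    simp only [T, add_mul, one_mul, mul_sub, mul_one, e, sub_zero]
    simp
  have hlast : (kr a bS⁻¹)⁻¹ * h = kr (1 : GL (Fin t → Fin m) F) (((Matrix.isUnit_iff_isUnit_det T).2 hTdet).unit) := by
    refine Units.ext ?_
    rw [kr_val, IsUnit.unit_spec, Units.val_mul, ← hH, hfac, ← mul_assoc, ← Units.val_mul, inv_mul_cancel,
      Units.val_one, one_mul]
    ext ⟨x, k⟩ ⟨y, i⟩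
    by_cases hk : k = o <;> by_cases hxy : x = y <;>
      simp [T, rmat_apply, hc, Matrix.one_apply, Prod.ext_iff, hk, hxy]
  rw [show h = kr a bS⁻¹ * ((kr a bS⁻¹)⁻¹ * h) by group, hlast, kr_mul]
  exact ⟨_, _, rfl⟩

end Cfsg.Agent.Classical.TensorPowerMax
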