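/-
Quadratic pure tensors of least displacement rank are root elements; so are all quadratic standard elements of that
rank, transpositions of three-dimensional factors apart.
-/
import Cfsg.Agent.Lib.Classical.TensorPowerMax.Rank

set_option autoImplicit false
set_option linter.unusedSectionVars false

namespace Cfsg.Agent.Classical.TensorPowerMax

open Matrix Cfsg.Geo
open Cfsg.Agent.Classical
open Cfsg.Agent.Classical.TensorMax (kr kr_val kr_mul kr_one kr_inv)
open scoped Kronecker

variable {F : Type*} [Field F] {m t : ℕ}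

theorem kron_mulVec {α β : Type} [Fintype α] [Fintype β] (A : Matrix α α F) (B : Matrix β β F) (y : α → F) (z : β → F) :
    (A ⊗ₖ B) *ᵥ (fun p : α × β => y p.1 * z p.2) = fun p => (A *ᵥ y) p.1 * (B *ᵥ z) p.2 := by
  funext p
  simp only [Matrix.mulVec, dotProduct, kroneckerMap_apply, Fintype.sum_prod_type, Finset.sum_mul_sum]
  exact Finset.sum_congr rfl fun x _ => Finset.sum_congr rfl fun w _ => by ring

theorem tens_eq_zero {α β : Type} {y : α → F} {z : β → F} (h : (fun p : α × β => y p.1 * z p.2) = 0) (hz : z ≠ 0) :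
    y = 0 := by
  obtain ⟨b, hb⟩ := Function.ne_iff.1 hz
  funext a
  exact (mul_eq_zero.1 (congrFun h (a, b))).resolve_right hb

theorem tens_eq_zero' {α β : Type} {y : α → F} {z : β → F} (h : (fun p : α × β => y p.1 * z p.2) = 0) (hy : y ≠ 0) :
    z = 0 := by
  obtain ⟨a, ha⟩ := Function.ne_iff.1 hy
  funext b
  exact (mul_eq_zero.1 (congrFun h (a, b))).resolve_left ha

theorem rank_reindex_sub_one {α β : Type} [Fintype α] [Fintype β] [DecidableEq α] [DecidableEq β] (e : α ≃ β)
    (M : Matrix α α F) : (Matrix.reindex e e M - 1).rank = (M - 1).rank := by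
  rw [← Matrix.coe_reindexAlgEquiv F F, ← map_one (Matrix.reindexAlgEquiv F F e), ← map_sub, Matrix.coe_reindexAlgEquiv,
    Matrix.rank_reindex]

/-- A quadratic Kronecker product of small displacement rank. -/
theorem kron_root [Fintype F] (p : ℕ) [Fact p.Prime] [CharP F p] {α : Type} [Fintype α] [DecidableEq α]
    [Nonempty α] (hm : 3 ≤ m) {a : GL α F} {b : GL (Fin m) F}
    (hb : ∀ c : F, (b : Matrix (Fin m) (Fin m) F) ≠ c • 1)
    (hsq : ((kr a b : Matrix (α × Fin m) (α × Fin m) F) - 1) * ((kr a b : Matrix (α × Fin m) (α × Fin m) F) - 1) = 0)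
    (hr : ((kr a b : Matrix (α × Fin m) (α × Fin m) F) - 1).rank ≤ Fintype.card α) :
    ∃ f l : Fin m → F, f ≠ 0 ∧ l ≠ 0 ∧ l ⬝ᵥ f = 0 ∧
      (kr a b : Matrix (α × Fin m) (α × Fin m) F) = (1 : Matrix α α F) ⊗ₖ (1 + vecMulVec f l) := by
  classical
  have hp := (Fact.out : p.Prime)
  haveI : Nonempty (Fin m) := ⟨⟨0, by omega⟩⟩
  -- normalise the scalar
  have hpow : (kr a b : Matrix (α × Fin m) (α × Fin m) F) ^ p = 1 := by
    have h0 : ((kr a b : Matrix (α × Fin m) (α × Fin m) F) - 1) ^ p = 0 := by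
      rw [show p = 2 + (p - 2) by have := hp.two_le; omega, pow_add, pow_two, hsq, zero_mul]
    rwa [sub_pow_char_of_commute (p := p) (Commute.one_right _), one_pow, sub_eq_zero] at h0
  obtain ⟨A, B, hAB, hA, hB⟩ : ∃ A : Matrix α α F, ∃ B : Matrix (Fin m) (Fin m) F,
      (kr a b : Matrix (α × Fin m) (α × Fin m) F) = A ⊗ₖ B ∧ A ^ p = 1 ∧ B ^ p = 1 := by
    have hk : ∀ k : ℕ, (kr a b : Matrix (α × Fin m) (α × Fin m) F) ^ k =
        ((a : Matrix α α F) ^ k) ⊗ₖ ((b : Matrix (Fin m) (Fin m) F) ^ k) := fun k => by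
      induction k with
      | zero => simp
      | succ k ih => rw [pow_succ, ih, kr_val, ← Matrix.mul_kronecker_mul, ← pow_succ, ← pow_succ]
    obtain ⟨x₀⟩ := ‹Nonempty α›
    obtain ⟨i₀⟩ := ‹Nonempty (Fin m)›
    have e : ∀ x y i j, ((a : Matrix α α F) ^ p) x y * ((b : Matrix (Fin m) (Fin m) F) ^ p) i j =
        if x = y ∧ i = j then 1 else 0 := fun x y i j => by
      have h := congrFun (congrFun ((hk p).symm.trans hpow) (x, i)) (y, j)
      rw [kroneckerMap_apply] at h
      rw [h]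
      simp [Matrix.one_apply, Prod.ext_iff]
    obtain ⟨c, hc⟩ : ∃ c, c = ((a : Matrix α α F) ^ p) x₀ x₀ := ⟨_, rfl⟩
    have hc' : c * ((b : Matrix (Fin m) (Fin m) F) ^ p) i₀ i₀ = 1 := by rw [hc, e]; simp
    have hc0 : c ≠ 0 := left_ne_zero_of_mul_eq_one hc'
    obtain ⟨d, hd⟩ : ∃ d : F, d ^ p = c := by
      simpa [frobenius_def] using (Finite.injective_iff_surjective.1 (frobenius F p).injective) c
    have hd0 : d ≠ 0 := fun e' => hc0 (by rw [← hd, e', zero_pow hp.ne_zero])
    refine ⟨d⁻¹ • (a : Matrix α α F), d • (b : Matrix (Fin m) (Fin m) F), ?_, ?_, ?_⟩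
    · rw [kr_val, Matrix.smul_kronecker, Matrix.kronecker_smul, smul_smul, inv_mul_cancel₀ hd0, one_smul]
    · refine Matrix.ext fun x y => ?_
      rw [smul_pow, inv_pow, hd, Matrix.smul_apply, smul_eq_mul]
      have h := e x y i₀ i₀
      have hinv := eq_inv_of_mul_eq_one_right hc'
      rw [hinv] at h
      rw [mul_comm, h]
      simp [Matrix.one_apply]
    · refine Matrix.ext fun i j => ?_
      rw [smul_pow, hd, Matrix.smul_apply, smul_eq_mul, hc, e]
      simp [Matrix.one_apply]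
  obtain ⟨M, hM⟩ : ∃ M, M = A - 1 := ⟨_, rfl⟩
  obtain ⟨N, hN⟩ : ∃ N, N = B - 1 := ⟨_, rfl⟩
  have hMn : M ^ p = 0 := by
    rw [hM, sub_pow_char_of_commute (p := p) (Commute.one_right A), hA, one_pow, sub_self]
  have hNn : N ^ p = 0 := by
    rw [hN, sub_pow_char_of_commute (p := p) (Commute.one_right B), hB, one_pow, sub_self]
  have hN0 : N ≠ 0 := fun e => by
    obtain ⟨c, hc⟩ : ∃ c : F, (b : Matrix (Fin m) (Fin m) F) = c • 1 := by
      rw [hN, sub_eq_zero] at e
      subst e
      obtain ⟨x₀⟩ := ‹Nonempty α›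
      obtain ⟨y₀, hy₀⟩ : ∃ y, (a : Matrix α α F) x₀ y ≠ 0 := by
        by_contra hcon
        push Not at hcon
        have := congrFun (congrFun (a.mul_inv) x₀) x₀
        rw [Matrix.mul_apply, Finset.sum_eq_zero (fun z _ => by rw [hcon z, zero_mul]), Matrix.one_apply_eq] at this
        exact zero_ne_one this
      refine ⟨A x₀ y₀ * ((a : Matrix α α F) x₀ y₀)⁻¹, Matrix.ext fun i j => ?_⟩
      have h := congrFun (congrFun hAB (x₀, i)) (y₀, j)
      rw [kr_val, kroneckerMap_apply, kroneckerMap_apply] at h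
      rw [Matrix.smul_apply, smul_eq_mul, mul_right_comm, ← h, mul_assoc, mul_comm ((b : Matrix (Fin m) (Fin m) F) i j),
        ← mul_assoc, mul_inv_cancel₀ hy₀, one_mul]
    exact hb c hc
  -- products on simple tensors
  have hU : ∀ y z, ((kr a b : Matrix (α × Fin m) (α × Fin m) F) - 1) *ᵥ (fun q : α × Fin m => y q.1 * z q.2) =
      fun q => (M *ᵥ y) q.1 * (B *ᵥ z) q.2 + y q.1 * (N *ᵥ z) q.2 := fun y z => by
    rw [Matrix.sub_mulVec, Matrix.one_mulVec, hAB, kron_mulVec]
    funext q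
    rw [Pi.sub_apply, hM, hN, Matrix.sub_mulVec, Matrix.one_mulVec, Matrix.sub_mulVec, Matrix.one_mulVec,
      Pi.sub_apply, Pi.sub_apply]
    ring
  have hU2 : ∀ y z, (fun q : α × Fin m => (M *ᵥ (M *ᵥ y)) q.1 * (B *ᵥ (B *ᵥ z)) q.2 +
      (M *ᵥ y) q.1 * (N *ᵥ (B *ᵥ z)) q.2 + (M *ᵥ y) q.1 * (B *ᵥ (N *ᵥ z)) q.2 +
      y q.1 * (N *ᵥ (N *ᵥ z)) q.2) = 0 := fun y z => by
    have h := congrArg (fun U => U *ᵥ fun q : α × Fin m => y q.1 * z q.2) hsq
    simp only [← Matrix.mulVec_mulVec, Matrix.zero_mulVec] at h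
    rw [hU, show (fun q : α × Fin m => (M *ᵥ y) q.1 * (B *ᵥ z) q.2 + y q.1 * (N *ᵥ z) q.2) =
        (fun q : α × Fin m => (M *ᵥ y) q.1 * (B *ᵥ z) q.2) + fun q => y q.1 * (N *ᵥ z) q.2 from rfl,
      Matrix.mulVec_add, hU, hU] at h
    refine Eq.trans ?_ h
    funext q
    simp only [Pi.add_apply]
    ring
  have hBN : ∀ z, B *ᵥ z = z + N *ᵥ z := fun z => by
    rw [hN, Matrix.sub_mulVec, Matrix.one_mulVec, add_sub_cancel]
  obtain ⟨e, he, he2⟩ : ∃ e, N *ᵥ e ≠ 0 ∧ N *ᵥ (N *ᵥ e) = 0 := TensorMax.exists_chain hN0 hNn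
  have hBf : B *ᵥ (N *ᵥ e) = N *ᵥ e := by rw [hBN, he2, add_zero]
  have hM2 : ∀ y, M *ᵥ (M *ᵥ y) = 0 := fun y => by
    have h := hU2 y (N *ᵥ e)
    simp only [hBf, he2, Matrix.mulVec_zero, Pi.zero_apply, mul_zero, add_zero] at h
    exact tens_eq_zero h he
  obtain ⟨y₁, hy₁, hy₁0⟩ : ∃ y, M *ᵥ y = 0 ∧ y ≠ 0 := by
    obtain ⟨x₀⟩ := ‹Nonempty α›
    by_cases h : M *ᵥ Pi.single x₀ 1 = 0
    · exact ⟨_, h, by simp⟩
    · exact ⟨_, hM2 _, h⟩
  have hN2 : ∀ z, N *ᵥ (N *ᵥ z) = 0 := fun z => by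
    have h := hU2 y₁ z
    simp only [hy₁, Matrix.mulVec_zero, Pi.zero_apply, zero_mul, zero_add] at h
    exact tens_eq_zero' h hy₁0
  -- a fixed vector independent of `N e`
  obtain ⟨f, hf, hfe⟩ : ∃ f, N *ᵥ f = 0 ∧ ∀ c : F, f ≠ c • (N *ᵥ e) := by
    by_contra hcon
    push Not at hcon
    have hk : ∀ z, N *ᵥ z = 0 → z ∈ Submodule.span F {N *ᵥ e} := fun z hz => by
      obtain ⟨c, hc⟩ := hcon z hz
      exact hc ▸ Submodule.smul_mem _ c (Submodule.mem_span_singleton_self _)
    have h1 := LinearMap.finrank_range_add_finrank_ker N.mulVecLin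
    have h2 : LinearMap.range N.mulVecLin ≤ LinearMap.ker N.mulVecLin := by
      rintro _ ⟨z, rfl⟩; exact hN2 z
    have h3 : LinearMap.ker N.mulVecLin ≤ Submodule.span F {N *ᵥ e} := fun z hz => hk z hz
    have h4 := Submodule.finrank_mono h2
    have h5 := Submodule.finrank_mono h3
    rw [finrank_span_singleton he] at h5
    rw [Module.finrank_fin_fun] at h1
    omega
  by_cases hM0 : M = 0
  · -- one factor only
    have hA1 : A = 1 := by rw [hM, sub_eq_zero] at hM0; exact hM0
    subst hA1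
    obtain ⟨k₀, hk₀⟩ : ∃ k₀, N *ᵥ Pi.single k₀ 1 ≠ 0 := by
      by_contra hcon
      push Not at hcon
      exact hN0 (Matrix.ext_of_mulVec_single fun i => by rw [hcon, Matrix.zero_mulVec])
    obtain ⟨g, hg⟩ : ∃ g, g = N *ᵥ Pi.single k₀ 1 := ⟨_, rfl⟩
    have hdep : ∀ z, ∃ c : F, N *ᵥ z = c • g := by
      intro z
      by_contra hcon
      push Not at hcon
      let W : Matrix (α × Fin m) (α ⊕ α) F :=
        Matrix.of fun q s => Sum.elim (fun x => if q.1 = x then (Pi.single k₀ 1 : Fin m → F) q.2 else 0)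
          (fun x => if q.1 = x then z q.2 else 0) s
      have := TensorMax.card_le_rank ((kr a b : Matrix (α × Fin m) (α × Fin m) F) - 1) W fun w hw => ?_
      · rw [Fintype.card_sum] at this
        have : 0 < Fintype.card α := Fintype.card_pos
        omega
      · have hW : W *ᵥ w = (fun q : α × Fin m => w (Sum.inl q.1) * (Pi.single k₀ 1 : Fin m → F) q.2) +
            fun q => w (Sum.inr q.1) * z q.2 := funext fun q => by
          simp [W, Matrix.mulVec, dotProduct, Fintype.sum_sum_type, mul_comm]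
        rw [hW, Matrix.mulVec_add, hU (fun x => w (Sum.inl x)), hU (fun x => w (Sum.inr x)), hM0] at hw
        simp only [Matrix.zero_mulVec, Pi.zero_apply, zero_mul, zero_add] at hw
        funext s
        have h2 : ∀ x i, w (Sum.inl x) * g i + w (Sum.inr x) * (N *ᵥ z) i = 0 := fun x i => by
          have := congrFun hw (x, i)
          rw [hg]
          exact this
        have hz : ∀ x, w (Sum.inl x) = 0 ∧ w (Sum.inr x) = 0 := fun x => by
          have hr' : w (Sum.inr x) = 0 := by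
            by_contra hr'
            refine hcon (-(w (Sum.inr x))⁻¹ * w (Sum.inl x)) (funext fun i => ?_)
            have := h2 x i
            rw [Pi.smul_apply, smul_eq_mul]
            field_simp
            linear_combination this
          refine ⟨?_, hr'⟩
          obtain ⟨i, hi⟩ := Function.ne_iff.1 (hg ▸ hk₀ : g ≠ 0)
          have := h2 x i
          rw [hr', zero_mul, add_zero, mul_eq_zero] at this
          exact this.resolve_right hi
        rcases s with x | x
        · exact (hz x).1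
        · exact (hz x).2
    choose l hl using fun i => hdep (Pi.single i 1)
    have hNg : N = vecMulVec g l := Matrix.ext fun i j => by
      have := congrFun (hl j) i
      rw [Matrix.mulVec_single_one, Matrix.col_apply, Pi.smul_apply, smul_eq_mul] at this
      rw [this, vecMulVec_apply, mul_comm]
    have hg0 : g ≠ 0 := hg ▸ hk₀
    refine ⟨g, l, hg0, fun e' => hN0 (by rw [hNg, e', Matrix.vecMulVec_zero]), ?_, ?_⟩
    · by_contra hlg
      have h2 := hN2 (Pi.single k₀ 1)
      rw [← hg, hNg, Matrix.vecMulVec_mulVec] at h2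
      exact hg0 ((smul_eq_zero.1 (by simpa [op_smul_eq_smul] using h2)).resolve_left hlg)
    · rw [hAB, ← hNg, hN, add_sub_cancel]
  · -- two factors
    exfalso
    obtain ⟨y₀, hy₀⟩ : ∃ y, M *ᵥ y ≠ 0 := by
      by_contra hcon
      push Not at hcon
      exact hM0 (Matrix.ext_of_mulVec_single fun i => by rw [hcon, Matrix.zero_mulVec])
    let W : Matrix (α × Fin m) (Option α) F :=
      Matrix.of fun q s => s.elim (y₀ q.1 * f q.2) fun x => if q.1 = x then e q.2 else 0
    have := TensorMax.card_le_rank ((kr a b : Matrix (α × Fin m) (α × Fin m) F) - 1) W fun w hw => ?_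
    · rw [Fintype.card_option] at this
      omega
    · obtain ⟨c, hc⟩ : ∃ c, c = w none := ⟨_, rfl⟩
      obtain ⟨y, hy⟩ : ∃ y : α → F, y = fun x => w (some x) := ⟨_, rfl⟩
      have hW : W *ᵥ w = (fun q : α × Fin m => y q.1 * e q.2) + fun q => (c • y₀) q.1 * f q.2 := funext fun q => by
        simp only [W, Matrix.mulVec, dotProduct, Fintype.sum_option, Matrix.of_apply, Option.elim, hc, hy,
          Pi.add_apply, Pi.smul_apply, smul_eq_mul]
        rw [Finset.sum_eq_single q.1 (fun x _ hx => by rw [if_neg (Ne.symm hx), zero_mul]) (by simp), if_pos rfl]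
        ring
      rw [hW, Matrix.mulVec_add, hU, hU, hf, Matrix.mulVec_smul, show B *ᵥ f = f by rw [hBN, hf, add_zero]] at hw
      have hq : ∀ x i, (M *ᵥ y) x * (B *ᵥ e) i + y x * (N *ᵥ e) i + c * (M *ᵥ y₀) x * f i = 0 := fun x i => by
        refine Eq.trans ?_ (congrFun hw (x, i))
        simp
      have hMy : M *ᵥ y = 0 := by
        funext x
        have h : (M *ᵥ y) x • (B *ᵥ e) + y x • (N *ᵥ e) + (c * (M *ᵥ y₀) x) • f = 0 := funext fun i => hq x i
        have h' := congrArg (fun v => N *ᵥ v) h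
        simp only [Matrix.mulVec_add, Matrix.mulVec_smul, hf, he2, smul_zero, add_zero, Matrix.mulVec_zero, hBN] at h'
        exact (smul_eq_zero.1 h').resolve_right he
      have hc0 : c = 0 := by
        by_contra hc0
        obtain ⟨x, hx⟩ := Function.ne_iff.1 hy₀
        refine hfe (-(c * (M *ᵥ y₀) x)⁻¹ * y x) (funext fun i => ?_)
        have h := hq x i
        rw [hMy, Pi.zero_apply, zero_mul, zero_add] at h
        have hne : c * (M *ᵥ y₀) x ≠ 0 := mul_ne_zero hc0 hx
        rw [Pi.smul_apply, smul_eq_mul]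
        refine mul_left_cancel₀ hne ?_
        rw [← mul_assoc (c * (M *ᵥ y₀) x), ← mul_assoc (c * (M *ᵥ y₀) x), mul_neg, mul_inv_cancel₀ hne]
        linear_combination h
      have hy0 : y = 0 := by
        funext x
        obtain ⟨i, hi⟩ := Function.ne_iff.1 he
        have h := hq x i
        rw [hMy, hc0, Pi.zero_apply, zero_mul, zero_add, zero_mul, zero_mul, add_zero, mul_eq_zero] at h
        exact h.resolve_right hi
      funext s
      rcases s with _ | x
      · exact hc.symm.trans hc0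
      · simpa [hy] using congrFun hy0 x

/-- A quadratic standard element of the rank of a root element. -/
theorem classify [Fintype F] (p : ℕ) [Fact p.Prime] [CharP F p] (hm : 3 ≤ m) {g : GL (Fin (t + 1) → Fin m) F}
    (hg : g ∈ tensorWreathStandard m (t + 1) F)
    (hsq : ((g : Matrix (Fin (t + 1) → Fin m) (Fin (t + 1) → Fin m) F) - 1) *
      ((g : Matrix (Fin (t + 1) → Fin m) (Fin (t + 1) → Fin m) F) - 1) = 0) (hne : g ≠ 1)
    (hr : ((g : Matrix (Fin (t + 1) → Fin m) (Fin (t + 1) → Fin m) F) - 1).rank ≤ m ^ t) :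
    IsRoot g ∨ (m = 3 ∧ ∃ (A : Fin (t + 1) → GL (Fin m) F) (σ : Equiv.Perm (Fin (t + 1))),
      σ.IsSwap ∧ g = pureGL A * factorPermGL m F σ) := by
  classical
  obtain ⟨A, σ, rfl⟩ := std_decomp hg
  by_cases hσ : σ = 1
  swap
  · exact Or.inr ⟨(perm_is_swap hm hσ hr).1, A, σ, (perm_is_swap hm hσ hr).2, rfl⟩
  subst hσ
  rw [perm_one, mul_one] at hsq hne hr ⊢
  haveI : Nonempty (Fin m) := ⟨⟨0, by omega⟩⟩
  by_cases hs : ∃ i, ∀ c : F, (A i : Matrix (Fin m) (Fin m) F) ≠ c • 1
  · obtain ⟨i, hi⟩ := hs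
    left
    have e : pureGL A = J i (kr (pureGL fun j => A (i.succAbove j)) (A i)) := by
      rw [J_kr_pure]
      congr 1
      exact (Fin.insertNth_self_removeNth i A).symm
    rw [e, J_val, rank_reindex_sub_one] at hr
    rw [e, J_val] at hsq
    have hr' : ((kr (pureGL fun j => A (i.succAbove j)) (A i) :
        Matrix ((Fin t → Fin m) × Fin m) ((Fin t → Fin m) × Fin m) F) - 1).rank ≤ Fintype.card (Fin t → Fin m) := by
      simpa using hr
    obtain ⟨f, l, hf, hl, hlf, hk⟩ := kron_root p hm hi (by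
      refine (Matrix.reindexAlgEquiv F F (spl i)).injective ?_
      rw [map_zero, map_mul, map_sub, map_one, Matrix.coe_reindexAlgEquiv]
      exact hsq) hr'
    exact ⟨i, f, l, hf, hl, hlf, by rw [e, J_val, hk, facM_spl]⟩
  · exfalso
    push Not at hs
    choose c hc using hs
    have hgc : (pureGL A : Matrix (Fin (t + 1) → Fin m) (Fin (t + 1) → Fin m) F) = (∏ i, c i) • 1 := by
      rw [pureGL_val, show (fun i => (A i : Matrix (Fin m) (Fin m) F)) = fun i => c i • (1 : Matrix (Fin m) (Fin m) F)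
        from funext hc, pureM_smul, pureM_one]
    rw [hgc, show (∏ i, c i) • (1 : Matrix (Fin (t + 1) → Fin m) (Fin (t + 1) → Fin m) F) - 1 = ((∏ i, c i) - 1) • 1
      by rw [sub_smul, one_smul], smul_mul_smul_comm, one_mul, smul_eq_zero] at hsq
    rcases hsq with h | h
    · refine hne (Units.ext ?_)
      rw [hgc, sub_eq_zero.1 (mul_self_eq_zero.1 h), one_smul, Units.val_one]
    · haveI : Nonempty (Fin (t + 1) → Fin m) := inferInstance
      exact one_ne_zero h

end Cfsg.Agent.Classical.TensorPowerMax
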