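/-
The overgroup hypothesis; the centraliser of a root element lies in the tensor power stabiliser.
-/
import Cfsg.Agent.Lib.Classical.TensorPowerMax.Fibre
import Cfsg.Agent.Lib.Classical.TensorPowerMax.Norm
import Cfsg.Agent.Lib.Classical.TensorPowerMax.Pure

set_option autoImplicit false
set_option linter.unusedSectionVars false

namespace Cfsg.Agent.Classical.TensorPowerMax

open Matrix Cfsg.Geo
open Cfsg.Agent.Classical
open Cfsg.Agent.Classical.TensorMax (kr kr_val kr_mul kr_one kr_inv)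
open scoped Kronecker

variable {F : Type*} [Field F] {m t : ℕ}

/-- The stabiliser of the tensor power inside the special linear group. -/
def Ns (m t : ℕ) (F : Type*) [Field F] : Subgroup (GL (Fin t → Fin m) F) :=
  tensorWreathStandard m t F ⊓ specialLinear (Fin t → Fin m) F

/-- The stabiliser is maximal. -/
def Maximal (m t : ℕ) (F : Type*) [Field F] : Prop :=
  ∀ X : Subgroup (GL (Fin t → Fin m) F), Ns m t F ≤ X → X ≤ specialLinear (Fin t → Fin m) F →
    X = Ns m t F ∨ specialLinear (Fin t → Fin m) F ≤ X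

/-- An overgroup of the stabiliser in the special linear group without all transvections. -/
structure Over (p : ℕ) (X : Subgroup (GL (Fin (t + 1) → Fin m) F)) : Prop where
  prime : p.Prime
  char : CharP F p
  hm : 3 ≤ m
  ht : 0 < t
  le : Ns m (t + 1) F ≤ X
  sl : X ≤ specialLinear (Fin (t + 1) → Fin m) F
  notall : ¬ specialLinear (Fin (t + 1) → Fin m) F ≤ X
  ih : Maximal m t F

theorem det_fac_tv (i : Fin (t + 1)) (f l : Fin m → F) (h : l ⬝ᵥ f = 0) :
    facGL i (tv f l h) ∈ Ns m (t + 1) F :=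
  ⟨facGL_mem _ _, mem_specialLinear_iff.2 (by
    rw [facGL_val, det_facM, show ((tv f l h : GL (Fin m) F) : Matrix (Fin m) (Fin m) F) = 1 + vecMulVec f l from rfl,
      tv_det f l h, one_pow])⟩

theorem RootAt.mem_ns {i : Fin (t + 1)} {g : GL (Fin (t + 1) → Fin m) F} (h : RootAt i g) : g ∈ Ns m (t + 1) F := by
  obtain ⟨f, l, hlf, -, -, rfl⟩ := h.eq
  exact det_fac_tv i f l hlf

theorem IsRoot.mem_ns {g : GL (Fin (t + 1) → Fin m) F} (h : IsRoot g) : g ∈ Ns m (t + 1) F := by
  obtain ⟨i, h⟩ := h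
  exact h.mem_ns

/-- A standard root element is a commutator. -/
theorem stdRoot_comm (i : Fin t) {a b c : Fin m} (hac : a ≠ c) (hcb : c ≠ b) (hab : a ≠ b) :
    stdRoot (F := F) i hab =
      stdRoot i hac * stdRoot i hcb * (stdRoot i hac)⁻¹ * (stdRoot i hcb)⁻¹ := by
  refine eq_mul_inv_iff_mul_eq.2 (eq_mul_inv_iff_mul_eq.2 (Units.ext ?_))
  simp only [Units.val_mul, stdRoot_val, facM_mul]
  congr 1
  simp only [add_mul, mul_add, one_mul, mul_one, Matrix.single_mul_single_same,
    Matrix.single_mul_single_of_ne _ _ _ _ hab.symm, Matrix.single_mul_single_of_ne _ _ _ _ hac.symm,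
    Matrix.single_mul_single_of_ne _ _ _ _ hcb.symm, add_zero, zero_add, zero_mul, mul_zero]
  abel

theorem exists_third (hm : 3 ≤ m) (a b : Fin m) : ∃ c : Fin m, c ≠ a ∧ c ≠ b := by
  obtain ⟨c, -, hc⟩ := Finset.exists_mem_notMem_of_card_lt_card (s := {a, b}) (t := (Finset.univ : Finset (Fin m)))
    (lt_of_le_of_lt Finset.card_le_two (by rw [Finset.card_univ, Fintype.card_fin]; omega))
  exact ⟨c, fun h => hc (by simp [h]), fun h => hc (by simp [h])⟩

/-- A commutator in the stabiliser with the displacement of a root element is a root element. -/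
theorem root_of_commutator [Fintype F] (p : ℕ) [Fact p.Prime] [CharP F p] (hm : 3 ≤ m)
    {x y g : GL (Fin (t + 1) → Fin m) F} (hx : x ∈ tensorWreathStandard m (t + 1) F)
    (hy : y ∈ tensorWreathStandard m (t + 1) F) (hg : g = x * y * x⁻¹ * y⁻¹)
    (hsq : ((g : Matrix (Fin (t + 1) → Fin m) (Fin (t + 1) → Fin m) F) - 1) *
      ((g : Matrix (Fin (t + 1) → Fin m) (Fin (t + 1) → Fin m) F) - 1) = 0)
    (hr : ((g : Matrix (Fin (t + 1) → Fin m) (Fin (t + 1) → Fin m) F) - 1).rank = m ^ t) : IsRoot g := by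
  classical
  have hgm : g ∈ tensorWreathStandard m (t + 1) F :=
    hg ▸ mul_mem (mul_mem (mul_mem hx hy) (inv_mem hx)) (inv_mem hy)
  have hne : g ≠ 1 := fun e => by
    rw [e, Units.val_one, sub_self, Matrix.rank_zero] at hr
    exact absurd hr.symm (pow_ne_zero _ (by omega))
  rcases classify p hm hgm hsq hne hr.le with h | ⟨-, A, σ, hσ, he⟩
  · exact h
  exfalso
  obtain ⟨χ, hχ⟩ := std_sign (F := F) (t := t + 1) (m := m) (by omega)
  have h1 : χ ⟨g, hgm⟩ = 1 := by
    rw [show (⟨g, hgm⟩ : ↥(tensorWreathStandard m (t + 1) F)) = ⟨x, hx⟩ * ⟨y, hy⟩ * ⟨x, hx⟩⁻¹ * ⟨y, hy⟩⁻¹ from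
      Subtype.ext hg]
    rw [map_mul, map_mul, map_mul, map_inv, map_inv, mul_inv_cancel_comm, mul_inv_cancel]
  rw [hχ ⟨g, hgm⟩ A σ he, hσ.sign_eq] at h1
  exact absurd h1 (by decide)

theorem conj_sq {κ : Type} [Fintype κ] [DecidableEq κ] (g h : GL κ F)
    (hh : ((h : Matrix κ κ F) - 1) * ((h : Matrix κ κ F) - 1) = 0) :
    (((g * h * g⁻¹ : GL κ F) : Matrix κ κ F) - 1) * (((g * h * g⁻¹ : GL κ F) : Matrix κ κ F) - 1) = 0 := by
  rw [show ((g * h * g⁻¹ : GL κ F) : Matrix κ κ F) - 1 =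
      (g : Matrix κ κ F) * ((h : Matrix κ κ F) - 1) * ((g⁻¹ : GL κ F) : Matrix κ κ F) by
    rw [mul_sub, sub_mul, mul_one, Units.val_mul, Units.val_mul, Units.mul_inv]]
  calc (g : Matrix κ κ F) * ((h : Matrix κ κ F) - 1) * ((g⁻¹ : GL κ F) : Matrix κ κ F) *
        ((g : Matrix κ κ F) * ((h : Matrix κ κ F) - 1) * ((g⁻¹ : GL κ F) : Matrix κ κ F))
      = (g : Matrix κ κ F) * ((h : Matrix κ κ F) - 1) * (((g⁻¹ : GL κ F) : Matrix κ κ F) * (g : Matrix κ κ F)) *
        ((h : Matrix κ κ F) - 1) * ((g⁻¹ : GL κ F) : Matrix κ κ F) := by simp only [mul_assoc]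
    _ = 0 := by rw [Units.inv_mul, mul_one, mul_assoc (g : Matrix κ κ F), hh, mul_zero, zero_mul]

/-- An element normalising the stabiliser of the tensor power lies in it. -/
theorem normaliser [Fintype F] (p : ℕ) [Fact p.Prime] [CharP F p] (hm : 3 ≤ m) {a : GL (Fin (t + 1) → Fin m) F}
    (ha : ∀ x ∈ Ns m (t + 1) F, a * x * a⁻¹ ∈ tensorWreathStandard m (t + 1) F) :
    a ∈ tensorWreathStandard m (t + 1) F := by
  refine mem_std_of_roots (by omega) (Nat.succ_pos t) a fun i u v huv => ?_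
  obtain ⟨w, hwu, hwv⟩ := exists_third hm u v
  refine root_of_commutator p hm (ha _ (rootAt_std i (Ne.symm hwu)).mem_ns) (ha _ (rootAt_std i hwv).mem_ns) ?_
    (conj_sq a _ (rootAt_std i huv).sq) ?_
  · rw [stdRoot_comm i (Ne.symm hwu) hwv huv]
    group
  · rw [rank_conj, (rootAt_std i huv).rank (by omega)]

variable [Fintype F] {p : ℕ} {X : Subgroup (GL (Fin (t + 1) → Fin m) F)}

/-- All transvections on the other factors give all transvections. -/
theorem Over.not_left (H : Over p X) (i : Fin (t + 1)) (ht2 : 2 ≤ t) :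
    ¬ ∀ c : GL (Fin t → Fin m) F, (c : Matrix (Fin t → Fin m) (Fin t → Fin m) F).det = 1 → kr c 1 ∈ XI X i := by
  classical
  intro hall
  have hm := H.hm
  obtain ⟨p₁, q₁, hpq⟩ : ∃ p₁ q₁ : Fin t, p₁ ≠ q₁ := ⟨⟨0, by omega⟩, ⟨1, by omega⟩, by simp [Fin.ext_iff]⟩
  -- the cycle carrying the factor `p₁` to `i`
  let j := i.succAbove p₁
  let k := i.succAbove q₁
  have hji : j ≠ i := Fin.succAbove_ne i p₁
  have hki : k ≠ i := Fin.succAbove_ne i q₁
  have hjk : j ≠ k := fun e => hpq (Fin.succAbove_right_injective e)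
  let τ : Equiv.Perm (Fin (t + 1)) := Equiv.swap i k * Equiv.swap j i
  let σ : Equiv.Perm (Fin (t + 1)) := τ * τ
  have hσ : σ k = j ∧ σ j = i := by
    simp [σ, τ, Equiv.Perm.mul_apply, Equiv.swap_apply_def, hji, hki, hjk, hji.symm, hki.symm, hjk.symm]
  obtain ⟨P, hP⟩ : ∃ P, P = factorPermGL m F σ := ⟨_, rfl⟩
  have hPN : P ∈ X := H.le ⟨hP ▸ factorPermGL_mem σ, mem_specialLinear_iff.2 (by
    rw [hP]
    show (factorPermM m F σ).det = 1
    rw [← factorPermM_mul, Matrix.det_mul, det_perm_sq])⟩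
  let a₀ : Fin m := ⟨0, by omega⟩
  let a₁ : Fin m := ⟨1, by omega⟩
  have ha : a₀ ≠ a₁ := by simp [a₀, a₁, Fin.ext_iff]
  let x : Fin t → Fin m := fun _ => a₀
  let y : Fin t → Fin m := Function.update x p₁ a₁
  have hxy : x ≠ y := fun e => ha (by simpa [x, y] using congrFun e p₁)
  obtain ⟨B, hB⟩ : ∃ B : Fin (t + 1) → Matrix (Fin m) (Fin m) F,
      B = fun l => (i.insertNth (1 : Matrix (Fin m) (Fin m) F) (fun l => Matrix.single (x l) (y l) (1 : F)) :
        Fin (t + 1) → Matrix (Fin m) (Fin m) F) (σ.symm l) := ⟨_, rfl⟩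
  have hBi : B i = Matrix.single a₀ a₁ 1 := by
    rw [hB]
    simp only [show σ.symm i = j by rw [← hσ.2, Equiv.symm_apply_apply], j, Fin.insertNth_apply_succAbove]
    simp [x, y]
  obtain ⟨M, hM⟩ : ∃ M, M = pureM fun l => B (i.succAbove l) := ⟨_, rfl⟩
  have hMA : M ∈ Alg X i := mem_alg i H.le ha fun c => by
    have hg := hall (transGL hxy c) (mem_specialLinear_iff.1 (transGL_mem hxy c))
    refine ⟨(J i).symm (P * J i (kr (transGL hxy c) 1) * P⁻¹), ?_, ?_⟩
    · rw [mem_XI, MulEquiv.apply_symm_apply]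
      exact mul_mem (mul_mem hPN hg) (inv_mem hPN)
    · refine (Matrix.reindex (spl i) (spl i)).injective ?_
      rw [← J_val, MulEquiv.apply_symm_apply, Units.val_mul, Units.val_mul, J_val, kr_val, transGL_coe,
        Matrix.transvection, Units.val_one, Matrix.add_kronecker, Matrix.one_kronecker_one]
      have hre : ∀ N : Matrix ((Fin t → Fin m) × Fin m) ((Fin t → Fin m) × Fin m) F,
          Matrix.reindex (spl i) (spl i) (1 + N) = 1 + Matrix.reindex (spl i) (spl i) N := fun N => by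
        rw [← Matrix.coe_reindexAlgEquiv F F, map_add, map_one]
      rw [hre, hre, mul_add, add_mul, mul_one, Units.mul_inv]
      congr 1
      have e1 : Matrix.reindex (spl i) (spl i) (Matrix.single x y c ⊗ₖ (1 : Matrix (Fin m) (Fin m) F)) =
          c • pureM (i.insertNth (1 : Matrix (Fin m) (Fin m) F) (fun l => Matrix.single (x l) (y l) (1 : F))) := by
        ext u v
        obtain ⟨⟨u, a⟩, rfl⟩ := (spl i).surjective u
        obtain ⟨⟨v, b⟩, rfl⟩ := (spl i).surjective v
        rw [Matrix.reindex_apply, Matrix.submatrix_apply, Equiv.symm_apply_apply, Equiv.symm_apply_apply,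
          kroneckerMap_apply, Matrix.smul_apply, smul_eq_mul]
        simp only [pureM, Matrix.of_apply, spl, Equiv.coe_fn_mk]
        rw [Fin.prod_univ_succAbove _ i]
        simp only [Fin.insertNth_apply_same, Fin.insertNth_apply_succAbove, Matrix.single_apply]
        by_cases h : x = u ∧ y = v
        · obtain ⟨rfl, rfl⟩ := h
          simp [mul_comm]
        · rw [if_neg h]
          obtain ⟨l, hl⟩ : ∃ l, ¬ (x l = u l ∧ y l = v l) := by
            by_contra hcon
            push Not at hcon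
            exact h ⟨funext fun l => (hcon l).1, funext fun l => (hcon l).2⟩
          rw [Finset.prod_eq_zero (Finset.mem_univ l) (if_neg hl)]
          simp
      have e2 : Matrix.reindex (spl i) (spl i) ((c • M) ⊗ₖ Matrix.single a₀ a₁ (1 : F)) = c • pureM B := by
        rw [Matrix.smul_kronecker, hM]
        ext u v
        obtain ⟨⟨u, a⟩, rfl⟩ := (spl i).surjective u
        obtain ⟨⟨v, b⟩, rfl⟩ := (spl i).surjective v
        rw [Matrix.reindex_apply, Matrix.submatrix_apply, Equiv.symm_apply_apply, Equiv.symm_apply_apply,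
          Matrix.smul_apply, Matrix.smul_apply, kroneckerMap_apply]
        simp only [pureM, Matrix.of_apply, spl, Equiv.coe_fn_mk]
        rw [Fin.prod_univ_succAbove _ i, hBi]
        simp [Fin.insertNth_apply_same, Fin.insertNth_apply_succAbove, mul_comm]
      rw [e1, e2, hP, mul_smul_comm, smul_mul_assoc]
      congr 1
      show factorPermM m F σ * pureM _ * _ = _
      rw [factorPermM_pureM, ← hB, mul_assoc]
      show pureM B * ((factorPermGL m F σ : Matrix _ _ F) * _) = _
      rw [Units.mul_inv, mul_one]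
  obtain ⟨d, hd⟩ := alg_scalar i H.le H.notall hm H.ht hMA
  -- the diagonal separates
  obtain ⟨q, hq⟩ := Fin.exists_succAbove_eq hji
  have hqB : B (i.succAbove q) = Matrix.single a₀ a₀ 1 := by
    rw [hB]
    simp only [hq, show σ.symm j = k by rw [← hσ.1, Equiv.symm_apply_apply], k, Fin.insertNth_apply_succAbove]
    simp [x, y, Function.update_of_ne hpq.symm]
  have hB0 : ∀ l, B (i.succAbove l) a₀ a₀ ≠ 0 := by
    intro l
    rw [hB]
    simp only
    rcases Fin.eq_self_or_eq_succAbove i (σ.symm (i.succAbove l)) with e | ⟨l', e⟩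
    · rw [e, Fin.insertNth_apply_same, Matrix.one_apply_eq]; exact one_ne_zero
    · rw [e, Fin.insertNth_apply_succAbove]
      have hl' : l' ≠ p₁ := fun e' => Fin.succAbove_ne i l
        ((Equiv.apply_symm_apply σ _).symm.trans (by rw [e, e']; exact hσ.2))
      simp [x, y, Function.update_of_ne hl']
  have h0 := congrFun (congrFun hd x) x
  have h1 := congrFun (congrFun hd (Function.update x q a₁)) (Function.update x q a₁)
  rw [hM, Matrix.smul_apply, Matrix.one_apply_eq, smul_eq_mul, mul_one] at h0 h1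
  simp only [pureM, Matrix.of_apply] at h0 h1
  have hz : d = 0 := by
    rw [← h1]
    refine Finset.prod_eq_zero (Finset.mem_univ q) ?_
    rw [Function.update_self, hqB, Matrix.single_apply, if_neg (fun e => ha e.1)]
  rw [hz] at h0
  exact Finset.prod_ne_zero_iff.2 (fun l _ => hB0 l) h0

/-- An element of the overgroup that is a Kronecker product at a factor is standard. -/
theorem Over.kr_std (H : Over p X) (i : Fin (t + 1)) {a : GL (Fin t → Fin m) F} {b : GL (Fin m) F}
    (hab : kr a b ∈ XI X i) : J i (kr a b) ∈ Ns m (t + 1) F := by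
  have hm := H.hm
  haveI := Fact.mk H.prime
  haveI := H.char
  refine ⟨J_kr_mem i ?_ b, H.sl hab⟩
  rcases Nat.lt_or_ge t 2 with ht1 | ht2
  · obtain rfl : t = 1 := by have := H.ht; omega
    obtain ⟨a₀, ha₀⟩ : ∃ a₀ : GL (Fin m) F, (J (F := F) (m := m) (t := 0) 0) (kr 1 a₀) = a := by
      obtain ⟨G, rfl⟩ := (J (F := F) (m := m) (t := 0) 0).surjective a
      let e : (Fin 0 → Fin m) × Fin m ≃ Fin m :=
        ⟨Prod.snd, fun x => (default, x), fun p => Prod.ext (Subsingleton.elim _ _) rfl, fun _ => rfl⟩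
      refine ⟨glReindex e G, congrArg _ (Units.ext ?_)⟩
      ext ⟨u, k⟩ ⟨v, l⟩
      rw [kr_val, kroneckerMap_apply, Subsingleton.elim u default, Subsingleton.elim v default, Units.val_one,
        Matrix.one_apply_eq, one_mul]
      rfl
    rw [← ha₀, J_kr_right]
    exact facGL_mem _ _
  obtain ⟨t', rfl⟩ : ∃ t', t = t' + 1 := ⟨t - 1, by omega⟩
  let G : Subgroup (GL (Fin (t' + 1) → Fin m) F) :=
    (XI X i).comap (MonoidHom.mk' (fun c => kr c (1 : GL (Fin m) F)) (fun c d => by rw [kr_mul, mul_one])) ⊓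
      specialLinear (Fin (t' + 1) → Fin m) F
  have hG : Ns m (t' + 1) F ≤ G := fun c hc => ⟨H.le ⟨J_kr_mem i hc.1 1, mem_specialLinear_iff.2 (by
    rw [MulEquiv.coe_toMonoidHom]
    show ((J i (kr c 1) : GL (Fin (t' + 1 + 1) → Fin m) F) : Matrix (Fin (t' + 1 + 1) → Fin m) (Fin (t' + 1 + 1) → Fin m) F).det = 1
    rw [J_det, kr_val, det_kronecker, mem_specialLinear_iff.1 hc.2, Units.val_one, Matrix.det_one, one_pow, one_pow,
      one_mul])⟩, hc.2⟩
  rcases H.ih G hG inf_le_right with e | e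
  · refine normaliser p hm fun x hx => ?_
    have hx' : a * x * a⁻¹ ∈ G := by
      refine ⟨?_, mem_specialLinear_iff.2 ?_⟩
      · show kr (a * x * a⁻¹) (1 : GL (Fin m) F) ∈ XI X i
        rw [show kr (a * x * a⁻¹) (1 : GL (Fin m) F) = kr a b * kr x 1 * (kr a b)⁻¹ by
          rw [kr_inv, kr_mul, kr_mul, mul_one, mul_inv_cancel]]
        exact mul_mem (mul_mem hab (hG hx).1) (inv_mem hab)
      · rw [Units.val_mul, Units.val_mul, Matrix.det_mul, Matrix.det_mul, mem_specialLinear_iff.1 hx.2, mul_one,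
          ← Matrix.det_mul, Units.mul_inv, Matrix.det_one]
    rw [e] at hx'
    exact hx'.1
  · exact absurd (fun c hc => (e (mem_specialLinear_iff.2 hc)).1) (H.not_left i ht2)

/-- Fibre vectors. -/
theorem Over.fibre_std (H : Over p X) (i : Fin (t + 1)) {o : Fin m} {h : GL ((Fin t → Fin m) × Fin m) F}
    (hh : h ∈ XI X i)
    (h0 : ∀ x k y, k ≠ o → (h : Matrix ((Fin t → Fin m) × Fin m) ((Fin t → Fin m) × Fin m) F) (x, k) (y, o) = 0)
    (h0' : ∀ x k y, k ≠ o →
      ((h⁻¹ : GL ((Fin t → Fin m) × Fin m) F) : Matrix ((Fin t → Fin m) × Fin m) ((Fin t → Fin m) × Fin m) F) (x, k) (y, o) = 0) :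
    J i h ∈ Ns m (t + 1) F := by
  obtain ⟨a, b, rfl⟩ := stab_fibre i H.le H.notall H.hm H.ht hh h0 h0'
  exact H.kr_std i hh

/-- A determinant one matrix with a prescribed column. -/
theorem exists_col (hm : 2 ≤ m) {f : Fin m → F} {o : Fin m} (ho : f o ≠ 0) :
    ∃ b : GL (Fin m) F, (b : Matrix (Fin m) (Fin m) F).det = 1 ∧ ∀ k, (b : Matrix (Fin m) (Fin m) F) k o = f k := by
  classical
  haveI : Nontrivial (Fin m) := Fin.nontrivial_iff_two_le.2 hm
  obtain ⟨j, hj⟩ := exists_ne o
  obtain ⟨P, hP⟩ : ∃ P, P = Matrix.updateCol (1 : Matrix (Fin m) (Fin m) F) o f := ⟨_, rfl⟩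
  have hPd : P.det = f o := by
    rw [hP, ← Matrix.cramer_apply, Matrix.cramer_one]
    rfl
  let B := P.updateCol j ((f o)⁻¹ • fun k => P k j)
  have hBd : B.det = 1 := by
    rw [Matrix.det_updateCol_smul, show P.updateCol j (fun k => P k j) = P from Matrix.updateCol_eq_self P j, hPd,
      inv_mul_cancel₀ ho]
  refine ⟨((Matrix.isUnit_iff_isUnit_det B).2 (hBd ▸ isUnit_one)).unit, hBd, fun k => ?_⟩
  rw [IsUnit.unit_spec]
  simp only [B, Matrix.updateCol_ne (Ne.symm hj), hP, Matrix.updateCol_self]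

/-- An element of the overgroup fixing the image of a rotated fibre. -/
theorem Over.fixed_fibre (H : Over p X) (i : Fin (t + 1)) {f : Fin m → F} (hf : f ≠ 0)
    {g : GL (Fin (t + 1) → Fin m) F} (hg : g ∈ X)
    (hfix : ∀ w : (Fin t → Fin m) → F, (g : Matrix (Fin (t + 1) → Fin m) (Fin (t + 1) → Fin m) F) *ᵥ
      (fun x => w (fun j => x (i.succAbove j)) * f (x i)) = fun x => w (fun j => x (i.succAbove j)) * f (x i)) :
    g ∈ Ns m (t + 1) F := by
  classical
  obtain ⟨o, ho⟩ := Function.ne_iff.1 hf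
  obtain ⟨b, hbd, hb⟩ := exists_col (by have := H.hm; omega) ho
  have hbX : facGL i b ∈ Ns m (t + 1) F := ⟨facGL_mem _ _, mem_specialLinear_iff.2 (by
    rw [facGL_val, det_facM, hbd, one_pow])⟩
  obtain ⟨G, hG⟩ := (J i).surjective ((facGL i b)⁻¹ * g * facGL i b)
  have hGX : G ∈ XI X i := by
    rw [mem_XI, hG]
    exact mul_mem (mul_mem (inv_mem (H.le hbX)) hg) (H.le hbX)
  have hcol : ∀ (y : Fin t → Fin m) (p' : (Fin t → Fin m) × Fin m),
      (G : Matrix ((Fin t → Fin m) × Fin m) ((Fin t → Fin m) × Fin m) F) p' (y, o) = if p' = (y, o) then 1 else 0 := by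
    intro y p'
    have hbv : (facGL i b : Matrix (Fin (t + 1) → Fin m) (Fin (t + 1) → Fin m) F) *ᵥ Pi.single (spl i (y, o)) 1 =
        fun x => (Pi.single y 1 : (Fin t → Fin m) → F) (fun j => x (i.succAbove j)) * f (x i) := by
      funext x
      obtain ⟨⟨u, k⟩, rfl⟩ := (spl i).surjective x
      rw [Matrix.mulVec_single_one, Matrix.col_apply, facGL_val, ← emb_one, emb_apply, hb]
      simp [spl, Matrix.one_apply, Pi.single_apply]
    have e : (J i G : Matrix (Fin (t + 1) → Fin m) (Fin (t + 1) → Fin m) F) *ᵥ Pi.single (spl i (y, o)) 1 =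
        Pi.single (spl i (y, o)) 1 := by
      rw [hG, Units.val_mul, Units.val_mul, ← Matrix.mulVec_mulVec, ← Matrix.mulVec_mulVec, hbv, hfix, ← hbv,
        Matrix.mulVec_mulVec, Units.inv_mul, Matrix.one_mulVec]
    have e2 := congrFun e (spl i p')
    rw [Matrix.mulVec_single_one, Matrix.col_apply, J_apply, Equiv.symm_apply_apply, Equiv.symm_apply_apply,
      Pi.single_apply] at e2
    rw [e2]
    simp
  have hcol' : ∀ (y : Fin t → Fin m) (p' : (Fin t → Fin m) × Fin m),
      ((G⁻¹ : GL ((Fin t → Fin m) × Fin m) F) : Matrix ((Fin t → Fin m) × Fin m) ((Fin t → Fin m) × Fin m) F) p' (y, o) =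
        if p' = (y, o) then 1 else 0 := by
    intro y p'
    have e : (G : Matrix ((Fin t → Fin m) × Fin m) ((Fin t → Fin m) × Fin m) F) *ᵥ Pi.single (y, o) 1 =
        Pi.single (y, o) 1 := funext fun q => by
      rw [Matrix.mulVec_single_one, Matrix.col_apply, hcol, Pi.single_apply]
    have e2 := congrFun (congrArg (fun v =>
      ((G⁻¹ : GL ((Fin t → Fin m) × Fin m) F) : Matrix ((Fin t → Fin m) × Fin m) ((Fin t → Fin m) × Fin m) F) *ᵥ v) e) p'
    simp only [Matrix.mulVec_mulVec, Units.inv_mul, Matrix.one_mulVec] at e2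
    rw [Matrix.mulVec_single_one, Matrix.col_apply, Pi.single_apply] at e2
    exact e2.symm
  have hJ := H.fibre_std i (o := o) hGX (fun x k y hk => by rw [hcol, if_neg fun e => hk (Prod.mk.inj e).2])
    (fun x k y hk => by rw [hcol', if_neg fun e => hk (Prod.mk.inj e).2])
  rw [hG] at hJ
  have := mul_mem (mul_mem hbX hJ) (inv_mem hbX)
  rwa [show facGL i b * ((facGL i b)⁻¹ * g * facGL i b) * (facGL i b)⁻¹ = g by group] at this

/-- The centraliser of a root element lies in the stabiliser. -/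
theorem Over.central (H : Over p X) {z g : GL (Fin (t + 1) → Fin m) F} (hz : IsRoot z) (hg : g ∈ X)
    (hc : g * z = z * g) : g ∈ Ns m (t + 1) F := by
  classical
  obtain ⟨i, f, l, hf, hl, hlf, hzv⟩ := hz
  obtain ⟨o, ho⟩ := Function.ne_iff.1 hf
  obtain ⟨b, hbd, hb⟩ := exists_col (by have := H.hm; omega) ho
  have hbX : facGL i b ∈ Ns m (t + 1) F := ⟨facGL_mem _ _, mem_specialLinear_iff.2 (by
    rw [facGL_val, det_facM, hbd, one_pow])⟩
  obtain ⟨G, hG⟩ := (J i).surjective ((facGL i b)⁻¹ * g * facGL i b)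
  obtain ⟨l', hl'⟩ : ∃ l' : Fin m → F, l' = l ᵥ* (b : Matrix (Fin m) (Fin m) F) := ⟨_, rfl⟩
  obtain ⟨c, hc'⟩ : ∃ c, l' c ≠ 0 := by
    refine Function.ne_iff.1 (fun (e : l' = 0) => hl ?_)
    rw [hl'] at e
    have h2 := congrArg (fun v => v ᵥ* ((b⁻¹ : GL (Fin m) F) : Matrix (Fin m) (Fin m) F)) e
    simpa [Matrix.vecMul_vecMul] using h2
  have hfe : ((b⁻¹ : GL (Fin m) F) : Matrix (Fin m) (Fin m) F) *ᵥ f = Pi.single o 1 := by
    rw [show f = (b : Matrix (Fin m) (Fin m) F) *ᵥ Pi.single o 1 from funext fun k => by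
      rw [Matrix.mulVec_single_one, Matrix.col_apply, hb], Matrix.mulVec_mulVec, Units.inv_mul, Matrix.one_mulVec]
  obtain ⟨Y, hY⟩ : ∃ Y, Y = vecMulVec (Pi.single o (1 : F)) l' := ⟨_, rfl⟩
  have hz₀ : (((facGL i b)⁻¹ * z * facGL i b : GL (Fin (t + 1) → Fin m) F) : Matrix _ _ F) = 1 + facM i Y := by
    rw [Units.val_mul, Units.val_mul, hzv, ← map_inv, facGL_val, facGL_val, facM_mul, facM_mul, ← facM_one i,
      ← facM_add]
    congr 1
    rw [mul_add, add_mul, mul_one, Units.inv_mul, Matrix.mul_vecMulVec, Matrix.vecMulVec_mul, hfe, hY, hl']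
  have hcm : (J i G : Matrix (Fin (t + 1) → Fin m) (Fin (t + 1) → Fin m) F) * facM i Y =
      facM i Y * (J i G : Matrix (Fin (t + 1) → Fin m) (Fin (t + 1) → Fin m) F) := by
    have e : J i G * ((facGL i b)⁻¹ * z * facGL i b) = (facGL i b)⁻¹ * z * facGL i b * J i G := by
      rw [hG]
      calc (facGL i b)⁻¹ * g * facGL i b * ((facGL i b)⁻¹ * z * facGL i b) = (facGL i b)⁻¹ * (g * z) * facGL i b := by
            group
        _ = _ := by rw [hc]; group
    have e2 := congrArg (fun u : GL (Fin (t + 1) → Fin m) F => (u : Matrix (Fin (t + 1) → Fin m) (Fin (t + 1) → Fin m) F)) e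
    simp only [Units.val_mul] at e2
    rw [← Units.val_mul, ← Units.val_mul, hz₀, mul_add, add_mul, mul_one, one_mul] at e2
    exact add_left_cancel e2
  have key : ∀ (M : GL ((Fin t → Fin m) × Fin m) F),
      (J i M : Matrix (Fin (t + 1) → Fin m) (Fin (t + 1) → Fin m) F) * facM i Y =
        facM i Y * (J i M : Matrix (Fin (t + 1) → Fin m) (Fin (t + 1) → Fin m) F) →
      ∀ x k y, k ≠ o →
        (M : Matrix ((Fin t → Fin m) × Fin m) ((Fin t → Fin m) × Fin m) F) (x, k) (y, o) = 0 := by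
    intro M hM x k y hk
    have e := congrFun (congrFun hM (spl i (x, k))) (spl i (y, c))
    rw [Matrix.mul_apply, Matrix.mul_apply, ← (spl i).sum_comp, ← (spl i).sum_comp, Fintype.sum_prod_type,
      Fintype.sum_prod_type] at e
    simp only [← emb_one, emb_apply, J_apply, Equiv.symm_apply_apply, hY, vecMulVec_apply] at e
    rw [Finset.sum_eq_single y (fun z _ hz => Finset.sum_eq_zero fun w _ => by
        rw [Matrix.one_apply_ne hz, zero_mul, mul_zero]) (by simp),
      Finset.sum_eq_single o (fun w _ hw => by rw [Pi.single_eq_of_ne hw, zero_mul, mul_zero, mul_zero]) (by simp)] at e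
    rw [Finset.sum_eq_zero (s := Finset.univ) (f := fun z => ∑ w, (1 : Matrix (Fin t → Fin m) (Fin t → Fin m) F) x z *
        ((Pi.single o (1 : F) : Fin m → F) k * l' w) * _) (fun z _ => Finset.sum_eq_zero fun w _ => by
      rw [Pi.single_eq_of_ne hk, zero_mul, mul_zero, zero_mul]), Matrix.one_apply_eq, Pi.single_eq_same, one_mul,
      one_mul, mul_eq_zero] at e
    exact e.resolve_right hc'
  have hinv : (J i G⁻¹ : Matrix (Fin (t + 1) → Fin m) (Fin (t + 1) → Fin m) F) * facM i Y =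
      facM i Y * (J i G⁻¹ : Matrix (Fin (t + 1) → Fin m) (Fin (t + 1) → Fin m) F) := by
    rw [map_inv]
    exact (Commute.units_inv_left (show Commute (J i G : Matrix (Fin (t + 1) → Fin m) _ F) (facM i Y) from hcm))
  have hJ := H.fibre_std i (o := o) (h := G) (by
    rw [mem_XI, hG]; exact mul_mem (mul_mem (inv_mem (H.le hbX)) hg) (H.le hbX)) (key G hcm) (key G⁻¹ hinv)
  rw [hG] at hJ
  have := mul_mem (mul_mem hbX hJ) (inv_mem hbX)
  rwa [show facGL i b * ((facGL i b)⁻¹ * g * facGL i b) * (facGL i b)⁻¹ = g by group] at this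

end Cfsg.Agent.Classical.TensorPowerMax
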