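/-
Vectors as matrices with respect to one factor; the fixed spaces of root elements.
-/
import Cfsg.Agent.Lib.Classical.TensorPowerMax.Pure

set_option autoImplicit false
set_option linter.unusedSectionVars false

namespace Cfsg.Agent.Classical.TensorPowerMax

open Matrix Cfsg.Geo
open Cfsg.Agent.Classical
open Cfsg.Agent.Classical.TensorMax (kr kr_val kr_mul kr_one kr_inv)
open scoped Kronecker

variable {F : Type*} [Field F] {m t : ℕ}

/-- A vector as a matrix: other factors against the `i`-th one. -/
def slice (i : Fin (t + 1)) : ((Fin (t + 1) → Fin m) → F) ≃ₗ[F] Matrix (Fin t → Fin m) (Fin m) F where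
  toFun v := Matrix.of fun x k => v (spl i (x, k))
  invFun S := fun y => S ((spl i).symm y).1 ((spl i).symm y).2
  left_inv v := funext fun y => by simp
  right_inv S := Matrix.ext fun x k => by simp
  map_add' _ _ := rfl
  map_smul' _ _ := rfl

theorem slice_apply (i : Fin (t + 1)) (v : (Fin (t + 1) → Fin m) → F) (x : Fin t → Fin m) (k : Fin m) :
    slice i v x k = v (spl i (x, k)) := rfl

theorem slice_kr (i : Fin (t + 1)) (a : GL (Fin t → Fin m) F) (b : GL (Fin m) F) (v : (Fin (t + 1) → Fin m) → F) :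
    slice i ((J i (kr a b) : Matrix (Fin (t + 1) → Fin m) (Fin (t + 1) → Fin m) F) *ᵥ v) =
      (a : Matrix (Fin t → Fin m) (Fin t → Fin m) F) * slice i v * (b : Matrix (Fin m) (Fin m) F)ᵀ := by
  ext x k
  rw [slice_apply]
  refine (congrFun (J_mulVec i (kr a b) v) (x, k)).trans ?_
  rw [Matrix.mulVec, dotProduct, Fintype.sum_prod_type, Finset.sum_comm, Matrix.mul_apply]
  simp only [Matrix.mul_apply, Finset.sum_mul, kr_val, kroneckerMap_apply, Function.comp_apply,
    Matrix.transpose_apply, slice_apply]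
  exact Finset.sum_congr rfl fun l _ => Finset.sum_congr rfl fun y _ => by ring

theorem slice_fac (i : Fin (t + 1)) (Y : Matrix (Fin m) (Fin m) F) (v : (Fin (t + 1) → Fin m) → F) :
    slice i (facM i Y *ᵥ v) = slice i v * Yᵀ := by
  ext x k
  rw [slice_apply, Matrix.mulVec, dotProduct, ← (spl i).sum_comp, Fintype.sum_prod_type, Matrix.mul_apply,
    Finset.sum_eq_single x (fun y _ hy => Finset.sum_eq_zero fun l _ => by
      rw [facM_spl, Matrix.reindex_apply, Matrix.submatrix_apply, Equiv.symm_apply_apply, Equiv.symm_apply_apply,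
        kroneckerMap_apply, Matrix.one_apply_ne (Ne.symm hy), zero_mul, zero_mul]) (by simp)]
  refine Finset.sum_congr rfl fun l _ => ?_
  rw [facM_spl, Matrix.reindex_apply, Matrix.submatrix_apply, Equiv.symm_apply_apply, Equiv.symm_apply_apply,
    kroneckerMap_apply, Matrix.one_apply_eq, one_mul, Matrix.transpose_apply, slice_apply, mul_comm]

/-- Vectors all of whose rows at `i` lie in `K`. -/
def rows (i : Fin (t + 1)) (K : Submodule F (Fin m → F)) : Submodule F ((Fin (t + 1) → Fin m) → F) where
  carrier := {v | ∀ x, slice i v x ∈ K}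
  add_mem' {v w} hv hw x := by
    rw [map_add]
    exact K.add_mem (hv x) (hw x)
  zero_mem' x := by
    rw [map_zero]
    exact K.zero_mem
  smul_mem' c v hv x := by
    rw [map_smul]
    exact K.smul_mem c (hv x)

theorem mem_rows {i : Fin (t + 1)} {K : Submodule F (Fin m → F)} {v : (Fin (t + 1) → Fin m) → F} :
    v ∈ rows i K ↔ ∀ x, slice i v x ∈ K := Iff.rfl

theorem rows_mono {i : Fin (t + 1)} {K K' : Submodule F (Fin m → F)} (h : K ≤ K') : rows i K ≤ rows i K' :=
  fun _ hv x => h (hv x)

/-- The rows at `i` as a family. -/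
def rowsEquiv (i : Fin (t + 1)) (K : Submodule F (Fin m → F)) : rows i K ≃ₗ[F] ((Fin t → Fin m) → K) where
  toFun v x := ⟨slice i v.1 x, v.2 x⟩
  invFun f := ⟨(slice i).symm (Matrix.of fun x => (f x : Fin m → F)), fun x => by
    rw [LinearEquiv.apply_symm_apply]
    exact (f x).2⟩
  left_inv v := Subtype.ext ((slice i).symm_apply_apply v.1)
  right_inv f := funext fun x => Subtype.ext (by simp only [LinearEquiv.apply_symm_apply]; rfl)
  map_add' v w := funext fun x => Subtype.ext (congrFun ((slice i).map_add v.1 w.1) x)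
  map_smul' c v := funext fun x => Subtype.ext (congrFun ((slice i).map_smul c v.1) x)

theorem finrank_rows (i : Fin (t + 1)) (K : Submodule F (Fin m → F)) :
    Module.finrank F (rows i K) = m ^ t * Module.finrank F K := by
  rw [(rowsEquiv i K).finrank_eq, Module.finrank_pi_fintype]
  simp

/-- A simple tensor at the factor `i`. -/
def tens (i : Fin (t + 1)) (w : (Fin t → Fin m) → F) (h : Fin m → F) : (Fin (t + 1) → Fin m) → F :=
  fun x => w (fun j => x (i.succAbove j)) * h (x i)

theorem slice_tens (i : Fin (t + 1)) (w : (Fin t → Fin m) → F) (h : Fin m → F) :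
    slice i (tens i w h) = vecMulVec w h := by
  ext x k
  simp [slice_apply, tens, spl, vecMulVec_apply]

theorem tens_mem_rows (i : Fin (t + 1)) (w : (Fin t → Fin m) → F) {h : Fin m → F} {K : Submodule F (Fin m → F)}
    (hh : h ∈ K) : tens i w h ∈ rows i K := fun x => by
  rw [slice_tens]
  exact K.smul_mem (w x) hh

theorem kr_tens (i : Fin (t + 1)) (a : GL (Fin t → Fin m) F) (b : GL (Fin m) F) (w : (Fin t → Fin m) → F)
    (h : Fin m → F) :
    (J i (kr a b) : Matrix (Fin (t + 1) → Fin m) (Fin (t + 1) → Fin m) F) *ᵥ tens i w h =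
      tens i ((a : Matrix (Fin t → Fin m) (Fin t → Fin m) F) *ᵥ w) ((b : Matrix (Fin m) (Fin m) F) *ᵥ h) := by
  refine (slice i).injective ?_
  rw [slice_kr, slice_tens, slice_tens, Matrix.mul_vecMulVec, Matrix.vecMulVec_mul, Matrix.vecMul_transpose]

theorem tens_eq (i : Fin (t + 1)) {w : (Fin t → Fin m) → F} {h h' : Fin m → F} (hw : w ≠ 0)
    (e : tens i w h = tens i w h') : h = h' := by
  obtain ⟨x, hx⟩ := Function.ne_iff.1 hw
  have e' := congrArg (fun v => slice i v x) e
  simp only [slice_tens] at e'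
  funext k
  exact mul_left_cancel₀ hx (congrFun e' k)

/-- The vectors annihilated by `l` at the factor `i`. -/
def ann (i : Fin (t + 1)) (l : Fin m → F) : Submodule F ((Fin (t + 1) → Fin m) → F) :=
  rows i (LinearMap.ker (dotProductBilin F F l))

theorem mem_ker_dot {l h : Fin m → F} : h ∈ LinearMap.ker (dotProductBilin F F l) ↔ l ⬝ᵥ h = 0 := Iff.rfl

theorem mem_ann {i : Fin (t + 1)} {l : Fin m → F} {v : (Fin (t + 1) → Fin m) → F} :
    v ∈ ann i l ↔ slice i v *ᵥ l = 0 := by
  rw [ann, mem_rows]
  constructor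
  · intro h
    funext x
    rw [Matrix.mulVec, dotProduct_comm]
    exact h x
  · intro h x
    show l ⬝ᵥ slice i v x = 0
    rw [dotProduct_comm]
    exact congrFun h x

theorem finrank_ker_dot {l : Fin m → F} (hl : l ≠ 0) :
    Module.finrank F (LinearMap.ker (dotProductBilin F F l)) + 1 = m := by
  obtain ⟨b, hb⟩ := Function.ne_iff.1 hl
  have hsurj : LinearMap.range (dotProductBilin F F l) = ⊤ := by
    refine LinearMap.range_eq_top.2 fun c => ⟨Pi.single b (c / l b), ?_⟩
    show l ⬝ᵥ Pi.single b (c / l b) = c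
    rw [dotProduct_single, mul_div_cancel₀ c hb]
  have := LinearMap.finrank_range_add_finrank_ker (dotProductBilin F F l)
  rw [hsurj, finrank_top, Module.finrank_self, Module.finrank_fintype_fun_eq_card, Fintype.card_fin] at this
  omega

theorem root_mulVec {i : Fin (t + 1)} {g : GL (Fin (t + 1) → Fin m) F} {f l : Fin m → F}
    (hg : (g : Matrix (Fin (t + 1) → Fin m) (Fin (t + 1) → Fin m) F) = facM i (1 + vecMulVec f l))
    (v : (Fin (t + 1) → Fin m) → F) :
    (g : Matrix (Fin (t + 1) → Fin m) (Fin (t + 1) → Fin m) F) *ᵥ v = v + tens i (slice i v *ᵥ l) f := by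
  refine (slice i).injective ?_
  rw [hg, slice_fac, map_add, slice_tens, Matrix.transpose_add, Matrix.transpose_one, Matrix.transpose_vecMulVec,
    Matrix.mul_add, Matrix.mul_one, Matrix.mul_vecMulVec]

theorem root_fix_iff {i : Fin (t + 1)} {g : GL (Fin (t + 1) → Fin m) F} {f l : Fin m → F} (hf : f ≠ 0)
    (hg : (g : Matrix (Fin (t + 1) → Fin m) (Fin (t + 1) → Fin m) F) = facM i (1 + vecMulVec f l))
    (v : (Fin (t + 1) → Fin m) → F) :
    (g : Matrix (Fin (t + 1) → Fin m) (Fin (t + 1) → Fin m) F) *ᵥ v = v ↔ v ∈ ann i l := by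
  rw [root_mulVec hg, add_eq_left, mem_ann]
  constructor
  · intro e
    funext x
    obtain ⟨k, hk⟩ := Function.ne_iff.1 hf
    have := congrArg (fun w => slice i w x k) e
    simp only [slice_tens, vecMulVec_apply, map_zero, Matrix.zero_apply] at this
    exact (mul_eq_zero.1 this).resolve_right hk
  · intro e
    rw [e]
    funext x
    simp [tens]

/-! ### Several factors at once -/

theorem slice_pure (i : Fin (t + 1)) (B : Fin (t + 1) → GL (Fin m) F) (v : (Fin (t + 1) → Fin m) → F) :
    slice i ((pureGL B : Matrix (Fin (t + 1) → Fin m) (Fin (t + 1) → Fin m) F) *ᵥ v) =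
      (pureGL (fun j => B (i.succAbove j)) : Matrix (Fin t → Fin m) (Fin t → Fin m) F) * slice i v *
        (B i : Matrix (Fin m) (Fin m) F)ᵀ := by
  rw [← slice_kr, J_kr_pure]
  congr 4
  funext j
  rcases Fin.eq_self_or_eq_succAbove i j with rfl | ⟨j, rfl⟩ <;> simp

/-- Fixed spaces of root elements in different factors in general position. -/
theorem finrank_le_anns (hm : 0 < m) (T : Finset (Fin (t + 1))) (l : Fin (t + 1) → Fin m → F) (hl : ∀ i ∈ T, l i ≠ 0)
    (W : Submodule F ((Fin (t + 1) → Fin m) → F)) (hW : ∀ i ∈ T, W ≤ ann i (l i)) :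
    Module.finrank F W ≤ (m - 1) ^ T.card * m ^ (t + 1 - T.card) := by
  classical
  have hex : ∀ i, ∃ (c : GL (Fin m) F) (o : Fin m), i ∈ T → (c : Matrix (Fin m) (Fin m) F) o = l i := by
    intro i
    by_cases hi : i ∈ T
    · obtain ⟨o, ho⟩ := Function.ne_iff.1 (hl i hi)
      have hd : ((1 : Matrix (Fin m) (Fin m) F).updateRow o (l i)).det ≠ 0 := by
        rw [← Matrix.det_transpose, ← Matrix.updateCol_transpose, Matrix.transpose_one, ← Matrix.cramer_apply,
          Matrix.cramer_one]
        exact ho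
      refine ⟨((Matrix.isUnit_iff_isUnit_det _).2 (Ne.isUnit hd)).unit, o, fun _ => ?_⟩
      rw [IsUnit.unit_spec, Matrix.updateRow_self]
    · exact ⟨1, ⟨0, hm⟩, fun h => absurd h hi⟩
  choose C o hCo using hex
  let S : Finset (Fin (t + 1) → Fin m) := Fintype.piFinset fun i => if i ∈ T then Finset.univ.erase (o i) else Finset.univ
  have hS : S.card = (m - 1) ^ T.card * m ^ (t + 1 - T.card) := by
    rw [Fintype.card_piFinset, ← Finset.prod_mul_prod_compl T, Finset.prod_congr rfl (fun i hi => ?_),
      Finset.prod_congr (s₂ := Tᶜ) rfl (fun i hi => ?_), Finset.prod_const, Finset.prod_const, Finset.card_compl,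
      Fintype.card_fin]
    · rw [if_neg (Finset.mem_compl.1 hi), Finset.card_univ, Fintype.card_fin]
    · rw [if_pos hi, Finset.card_erase_of_mem (Finset.mem_univ _), Finset.card_univ, Fintype.card_fin]
  rw [← hS]
  let φ : W →ₗ[F] (S → F) := (LinearMap.pi fun x : S => LinearMap.proj (x : Fin (t + 1) → Fin m)) ∘ₗ
    (Matrix.mulVecLin (pureGL C : Matrix (Fin (t + 1) → Fin m) (Fin (t + 1) → Fin m) F)) ∘ₗ W.subtype
  have hφ : Function.Injective φ := by
    rw [← LinearMap.ker_eq_bot, Submodule.eq_bot_iff]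
    intro w hw
    have h0 : (pureGL C : Matrix (Fin (t + 1) → Fin m) (Fin (t + 1) → Fin m) F) *ᵥ (w : (Fin (t + 1) → Fin m) → F) = 0 := by
      funext x
      by_cases hx : x ∈ S
      · exact congrFun (LinearMap.mem_ker.1 hw) ⟨x, hx⟩
      · obtain ⟨i, hi⟩ : ∃ i, x i ∉ (if i ∈ T then Finset.univ.erase (o i) else Finset.univ) := by
          by_contra hcon
          push Not at hcon
          exact hx (Fintype.mem_piFinset.2 hcon)
        have hiT : i ∈ T := by
          by_contra hiT
          rw [if_neg hiT] at hi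
          exact hi (Finset.mem_univ _)
        rw [if_pos hiT] at hi
        have hxo : x i = o i := by
          by_contra hne
          exact hi (Finset.mem_erase.2 ⟨hne, Finset.mem_univ _⟩)
        obtain ⟨⟨y, k⟩, rfl⟩ := (spl i).surjective x
        obtain rfl : k = o i := by simpa [spl] using hxo
        have e := congrFun (congrFun (slice_pure i C (w : (Fin (t + 1) → Fin m) → F)) y) (o i)
        rw [slice_apply] at e
        refine e.trans ?_
        rw [Matrix.mul_assoc, Matrix.mul_apply]
        refine Finset.sum_eq_zero fun z _ => ?_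
        have hz := congrFun (mem_ann.1 (hW i hiT w.2)) z
        have hcol : (slice i (w : (Fin (t + 1) → Fin m) → F) * (C i : Matrix (Fin m) (Fin m) F)ᵀ) z (o i) = 0 := by
          refine Eq.trans ?_ hz
          rw [Matrix.mul_apply, Matrix.mulVec, dotProduct]
          exact Finset.sum_congr rfl fun k _ => by rw [Matrix.transpose_apply, hCo i hiT]
        rw [hcol, mul_zero]
    refine Subtype.ext ?_
    have := congrArg (fun u => ((pureGL C)⁻¹ : GL (Fin (t + 1) → Fin m) F).val *ᵥ u) h0
    simpa [Matrix.mulVec_mulVec, ← Units.val_mul] using this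
  refine (LinearMap.finrank_le_finrank_of_injective hφ).trans ?_
  rw [Module.finrank_fintype_fun_eq_card, Fintype.card_coe]

/-! ### Simple tensors in all factors -/

/-- The simple tensor of a family of vectors. -/
def pv (c : Fin t → Fin m → F) : (Fin t → Fin m) → F := fun x => ∏ k, c k (x k)

theorem std_pv (A : Fin t → GL (Fin m) F) (σ : Equiv.Perm (Fin t)) (c : Fin t → Fin m → F) :
    ((pureGL A * factorPermGL m F σ : GL (Fin t → Fin m) F) : Matrix (Fin t → Fin m) (Fin t → Fin m) F) *ᵥ pv c =
      pv fun k => (A k : Matrix (Fin m) (Fin m) F) *ᵥ c (σ.symm k) := by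
  funext x
  simp only [Matrix.mulVec, dotProduct, std_apply, pv]
  rw [Finset.prod_univ_sum, Fintype.piFinset_univ]
  refine Fintype.sum_equiv (Equiv.arrowCongr σ (Equiv.refl (Fin m))) _ _ fun y => ?_
  rw [← Equiv.prod_comp σ.symm (fun k => c k (y k)), ← Finset.prod_mul_distrib]
  rfl

theorem pv_prop {c d : Fin t → Fin m → F} (hd : ∀ k, d k ≠ 0) (h : pv c = pv d) (k : Fin t) :
    ∃ r : F, r ≠ 0 ∧ c k = r • d k := by
  classical
  choose x hx using fun k => Function.ne_iff.1 (hd k)
  obtain ⟨C, hC⟩ : ∃ C, C = ∏ l ∈ Finset.univ.erase k, c l (x l) := ⟨_, rfl⟩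
  obtain ⟨D, hD⟩ : ∃ D, D = ∏ l ∈ Finset.univ.erase k, d l (x l) := ⟨_, rfl⟩
  have hD0 : D ≠ 0 := hD ▸ Finset.prod_ne_zero_iff.2 fun l _ => hx l
  have e : ∀ a, C * c k a = D * d k a := fun a => by
    have h' := congrFun h (Function.update x k a)
    simp only [pv] at h'
    rw [← Finset.mul_prod_erase Finset.univ _ (Finset.mem_univ k), Function.update_self,
      ← Finset.mul_prod_erase Finset.univ (fun l => d l (Function.update x k a l)) (Finset.mem_univ k),
      Function.update_self] at h'
    rw [hC, hD, mul_comm, mul_comm _ (d k a)]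
    refine Eq.trans ?_ (h'.trans ?_)
    · congr 1
      exact Finset.prod_congr rfl fun l hl => by rw [Function.update_of_ne (Finset.ne_of_mem_erase hl)]
    · congr 1
      exact Finset.prod_congr rfl fun l hl => by rw [Function.update_of_ne (Finset.ne_of_mem_erase hl)]
  have hC0 : C ≠ 0 := fun h0 => by
    have := e (x k)
    rw [h0, zero_mul] at this
    exact mul_ne_zero hD0 (hx k) this.symm
  refine ⟨C⁻¹ * D, mul_ne_zero (inv_ne_zero hC0) hD0, funext fun a => ?_⟩
  rw [Pi.smul_apply, smul_eq_mul, mul_assoc, ← e a, ← mul_assoc, inv_mul_cancel₀ hC0, one_mul]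

end Cfsg.Agent.Classical.TensorPowerMax
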