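/-
Quadratic 3 × 3 matrices: commuting pairs with a transvection as commutator, and the centraliser of a transvection.
-/
import Cfsg.Agent.Lib.Classical.TensorPowerMax.Basic

set_option autoImplicit false
set_option linter.unusedSectionVars false

namespace Cfsg.Agent.Classical.TensorPowerMax

open Matrix

variable {F : Type*} [Field F]

theorem vmv_mul (u w u' w' : Fin 3 → F) : vecMulVec u w * vecMulVec u' w' = (w ⬝ᵥ u') • vecMulVec u w' := by
  ext a b
  simp only [Matrix.mul_apply, vecMulVec_apply, Matrix.smul_apply, smul_eq_mul, dotProduct, Finset.sum_mul]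
  exact Finset.sum_congr rfl fun c _ => by ring

theorem rank_one_of_sq {N : Matrix (Fin 3) (Fin 3) F} (hN : N * N = 0) (h0 : N ≠ 0) :
    ∃ u w : Fin 3 → F, u ≠ 0 ∧ w ≠ 0 ∧ w ⬝ᵥ u = 0 ∧ N = vecMulVec u w := by
  obtain ⟨v, hv⟩ : ∃ v, N *ᵥ v ≠ 0 := by
    by_contra! h
    exact h0 (Matrix.ext_of_mulVec_single fun i => by rw [h, Matrix.zero_mulVec])
  have hle : LinearMap.range N.mulVecLin ≤ LinearMap.ker N.mulVecLin := by
    rintro _ ⟨x, rfl⟩
    simp [LinearMap.mem_ker, Matrix.mulVec_mulVec, hN]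
  have h1 := LinearMap.finrank_range_add_finrank_ker N.mulVecLin
  have h2 := Submodule.finrank_mono hle
  rw [Module.finrank_fin_fun] at h1
  obtain ⟨u, hu⟩ : ∃ u, u = N *ᵥ v := ⟨_, rfl⟩
  have hmem : Submodule.span F {u} ≤ LinearMap.range N.mulVecLin := by
    rw [Submodule.span_singleton_le_iff_mem, hu]; exact ⟨v, rfl⟩
  have heq : Submodule.span F {u} = LinearMap.range N.mulVecLin :=
    Submodule.eq_of_le_of_finrank_le hmem (by rw [finrank_span_singleton (hu ▸ hv)]; omega)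
  have hcol : ∀ j, ∃ c : F, N *ᵥ Pi.single j 1 = c • u := fun j => by
    have hj : N *ᵥ Pi.single j 1 ∈ Submodule.span F {u} := by rw [heq]; exact ⟨Pi.single j 1, rfl⟩
    obtain ⟨c, hc⟩ := Submodule.mem_span_singleton.1 hj
    exact ⟨c, hc.symm⟩
  choose w hw using hcol
  have e : N = vecMulVec u w := Matrix.ext fun a b => by
    have := congrFun (hw b) a
    rw [Matrix.mulVec_single_one, Matrix.col_apply, Pi.smul_apply, smul_eq_mul] at this
    rw [this, vecMulVec_apply, mul_comm]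
  have hu0 : u ≠ 0 := hu ▸ hv
  have hw0 : w ≠ 0 := fun h => h0 (by rw [e, h, Matrix.vecMulVec_zero])
  refine ⟨u, w, hu0, hw0, ?_, e⟩
  rw [e, vmv_mul, smul_eq_zero] at hN
  exact hN.resolve_right (vecMulVec_ne_zero hu0 hw0)

/-- A quadratic matrix commutes with two transvections whose commutator is a transvection. -/
theorem exists_commuting_pair {c : Matrix (Fin 3) (Fin 3) F} {s : F}
    (hc : (c - s • 1) * (c - s • 1) = 0) :
    ∃ (f₁ l₁ f₂ l₂ f l : Fin 3 → F) (h₁ : l₁ ⬝ᵥ f₁ = 0) (h₂ : l₂ ⬝ᵥ f₂ = 0) (h : l ⬝ᵥ f = 0),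
      f₁ ≠ 0 ∧ l₁ ≠ 0 ∧ f₂ ≠ 0 ∧ l₂ ≠ 0 ∧ f ≠ 0 ∧ l ≠ 0 ∧
      c * vecMulVec f₁ l₁ = vecMulVec f₁ l₁ * c ∧ c * vecMulVec f₂ l₂ = vecMulVec f₂ l₂ * c ∧
      tv f l h = tv f₁ l₁ h₁ * tv f₂ l₂ h₂ * (tv f₁ l₁ h₁)⁻¹ * (tv f₂ l₂ h₂)⁻¹ := by
  have hcomm : ∀ (u l : Fin 3 → F) (x : Matrix (Fin 3) (Fin 3) F), x * vecMulVec u l = 0 → vecMulVec u l * x = 0 →
      c = s • 1 + x → c * vecMulVec u l = vecMulVec u l * c := fun u l x h1 h2 e => by
    rw [e, add_mul, mul_add, smul_mul_assoc, one_mul, mul_smul_comm, mul_one, h1, h2]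
  have main : ∀ (u w l₁ f₂ : Fin 3 → F) (h₁ : l₁ ⬝ᵥ u = 0) (h₂ : w ⬝ᵥ f₂ = 0) (h : w ⬝ᵥ u = 0), l₁ ⬝ᵥ f₂ = 1 →
      tv u w h = tv u l₁ h₁ * tv f₂ w h₂ * (tv u l₁ h₁)⁻¹ * (tv f₂ w h₂)⁻¹ := by
    intro u w l₁ f₂ h₁ h₂ h hp
    refine eq_mul_inv_iff_mul_eq.2 (eq_mul_inv_iff_mul_eq.2 (Units.ext ?_))
    show (1 + vecMulVec u w) * (1 + vecMulVec f₂ w) * (1 + vecMulVec u l₁) =
      (1 + vecMulVec u l₁) * (1 + vecMulVec f₂ w)
    simp only [add_mul, mul_add, one_mul, mul_one, vmv_mul, smul_mul_assoc, h₁, h₂, h, hp, zero_smul, one_smul,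
      add_zero, smul_zero]
    abel
  by_cases hN : c - s • 1 = 0
  · let e0 : Fin 3 → F := Pi.single 0 1
    let e1 : Fin 3 → F := Pi.single 1 1
    let e2 : Fin 3 → F := Pi.single 2 1
    have hc' : c = s • 1 + 0 := by rw [add_zero]; exact sub_eq_zero.1 hN
    refine ⟨e0, e1, e1, e2, e0, e2, by simp [e0, e1], by simp [e1, e2], by simp [e0, e2], by simp [e0], by simp [e1],
      by simp [e1], by simp [e2], by simp [e0], by simp [e2], hcomm _ _ 0 (zero_mul _) (mul_zero _) hc',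
      hcomm _ _ 0 (zero_mul _) (mul_zero _) hc', main e0 e2 e1 e1 _ _ _ (by simp [e1])⟩
  · obtain ⟨u, w, hu, hw, hwu, hNe⟩ := rank_one_of_sq hc hN
    have hc' : c = s • 1 + vecMulVec u w := by rw [← hNe, add_sub_cancel]
    -- a vector in the kernel of `w` outside the line of `u`
    let φ : (Fin 3 → F) →ₗ[F] F :=
      { toFun := fun v => w ⬝ᵥ v, map_add' := fun a b => dotProduct_add _ _ _,
        map_smul' := fun c v => by simp [dotProduct_smul] }
    obtain ⟨f₂, hf₂, hf₂u⟩ : ∃ f₂, φ f₂ = 0 ∧ f₂ ∉ Submodule.span F {u} := by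
      by_contra! hcon
      have hle : LinearMap.ker φ ≤ Submodule.span F {u} := fun v hv => hcon v hv
      have h1 := LinearMap.finrank_range_add_finrank_ker φ
      have h2 := Submodule.finrank_mono hle
      have h3 := (LinearMap.range φ).finrank_le
      rw [Module.finrank_fin_fun] at h1
      rw [finrank_span_singleton hu] at h2
      rw [Module.finrank_self] at h3
      omega
    obtain ⟨ψ, hψ, hψu⟩ := Submodule.exists_dual_map_eq_bot_of_notMem hf₂u inferInstance
    let l₁ : Fin 3 → F := fun i => ψ (Pi.single i 1) / ψ f₂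
    have hl : ∀ v, l₁ ⬝ᵥ v = ψ v / ψ f₂ := fun v => by
      conv_rhs => rw [← Finset.univ_sum_single v, map_sum, Finset.sum_div]
      refine Finset.sum_congr rfl fun i _ => ?_
      rw [show Pi.single i (v i) = v i • (Pi.single i (1 : F) : Fin 3 → F) by simp [← Pi.single_smul'], map_smul,
        smul_eq_mul]
      simp only [l₁]
      ring
    have h1u : l₁ ⬝ᵥ u = 0 := by
      rw [hl]
      have : ψ u ∈ Submodule.map ψ (Submodule.span F {u}) :=
        Submodule.mem_map_of_mem (Submodule.mem_span_singleton_self u)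
      rw [hψu, Submodule.mem_bot] at this
      rw [this, zero_div]
    have h12 : l₁ ⬝ᵥ f₂ = 1 := by rw [hl, div_self hψ]
    have hf2w : w ⬝ᵥ f₂ = 0 := hf₂
    refine ⟨u, l₁, f₂, w, u, w, h1u, hf2w, hwu, hu, fun e => by simp [e] at h12, fun e => by simp [e] at h12, hw,
      hu, hw, ?_, ?_, main u w l₁ f₂ _ _ _ h12⟩
    · exact hcomm _ _ _ (by rw [vmv_mul, hwu, zero_smul]) (by rw [vmv_mul, h1u, zero_smul]) hc'
    · exact hcomm _ _ _ (by rw [vmv_mul, hf2w, zero_smul]) (by rw [vmv_mul, hwu, zero_smul]) hc'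

/-- Quadratic matrices commuting with a transvection multiply into its line. -/
theorem central_products {f l : Fin 3 → F} (hf : f ≠ 0) (hl : l ≠ 0) (hlf : l ⬝ᵥ f = 0)
    {M : Matrix (Fin 3) (Fin 3) F} (hM : M * M = 0) (hc : M * vecMulVec f l = vecMulVec f l * M) :
    vecMulVec f l * M = 0 ∧ ∀ {M' : Matrix (Fin 3) (Fin 3) F}, M' * M' = 0 →
      M' * vecMulVec f l = vecMulVec f l * M' → ∃ α : F, M * M' = α • vecMulVec f l := by
  classical
  have main : ∀ {N : Matrix (Fin 3) (Fin 3) F}, N * N = 0 → N * vecMulVec f l = vecMulVec f l * N → N ≠ 0 →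
      ∃ u w : Fin 3 → F, w ⬝ᵥ u = 0 ∧ w ⬝ᵥ f = 0 ∧ l ⬝ᵥ u = 0 ∧ N = vecMulVec u w := by
    intro N hN hcN h0
    obtain ⟨u, w, hu, hw, hwu, e⟩ := rank_one_of_sq hN h0
    rw [e, vmv_mul, vmv_mul] at hcN
    refine ⟨u, w, hwu, ?_, ?_, e⟩
    · have := congrArg (fun K => vecMulVec f l * K) hcN
      simp only [mul_smul_comm, vmv_mul, hlf, zero_smul, smul_zero] at this
      rw [smul_smul, smul_eq_zero, mul_eq_zero] at this
      rcases this with (h | h) | h
      · exact h
      · rw [h, zero_smul, smul_eq_zero] at hcN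
        exact hcN.resolve_right (vecMulVec_ne_zero hu hl)
      · exact absurd h (vecMulVec_ne_zero hf hl)
    · have := congrArg (fun K => K * vecMulVec f l) hcN
      simp only [smul_mul_assoc, vmv_mul, hlf, zero_smul, smul_zero] at this
      rw [smul_smul, eq_comm, smul_eq_zero, mul_eq_zero] at this
      rcases this with (h | h) | h
      · exact h
      · rw [h, zero_smul, eq_comm, smul_eq_zero] at hcN
        exact hcN.resolve_right (vecMulVec_ne_zero hf hw)
      · exact absurd h (vecMulVec_ne_zero hf hl)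
  refine ⟨?_, fun {M'} hM' hc' => ?_⟩
  · rcases eq_or_ne M 0 with rfl | h0
    · rw [mul_zero]
    obtain ⟨u, w, -, -, hlu, rfl⟩ := main hM hc h0
    rw [vmv_mul, hlu, zero_smul]
  rcases eq_or_ne M 0 with rfl | h0
  · exact ⟨0, by rw [zero_mul, zero_smul]⟩
  rcases eq_or_ne M' 0 with rfl | h0'
  · exact ⟨0, by rw [mul_zero, zero_smul]⟩
  obtain ⟨u₁, w₁, h11, h1f, hl1, rfl⟩ := main hM hc h0
  obtain ⟨u₂, w₂, h22, h2f, hl2, rfl⟩ := main hM' hc' h0'
  rw [vmv_mul]
  rcases eq_or_ne (w₁ ⬝ᵥ u₂) 0 with h | h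
  · exact ⟨0, by rw [h, zero_smul, zero_smul]⟩
  have hind : LinearIndependent F ![f, u₂] := by
    rw [LinearIndependent.pair_iff]
    intro a b hab
    have := congrArg (fun v => w₁ ⬝ᵥ v) hab
    simp only [dotProduct_add, dotProduct_smul, h1f, smul_eq_mul, mul_zero, zero_add, dotProduct_zero,
      mul_eq_zero] at this
    have hb := this.resolve_right h
    rw [hb, zero_smul, add_zero, smul_eq_zero] at hab
    exact ⟨hab.resolve_right hf, hb⟩
  let φ : (Fin 3 → F) →ₗ[F] F :=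
    { toFun := fun v => l ⬝ᵥ v, map_add' := fun a b => dotProduct_add _ _ _,
      map_smul' := fun c v => by simp [dotProduct_smul] }
  have hker : LinearMap.ker φ = Submodule.span F (Set.range ![f, u₂]) := by
    refine (Submodule.eq_of_le_of_finrank_le ?_ ?_).symm
    · rw [Submodule.span_le]
      rintro _ ⟨i, rfl⟩
      fin_cases i
      · exact hlf
      · exact hl2
    · rw [finrank_span_eq_card hind, Fintype.card_fin]
      by_contra hgt
      have htop : LinearMap.ker φ = ⊤ := Submodule.eq_top_of_finrank_eq (by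
        have := (LinearMap.ker φ).finrank_le
        rw [Module.finrank_fin_fun] at this ⊢
        omega)
      refine hl (funext fun i => ?_)
      have : Pi.single i (1 : F) ∈ LinearMap.ker φ := htop ▸ Submodule.mem_top
      simpa [φ, dotProduct_single] using this
  obtain ⟨α, hα⟩ : ∃ α : F, u₁ = α • f := by
    have : u₁ ∈ LinearMap.ker φ := hl1
    rw [hker, Submodule.mem_span_range_iff_exists_fun] at this
    obtain ⟨c, hc⟩ := this
    simp only [Fin.sum_univ_two, Matrix.cons_val_zero, Matrix.cons_val_one] at hc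
    have h' := congrArg (fun v => w₁ ⬝ᵥ v) hc
    simp only [dotProduct_add, dotProduct_smul, h1f, h11, smul_eq_mul, mul_zero, zero_add, mul_eq_zero] at h'
    exact ⟨c 0, by rw [← hc, h'.resolve_right h, zero_smul, add_zero]⟩
  obtain ⟨β, hβ⟩ : ∃ β : F, w₂ = β • l := by
    obtain ⟨i, hi⟩ := Function.ne_iff.1 hl
    refine ⟨w₂ i / l i, funext fun j => ?_⟩
    have hv : (l i • (Pi.single j 1 : Fin 3 → F) - l j • Pi.single i 1) ∈ LinearMap.ker φ := by
      simp [φ, mul_comm]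
    rw [hker, Submodule.mem_span_range_iff_exists_fun] at hv
    obtain ⟨c, hc⟩ := hv
    have h' := congrArg (fun v => w₂ ⬝ᵥ v) hc
    simp only [Fin.sum_univ_two, Matrix.cons_val_zero, Matrix.cons_val_one, dotProduct_add, dotProduct_sub,
      dotProduct_smul, h2f, h22, smul_eq_mul, mul_zero, add_zero, dotProduct_single, mul_one] at h'
    rw [Pi.smul_apply, smul_eq_mul, div_mul_eq_mul_div, eq_div_iff (show l i ≠ 0 from hi)]
    linear_combination -h'
  refine ⟨(w₁ ⬝ᵥ u₂) * (α * β), ?_⟩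
  rw [hα, hβ, Matrix.smul_vecMulVec, Matrix.vecMulVec_smul, smul_smul, smul_smul, mul_assoc]

end Cfsg.Agent.Classical.TensorPowerMax
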