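/-
An element of the overgroup carrying a root element into the stabiliser lies in the stabiliser.
-/
import Cfsg.Agent.Lib.Classical.TensorPowerMax.Central
import Cfsg.Agent.Lib.Classical.TensorPowerMax.Three

set_option autoImplicit false
set_option linter.unusedSectionVars false

namespace Cfsg.Agent.Classical.TensorPowerMax

open Matrix Cfsg.Geo
open Cfsg.Agent.Classical
open Cfsg.Agent.Classical.TensorMax (kr kr_val kr_mul kr_one kr_inv)
open scoped Kronecker

variable {F : Type*} [Field F] {m t : ℕ}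

theorem conj_comm {G : Type*} [Group G] (g : G) {a b : G} (h : a * b = b * a) :
    g * a * g⁻¹ * (g * b * g⁻¹) = g * b * g⁻¹ * (g * a * g⁻¹) := by
  calc g * a * g⁻¹ * (g * b * g⁻¹) = g * (a * b) * g⁻¹ := by group
    _ = _ := by rw [h]; group

/-- An invertible pure tensor equal to one has scalar factors. -/
theorem pureGL_eq_one (hm : 0 < m) {C : Fin t → GL (Fin m) F} (h : pureGL C = 1) (l : Fin t) :
    ∃ c : F, (C l : Matrix (Fin m) (Fin m) F) = c • 1 := by
  classical
  let z : Fin t → Fin m := fun _ => ⟨0, hm⟩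
  obtain ⟨K, hK⟩ : ∃ K, K = ∏ k ∈ Finset.univ.erase l, (C k : Matrix (Fin m) (Fin m) F) (z k) (z k) := ⟨_, rfl⟩
  have e : ∀ a b, (C l : Matrix (Fin m) (Fin m) F) a b * K = if a = b then 1 else 0 := by
    intro a b
    have h' := congrFun (congrFun (congrArg (fun g : GL (Fin t → Fin m) F =>
      (g : Matrix (Fin t → Fin m) (Fin t → Fin m) F)) h) (Function.update z l a)) (Function.update z l b)
    simp only [pureGL_val, pureM, Matrix.of_apply, Units.val_one, Matrix.one_apply] at h'
    rw [← Finset.mul_prod_erase Finset.univ _ (Finset.mem_univ l), Function.update_self, Function.update_self] at h'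
    refine (Eq.trans ?_ h').trans ?_
    · rw [hK]
      congr 1
      exact Finset.prod_congr rfl fun k hk => by
        rw [Function.update_of_ne (Finset.ne_of_mem_erase hk), Function.update_of_ne (Finset.ne_of_mem_erase hk)]
    · exact if_congr ⟨fun e => by simpa using congrFun e l, fun e => by rw [e]⟩ rfl rfl
  refine ⟨K⁻¹, Matrix.ext fun a b => ?_⟩
  have hK0 : K ≠ 0 := fun h0 => by simpa [h0] using e ⟨0, hm⟩ ⟨0, hm⟩
  rw [Matrix.smul_apply, smul_eq_mul, ← mul_right_inj' hK0, ← mul_assoc, mul_inv_cancel₀ hK0, one_mul, mul_comm, e,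
    Matrix.one_apply]

theorem kron_eq_kron {α β : Type} [Nonempty α] [Fintype α] [DecidableEq α] [Fintype β] [DecidableEq β]
    {a a' : GL α F} {b b' : GL β F} (h : kr a b = kr a' b') :
    ∃ c : F, c ≠ 0 ∧ (b : Matrix β β F) = c • (b' : Matrix β β F) := by
  obtain ⟨x⟩ := ‹Nonempty α›
  obtain ⟨y, hy⟩ : ∃ y, (a : Matrix α α F) x y ≠ 0 := by
    by_contra hcon
    push Not at hcon
    have := congrFun (congrFun (a.mul_inv) x) x
    rw [Matrix.mul_apply, Finset.sum_eq_zero (fun z _ => by rw [hcon z, zero_mul]), Matrix.one_apply_eq] at this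
    exact zero_ne_one this
  have e : ∀ i j, (a : Matrix α α F) x y * (b : Matrix β β F) i j = (a' : Matrix α α F) x y * (b' : Matrix β β F) i j :=
    fun i j => congrFun (congrFun (congrArg (fun g : GL (α × β) F => (g : Matrix (α × β) (α × β) F)) h) (x, i)) (y, j)
  have hb : (b : Matrix β β F) = (((a : Matrix α α F) x y)⁻¹ * (a' : Matrix α α F) x y) • (b' : Matrix β β F) := by
    ext i j
    rw [Matrix.smul_apply, smul_eq_mul, mul_assoc, ← e, ← mul_assoc, inv_mul_cancel₀ hy, one_mul]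
  rcases isEmpty_or_nonempty β with hβ | ⟨⟨i⟩⟩
  · exact ⟨1, one_ne_zero, Matrix.ext fun i => hβ.elim i⟩
  refine ⟨_, fun h0 => ?_, hb⟩
  rw [h0, zero_smul] at hb
  have := congrFun (congrFun (b.mul_inv) i) i
  rw [hb, Matrix.zero_mul, Matrix.zero_apply, Matrix.one_apply_eq] at this
  exact zero_ne_one this

variable [Fintype F] {p : ℕ} {X : Subgroup (GL (Fin (t + 1) → Fin m) F)}

theorem rootAt_sq_zero {i : Fin (t + 1)} {g : GL (Fin (t + 1) → Fin m) F} (h : RootAt i g) (u : GL (Fin (t + 1) → Fin m) F) :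
    (((u * g * u⁻¹ : GL (Fin (t + 1) → Fin m) F) : Matrix (Fin (t + 1) → Fin m) (Fin (t + 1) → Fin m) F) - 1) *
      (((u * g * u⁻¹ : GL (Fin (t + 1) → Fin m) F) : Matrix (Fin (t + 1) → Fin m) (Fin (t + 1) → Fin m) F) - 1) = 0 :=
  conj_sq u g h.sq

/-- Two commuting root elements: the image of the second lies in the stabiliser. -/
theorem Over.image_mem (H : Over p X) {g z h : GL (Fin (t + 1) → Fin m) F} (hg : g ∈ X)
    (hz' : IsRoot (g * z * g⁻¹)) (hh : h ∈ Ns m (t + 1) F) (hc : h * z = z * h) : g * h * g⁻¹ ∈ Ns m (t + 1) F :=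
  H.central hz' (mul_mem (mul_mem hg (H.le hh)) (inv_mem hg)) (conj_comm g hc)

/-- A root element going to a root element. -/
theorem Over.moves_root (H : Over p X) {g z : GL (Fin (t + 1) → Fin m) F} (hg : g ∈ X) (hz : IsRoot z)
    (hz' : IsRoot (g * z * g⁻¹)) : g ∈ Ns m (t + 1) F := by
  classical
  have hm := H.hm
  haveI := Fact.mk H.prime
  haveI := H.char
  obtain ⟨s, hzs⟩ := hz
  refine ⟨mem_std_of_roots (by omega) (Nat.succ_pos t) g ?_, H.sl hg⟩
  have hroot : ∀ (i : Fin (t + 1)) (z₁ : GL (Fin (t + 1) → Fin m) F) (s₁ : Fin (t + 1)), RootAt s₁ z₁ →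
      IsRoot (g * z₁ * g⁻¹) → i ≠ s₁ → ∀ (a b : Fin m) (hab : a ≠ b), IsRoot (g * stdRoot i hab * g⁻¹) := by
    intro i z₁ s₁ h₁ h₁' his a b hab
    obtain ⟨c, hca, hcb⟩ := exists_third hm a b
    refine root_of_commutator p hm
      (H.image_mem hg h₁' (rootAt_std i (Ne.symm hca)).mem_ns ((rootAt_std i (Ne.symm hca)).commute his h₁)).1
      (H.image_mem hg h₁' (rootAt_std i hcb).mem_ns ((rootAt_std i hcb).commute his h₁)).1 ?_
      (rootAt_sq_zero (rootAt_std i hab) g) (by rw [rank_conj, (rootAt_std i hab).rank (by omega)])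
    rw [stdRoot_comm i (Ne.symm hca) hcb hab]
    group
  intro i a b hab
  by_cases his : i = s
  · obtain ⟨q, hq⟩ : ∃ q, q ≠ s := by
      haveI : Nontrivial (Fin (t + 1)) := Fin.nontrivial_iff_two_le.2 (by have := H.ht; omega)
      exact exists_ne s
    have h01 : (⟨0, by omega⟩ : Fin m) ≠ ⟨1, by omega⟩ := by simp [Fin.ext_iff]
    exact hroot i _ q (rootAt_std q h01) (hroot q z s hzs hz' hq _ _ h01) (his ▸ Ne.symm hq) a b hab
  · exact hroot i z s hzs hz' his a b hab

/-- The displacement of a product of two root elements in the only two factors. -/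
theorem rank_two_roots (p : ℕ) [Fact p.Prime] [CharP F p] {j k : Fin 2} (hjk : j ≠ k)
    {h h' : GL (Fin 2 → Fin 3) F} (hh : RootAt j h) (hh' : RootAt k h') :
    3 < (((h * h' : GL (Fin 2 → Fin 3) F) : Matrix (Fin 2 → Fin 3) (Fin 2 → Fin 3) F) - 1).rank ∨
      ((((h * h' : GL (Fin 2 → Fin 3) F) : Matrix (Fin 2 → Fin 3) (Fin 2 → Fin 3) F) - 1) *
        (((h * h' : GL (Fin 2 → Fin 3) F) : Matrix (Fin 2 → Fin 3) (Fin 2 → Fin 3) F) - 1) ≠ 0) := by
  classical
  by_contra hcon
  push Not at hcon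
  obtain ⟨hr, hsq⟩ := hcon
  obtain ⟨f, l, hlf, hf, hl, rfl⟩ := hh.eq
  obtain ⟨f', l', hlf', hf', hl', rfl⟩ := hh'.eq
  have hpure : facGL j (tv f l hlf) * facGL k (tv f' l' hlf') =
      pureGL (Pi.mulSingle j (tv f l hlf) * Pi.mulSingle k (tv f' l' hlf')) := by
    rw [map_mul]; rfl
  have hne : facGL j (tv f l hlf) * facGL k (tv f' l' hlf') ≠ 1 := fun e => by
    have e' : facGL j (tv f l hlf) = (facGL k (tv f' l' hlf'))⁻¹ := mul_eq_one_iff_eq_inv.1 e
    rw [← map_inv] at e'
    obtain ⟨c, hc⟩ := facM_eq_facM (F := F) (m := 3) (by norm_num) hjk ((facGL_val j _).symm.trans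
      ((congrArg (fun g : GL (Fin 2 → Fin 3) F => (g : Matrix (Fin 2 → Fin 3) (Fin 2 → Fin 3) F)) e').trans (facGL_val k _)))
    exact hh.not_scalar (by norm_num) c (by rw [facGL_val, hc, facM_smul, facM_one])
  rcases classify p (t := 1) le_rfl (hpure ▸ pureGL_mem _) hsq hne (by simpa using hr) with ⟨s, hs⟩ | ⟨-, A, σ, hσ, he⟩
  · obtain ⟨u, v, huv, -, -, hs'⟩ := hs.eq
    by_cases hsj : s = j
    · subst hsj
      have e' : facGL k (tv f' l' hlf') = facGL s ((tv f l hlf)⁻¹ * tv u v huv) := by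
        rw [map_mul, map_inv, ← hs', inv_mul_cancel_left]
      obtain ⟨c, hc⟩ := facM_eq_facM (F := F) (m := 3) (by norm_num) (Ne.symm hjk) ((facGL_val k _).symm.trans
        ((congrArg (fun g : GL (Fin 2 → Fin 3) F => (g : Matrix (Fin 2 → Fin 3) (Fin 2 → Fin 3) F)) e').trans (facGL_val s _)))
      exact hh'.not_scalar (by norm_num) c (by rw [facGL_val, hc, facM_smul, facM_one])
    · have hsk : s = k := by omega
      subst hsk
      have e' : facGL j (tv f l hlf) = facGL s (tv u v huv * (tv f' l' hlf')⁻¹) := by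
        rw [map_mul, map_inv, ← hs', mul_inv_cancel_right]
      obtain ⟨c, hc⟩ := facM_eq_facM (F := F) (m := 3) (by norm_num) hjk ((facGL_val j _).symm.trans
        ((congrArg (fun g : GL (Fin 2 → Fin 3) F => (g : Matrix (Fin 2 → Fin 3) (Fin 2 → Fin 3) F)) e').trans (facGL_val s _)))
      exact hh.not_scalar (by norm_num) c (by rw [facGL_val, hc, facM_smul, facM_one])
  · have : σ = 1 := perm_unique (by norm_num) (A := A) (B := Pi.mulSingle j (tv f l hlf) * Pi.mulSingle k (tv f' l' hlf'))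
      (τ := 1) (by rw [← he, hpure, perm_one, mul_one])
    subst this
    obtain ⟨x, y, hxy, e⟩ := hσ
    have := congrArg (fun τ : Equiv.Perm (Fin (1 + 1)) => τ x) e
    simp only [Equiv.Perm.one_apply, Equiv.swap_apply_left] at this
    exact hxy this

end Cfsg.Agent.Classical.TensorPowerMax
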