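/-
A root element is not conjugate in the overgroup to a transposition of factors.
-/
import Cfsg.Agent.Lib.Classical.TensorPowerMax.Moves

set_option autoImplicit false
set_option linter.unusedSectionVars false

namespace Cfsg.Agent.Classical.TensorPowerMax

open Matrix Cfsg.Geo
open Cfsg.Agent.Classical
open Cfsg.Agent.Classical.TensorMax (kr kr_val kr_mul kr_one kr_inv)
open scoped Kronecker

variable {F : Type*} [Field F] {m t : ℕ}

theorem kron_left_cancel {α β : Type} [Nonempty α] [Fintype α] [DecidableEq α] [Fintype β] [DecidableEq β]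
    {a : GL α F} {b b' : GL β F} (h : kr a b = kr a b') : b = b' := by
  obtain ⟨x⟩ := ‹Nonempty α›
  obtain ⟨y, hy⟩ : ∃ y, (a : Matrix α α F) x y ≠ 0 := by
    by_contra hcon
    push Not at hcon
    have := congrFun (congrFun (a.mul_inv) x) x
    rw [Matrix.mul_apply, Finset.sum_eq_zero (fun z _ => by rw [hcon z, zero_mul]), Matrix.one_apply_eq] at this
    exact zero_ne_one this
  refine Units.ext (Matrix.ext fun i j => mul_left_cancel₀ hy ?_)
  exact congrFun (congrFun (congrArg (fun g : GL (α × β) F => (g : Matrix (α × β) (α × β) F)) h) (x, i)) (y, j)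

/-- In characteristic two a matrix squaring to a scalar is a scalar plus a quadratic matrix. -/
theorem exists_sqrt_shift [Fintype F] [CharP F 2] {n : Type} [Fintype n] [DecidableEq n] [Nonempty n]
    {c : Matrix n n F} {d : F} (h : c * c = d • 1) : ∃ s : F, (c - s • 1) * (c - s • 1) = 0 := by
  haveI : Fact (Nat.Prime 2) := ⟨Nat.prime_two⟩
  obtain ⟨s, hs⟩ : ∃ s : F, s ^ 2 = d := by
    simpa [frobenius_def] using (Finite.injective_iff_surjective.1 (frobenius F 2).injective) d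
  refine ⟨s, ?_⟩
  rw [← pow_two, sub_pow_char_of_commute (p := 2) (((Commute.one_left c).smul_left s).symm), pow_two c, h, smul_pow,
    one_pow, hs, sub_self]

variable [Fintype F]

theorem swap_fixes_or {σ : Equiv.Perm (Fin (t + 1))} (hσ : σ.IsSwap) : (∃ l, σ l = l) ∨ t = 1 := by
  classical
  by_cases h : ∃ l, σ l = l
  · exact Or.inl h
  push Not at h
  obtain ⟨x, y, hxy, rfl⟩ := hσ
  right
  have hsub : (Finset.univ : Finset (Fin (t + 1))) ⊆ {x, y} := fun l _ => by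
    rw [Finset.mem_insert, Finset.mem_singleton]
    by_contra hcon
    push Not at hcon
    exact h l (Equiv.swap_apply_of_ne_of_ne hcon.1 hcon.2)
  have := (Finset.card_le_card hsub).trans Finset.card_le_two
  have h2 : 1 < t + 1 := by
    have := Fintype.one_lt_card_iff_nontrivial.2 (⟨⟨x, y, hxy⟩⟩ : Nontrivial (Fin (t + 1)))
    simpa using this
  rw [Finset.card_univ, Fintype.card_fin] at this
  omega

/-- Two factors: images of diagonal root products cannot centralise a root element. -/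
theorem two_factor_false [CharP F 2] {z z' g : GL (Fin 2 → Fin 3) F} {s : Fin 2} (hz : RootAt s z)
    {A : Fin 2 → GL (Fin 3) F} {σ : Equiv.Perm (Fin 2)} (hσ : σ.IsSwap) (hz'e : z' = pureGL A * factorPermGL 3 F σ)
    (hz'2 : z' * z' = 1)
    (hback : ∀ h ∈ Ns 3 2 F, h * z' = z' * h →
      g⁻¹ * h * g ∈ tensorWreathStandard 3 2 F ∧ g⁻¹ * h * g * z = z * (g⁻¹ * h * g))
    (hsl : z' ∈ specialLinear (Fin 2 → Fin 3) F) : False := by
  classical
  haveI : Fact (Nat.Prime 2) := ⟨Nat.prime_two⟩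
  obtain ⟨k, hk⟩ : ∃ k, σ 0 = k := ⟨_, rfl⟩
  have hk0 : (0 : Fin 2) ≠ k := by
    obtain ⟨x, y, hxy, rfl⟩ := hσ
    rw [← hk]
    clear hk hz'e
    fin_cases x <;> fin_cases y <;> simp_all
  obtain ⟨D, hD⟩ : ∃ D : ∀ a b : Fin 3, a ≠ b → GL (Fin 2 → Fin 3) F,
      D = fun a b hab => stdRoot 0 hab * (z' * stdRoot 0 hab * z'⁻¹) := ⟨_, rfl⟩
  have hz'N : z' ∈ Ns 3 2 F := ⟨hz'e ▸ mul_mem (pureGL_mem A) (factorPermGL_mem σ), hsl⟩
  have hslot : ∀ a b (hab : a ≠ b), RootAt k (z' * stdRoot 0 hab * z'⁻¹) := fun a b hab => by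
    rw [hz'e, ← hk]; exact (rootAt_std 0 hab).conj
  have hh2 : ∀ {i : Fin 2} {h : GL (Fin 2 → Fin 3) F}, RootAt i h → h * h = 1 := fun {i h} hh => Units.ext (by
    have e := hh.sq
    rw [← pow_two, sub_pow_char_of_commute (p := 2) (Commute.one_right _), one_pow, sub_eq_zero, pow_two] at e
    rw [Units.val_mul, e, Units.val_one])
  have hinv : z'⁻¹ = z' := inv_eq_of_mul_eq_one_right hz'2
  have hDN : ∀ a b (hab : a ≠ b), D a b hab ∈ Ns 3 2 F := fun a b hab => by
    rw [hD]; exact mul_mem (rootAt_std 0 hab).mem_ns (hslot a b hab).mem_ns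
  have hDc : ∀ a b (hab : a ≠ b), D a b hab * z' = z' * D a b hab := fun a b hab => by
    have e := (rootAt_std (F := F) 0 hab).commute hk0 (hslot a b hab)
    rw [hD]
    calc stdRoot 0 hab * (z' * stdRoot 0 hab * z'⁻¹) * z'
        = z' * stdRoot 0 hab * z'⁻¹ * stdRoot 0 hab * z' := by rw [e]
      _ = z' * (stdRoot 0 hab * (z' * stdRoot 0 hab * z'⁻¹)) := by rw [hinv]; group
  obtain ⟨f, l, hlf, hf, hl, hzeq⟩ := hz.eq
  -- the shape of an image
  have hE : ∀ a b (hab : a ≠ b), ∃ (α : GL (Fin 1 → Fin 3) F) (β : GL (Fin 3) F),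
      g⁻¹ * D a b hab * g = J s (kr α β) ∧ β * tv f l hlf = tv f l hlf * β ∧
      ∃ d : F, (β : Matrix (Fin 3) (Fin 3) F) * β = d • 1 := by
    intro a b hab
    obtain ⟨hst, hcm⟩ := hback _ (hDN a b hab) (hDc a b hab)
    obtain ⟨B, τ, he⟩ := std_decomp hst
    have hτ : τ s = s := by
      have h1 : RootAt (τ s) (pureGL B * factorPermGL 3 F τ * z * (pureGL B * factorPermGL 3 F τ)⁻¹) := hz.conj
      rw [← he, hcm, mul_inv_cancel_right] at h1
      exact h1.slot_unique (by norm_num) hz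
    obtain ⟨α, hα⟩ := exists_kr_of_fixed (t := 1) (by norm_num) s B hτ
    refine ⟨α, B s, he.trans hα, ?_, ?_⟩
    · have h1 := hcm
      rw [he, hα, hzeq, ← J_kr_right, ← map_mul, ← map_mul, kr_mul, kr_mul, mul_one, one_mul] at h1
      exact kron_left_cancel ((J (F := F) s).injective h1)
    · have h2 : g⁻¹ * D a b hab * g * (g⁻¹ * D a b hab * g) = 1 := by
        have e := (rootAt_std (F := F) 0 hab).commute hk0 (hslot a b hab)
        have hDD : D a b hab * D a b hab = 1 := by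
          rw [hD]
          calc stdRoot 0 hab * (z' * stdRoot 0 hab * z'⁻¹) * (stdRoot 0 hab * (z' * stdRoot 0 hab * z'⁻¹))
              = stdRoot 0 hab * ((z' * stdRoot 0 hab * z'⁻¹) * stdRoot 0 hab) * (z' * stdRoot 0 hab * z'⁻¹) := by
                group
            _ = (stdRoot 0 hab * stdRoot 0 hab) * ((z' * stdRoot 0 hab * z'⁻¹) * (z' * stdRoot 0 hab * z'⁻¹)) := by
                rw [← e]; group
            _ = 1 := by rw [hh2 (rootAt_std 0 hab), hh2 (hslot a b hab), mul_one]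
        rw [show g⁻¹ * D a b hab * g * (g⁻¹ * D a b hab * g) = g⁻¹ * (D a b hab * D a b hab) * g by group, hDD]
        group
      rw [he.trans hα, ← map_mul, kr_mul, ← map_one (J (F := F) (m := 3) (t := 1) s), ← kr_one] at h2
      obtain ⟨d, -, hd⟩ := kron_eq_kron ((J (F := F) s).injective h2)
      exact ⟨d, by rw [← Units.val_mul, hd, Units.val_one]⟩
  choose α β hEe hcomm d hd using hE
  obtain ⟨K, hK⟩ : ∃ K, K = vecMulVec f l := ⟨_, rfl⟩
  have hK2 : K * K = 0 := hK ▸ vecMulVec_sq hlf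
  have hβK : ∀ a b hab, (β a b hab : Matrix (Fin 3) (Fin 3) F) * K = K * β a b hab := fun a b hab => by
    have e := congrArg (fun u : GL (Fin 3) F => (u : Matrix (Fin 3) (Fin 3) F)) (hcomm a b hab)
    simp only [Units.val_mul, show ((tv f l hlf : GL (Fin 3) F) : Matrix (Fin 3) (Fin 3) F) = 1 + K by rw [hK]; rfl,
      mul_add, add_mul, mul_one, one_mul] at e
    exact add_left_cancel e
  -- the middle factor of a commutator of images
  have hcom : ∀ a b c (hac : a ≠ c) (hcb : c ≠ b) (hab : a ≠ b), ∃ μ : F, (β a b hab : Matrix (Fin 3) (Fin 3) F) =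
      μ • ((β a c hac : Matrix (Fin 3) (Fin 3) F) * β c b hcb * ((β a c hac : Matrix (Fin 3) (Fin 3) F) * β c b hcb)) := by
    intro a b c hac hcb hab
    have e0 : D a b hab = D a c hac * D c b hcb * (D a c hac)⁻¹ * (D c b hcb)⁻¹ := by
      rw [hD]
      simp only
      rw [stdRoot_comm 0 hac hcb hab]
      have e1 := (rootAt_std (F := F) 0 hac).commute hk0 (hslot c b hcb)
      have e2 := (rootAt_std (F := F) 0 hcb).commute hk0 (hslot a c hac)
      obtain ⟨x, hx⟩ : ∃ x, x = stdRoot (F := F) (0 : Fin 2) hac := ⟨_, rfl⟩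
      obtain ⟨y, hy⟩ : ∃ y, y = stdRoot (F := F) (0 : Fin 2) hcb := ⟨_, rfl⟩
      rw [← hx, ← hy] at e1 e2 ⊢
      obtain ⟨x', hx'⟩ : ∃ x', x' = z' * x * z'⁻¹ := ⟨_, rfl⟩
      obtain ⟨y', hy'⟩ : ∃ y', y' = z' * y * z'⁻¹ := ⟨_, rfl⟩
      rw [← hy'] at e1
      rw [← hx'] at e2
      rw [show z' * (x * y * x⁻¹ * y⁻¹) * z'⁻¹ = x' * y' * x'⁻¹ * y'⁻¹ by rw [hx', hy']; group, ← hx', ← hy']
      have c1 : Commute x y' := e1
      have c2 : Commute y x' := e2
      have c3 : Commute x x' := by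
        rw [hx', hx]; exact (rootAt_std 0 hac).commute hk0 (hslot a c hac)
      have c4 : Commute y y' := by
        rw [hy', hy]; exact (rootAt_std 0 hcb).commute hk0 (hslot c b hcb)
      symm
      calc x * x' * (y * y') * (x * x')⁻¹ * (y * y')⁻¹
          = x * (x' * y) * (y' * x'⁻¹ * x⁻¹ * y'⁻¹) * y⁻¹ := by group
        _ = x * (y * x') * (y' * x'⁻¹ * (x⁻¹ * y'⁻¹)) * y⁻¹ := by rw [c2.eq]; group
        _ = x * y * (x' * y' * x'⁻¹ * y'⁻¹) * x⁻¹ * y⁻¹ := by rw [(c1.inv_inv).eq]; group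
        _ = x * y * ((x' * y' * x'⁻¹ * y'⁻¹) * (x⁻¹ * y⁻¹)) := by group
        _ = x * y * ((x⁻¹ * y⁻¹) * (x' * y' * x'⁻¹ * y'⁻¹)) := by
            rw [((((c3.symm.inv_right).mul_right (c2.symm.inv_right)).mul_left
              ((c1.symm.inv_right).mul_right (c4.symm.inv_right))).mul_left
              ((c3.symm.inv_inv).mul_right (c2.symm.inv_inv))).mul_left
              ((c1.symm.inv_inv).mul_right (c4.symm.inv_inv)) |>.eq]
        _ = x * y * x⁻¹ * y⁻¹ * (x' * y' * x'⁻¹ * y'⁻¹) := by group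
    have e : J s (kr (α a b hab) (β a b hab)) = J s (kr (α a c hac) (β a c hac)) * J s (kr (α c b hcb) (β c b hcb)) *
        (J s (kr (α a c hac) (β a c hac)))⁻¹ * (J s (kr (α c b hcb) (β c b hcb)))⁻¹ := by
      rw [← hEe, ← hEe, ← hEe, e0]; group
    rw [← map_inv, ← map_inv, ← map_mul, ← map_mul, ← map_mul, kr_inv, kr_inv, kr_mul, kr_mul, kr_mul] at e
    obtain ⟨μ, -, hμ⟩ := kron_eq_kron ((J (F := F) s).injective e)
    have hβi : ∀ a b hab, (((β a b hab)⁻¹ : GL (Fin 3) F) : Matrix (Fin 3) (Fin 3) F) =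
        (d a b hab)⁻¹ • (β a b hab : Matrix (Fin 3) (Fin 3) F) := fun a b hab => by
      have hd0 : d a b hab ≠ 0 := fun h => by
        have h' := hd a b hab
        rw [h, zero_smul] at h'
        have hu : IsUnit ((β a b hab : Matrix (Fin 3) (Fin 3) F) * β a b hab) := (β a b hab).isUnit.mul (β a b hab).isUnit
        rw [h'] at hu
        exact not_isUnit_zero hu
      refine left_inv_eq_right_inv (Units.inv_mul _) ?_
      rw [mul_smul_comm, hd, smul_smul, inv_mul_cancel₀ hd0, one_smul]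
    refine ⟨μ * ((d c b hcb)⁻¹ * (d a c hac)⁻¹), ?_⟩
    rw [hμ, Units.val_mul, Units.val_mul, Units.val_mul, hβi, hβi, mul_smul_comm, mul_smul_comm, smul_mul_assoc,
      smul_smul, smul_smul]
    simp only [mul_assoc]
  -- the middle factor is a scalar plus the root line, hence scalar
  have hline : ∀ a b (hab : a ≠ b), ∃ u v : F, (β a b hab : Matrix (Fin 3) (Fin 3) F) = u • 1 + v • K := by
    intro a b hab
    obtain ⟨c, hca, hcb⟩ := exists_third le_rfl a b
    obtain ⟨μ, hμ⟩ := hcom a b c (Ne.symm hca) hcb hab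
    obtain ⟨s₁, hs₁⟩ := exists_sqrt_shift (hd a c (Ne.symm hca))
    obtain ⟨s₂, hs₂⟩ := exists_sqrt_shift (hd c b hcb)
    obtain ⟨M₁, hM₁⟩ : ∃ M, M = (β a c (Ne.symm hca) : Matrix (Fin 3) (Fin 3) F) - s₁ • 1 := ⟨_, rfl⟩
    obtain ⟨M₂, hM₂⟩ : ∃ M, M = (β c b hcb : Matrix (Fin 3) (Fin 3) F) - s₂ • 1 := ⟨_, rfl⟩
    rw [← hM₁] at hs₁
    rw [← hM₂] at hs₂
    have hc₁ : M₁ * K = K * M₁ := by
      rw [hM₁, sub_mul, mul_sub, hβK, smul_mul_assoc, one_mul, mul_smul_comm, mul_one]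
    have hc₂ : M₂ * K = K * M₂ := by
      rw [hM₂, sub_mul, mul_sub, hβK, smul_mul_assoc, one_mul, mul_smul_comm, mul_one]
    subst hK
    obtain ⟨hz₁, hp₁⟩ := central_products hf hl hlf hs₁ hc₁
    obtain ⟨hz₂, hp₂⟩ := central_products hf hl hlf hs₂ hc₂
    obtain ⟨x₁, hx₁⟩ := hp₁ hs₂ hc₂
    obtain ⟨x₂, hx₂⟩ := hp₂ hs₁ hc₁
    rw [hz₁] at hc₁
    rw [hz₂] at hc₂
    refine ⟨μ * (s₁ * s₂ * (s₁ * s₂)), μ * (s₁ * s₂ * (x₁ + x₂)), ?_⟩
    rw [hμ, show (β a c (Ne.symm hca) : Matrix (Fin 3) (Fin 3) F) = s₁ • 1 + M₁ by rw [hM₁, add_sub_cancel],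
      show (β c b hcb : Matrix (Fin 3) (Fin 3) F) = s₂ • 1 + M₂ by rw [hM₂, add_sub_cancel]]
    simp only [mul_add, add_mul, smul_mul_assoc, mul_smul_comm, one_mul, mul_one, smul_add, smul_smul, hx₁, hx₂,
      hs₁, hs₂, hz₁, hz₂, hc₁, hc₂, hK2, smul_zero, add_zero, zero_add]
    have h2 : (2 : F) = 0 := CharP.ofNat_eq_zero F 2
    match_scalars
    · ring
    all_goals first | (ring_nf; simp [h2]; done) | linear_combination (μ * s₂ * s₁ * x₁) * h2 |
      linear_combination (μ * s₂ * s₁ * x₂) * h2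
  have hscal : ∀ a b (hab : a ≠ b), ∃ u : F, (β a b hab : Matrix (Fin 3) (Fin 3) F) = u • 1 := by
    intro a b hab
    obtain ⟨c, hca, hcb⟩ := exists_third le_rfl a b
    obtain ⟨μ, hμ⟩ := hcom a b c (Ne.symm hca) hcb hab
    obtain ⟨u₁, v₁, h₁⟩ := hline a c (Ne.symm hca)
    obtain ⟨u₂, v₂, h₂⟩ := hline c b hcb
    refine ⟨μ * (u₁ * u₂ * (u₁ * u₂)), ?_⟩
    rw [hμ, h₁, h₂]
    simp only [mul_add, add_mul, smul_mul_assoc, mul_smul_comm, one_mul, mul_one, smul_add, smul_smul, hK2,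
      smul_zero, add_zero, zero_add]
    have h2 : (2 : F) = 0 := CharP.ofNat_eq_zero F 2
    match_scalars
    · ring
    all_goals linear_combination (norm := ring_nf) (μ * u₁ * u₂ * (u₁ * v₂ + v₁ * u₂)) * h2
  -- so an image is quadratic on one factor
  obtain ⟨a, b, hab⟩ : ∃ a b : Fin 3, a ≠ b := ⟨0, 1, by decide⟩
  obtain ⟨u, hu⟩ := hscal a b hab
  obtain ⟨E, hEdef⟩ : ∃ E, E = g⁻¹ * D a b hab * g := ⟨_, rfl⟩
  have hst : E ∈ tensorWreathStandard 3 2 F := hEdef ▸ (hback _ (hDN a b hab) (hDc a b hab)).1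
  have hkr : ∀ Y, (E : Matrix (Fin 2 → Fin 3) (Fin 2 → Fin 3) F) * facM s Y =
      facM s Y * (E : Matrix (Fin 2 → Fin 3) (Fin 2 → Fin 3) F) := fun Y => by
    rw [hEdef, hEe, J_val, kr_val, hu, Matrix.kronecker_smul, facM_spl, Matrix.reindex_apply, Matrix.reindex_apply,
      Matrix.submatrix_mul_equiv, Matrix.submatrix_mul_equiv, smul_mul_assoc, mul_smul_comm, ← Matrix.mul_kronecker_mul,
      ← Matrix.mul_kronecker_mul, mul_one, one_mul, mul_one, one_mul]
  obtain ⟨B, τ, he⟩ := std_decomp hst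
  have hτ : τ = 1 := by
    refine Equiv.ext fun i => ?_
    have hτs : τ s = s := by
      have h1 : RootAt (τ s) (pureGL B * factorPermGL 3 F τ * z * (pureGL B * factorPermGL 3 F τ)⁻¹) := hz.conj
      rw [← he, hEdef, (hback _ (hDN a b hab) (hDc a b hab)).2, mul_inv_cancel_right] at h1
      exact h1.slot_unique (by norm_num) hz
    rw [Equiv.Perm.one_apply]
    rcases eq_or_ne i s with rfl | hi
    · exact hτs
    · have : τ i ≠ s := fun e => hi (τ.injective (e.trans hτs.symm))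
      omega
  subst hτ
  rw [perm_one, mul_one] at he
  obtain ⟨q, hq⟩ : ∃ q : Fin 2, q ≠ s := exists_ne s
  have hBs : ∃ c : F, c ≠ 0 ∧ (B s : Matrix (Fin 3) (Fin 3) F) = c • 1 := by
    have e : J s (kr (pureGL fun j => B (s.succAbove j)) (B s)) = J s (kr (α a b hab) (β a b hab)) := by
      rw [J_kr_pure, ← hEe, ← hEdef, he]
      congr 1
      exact Fin.insertNth_self_removeNth s B
    obtain ⟨c, hc0, hc⟩ := kron_eq_kron ((J (F := F) (t := 1) s).injective e)
    refine ⟨c * u, mul_ne_zero hc0 fun h0 => ?_, by rw [hc, hu, smul_smul]⟩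
    have hu' := (β a b hab).isUnit
    rw [hu, h0, zero_smul] at hu'
    exact not_isUnit_zero hu'
  obtain ⟨c, hc0, hc⟩ := hBs
  let sc : GL (Fin 3) F := Units.map (Matrix.scalar (Fin 3) : F →+* Matrix (Fin 3) (Fin 3) F).toMonoidHom (Units.mk0 c hc0)
  have hEq : E = facGL q (sc * B q) := by
    refine Units.ext (Matrix.ext fun x y => ?_)
    rw [he, pureGL_val, facGL_val, facM_apply]
    simp only [pureM, Matrix.of_apply]
    rw [← Finset.mul_prod_erase Finset.univ _ (Finset.mem_univ q),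
      show (Finset.univ : Finset (Fin 2)).erase q = {s} from Finset.ext fun i => by simp; omega, Finset.prod_singleton,
      hc, Units.val_mul, Matrix.smul_apply, Matrix.one_apply, smul_eq_mul]
    simp only [sc, Units.coe_map, RingHom.toMonoidHom_eq_coe, MonoidHom.coe_coe, Units.val_mk0, Matrix.scalar_apply,
      Matrix.diagonal_mul]
    by_cases hxy : x s = y s
    · rw [if_pos hxy, if_pos fun j hj => (show j = s by omega) ▸ hxy]
      ring
    · rw [if_neg hxy, if_neg fun h => hxy (h s (Ne.symm hq)), mul_zero, mul_zero]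
  have hconj : D a b hab = g * E * g⁻¹ := by rw [hEdef]; group
  have hDne : D a b hab ≠ 1 := by
    intro e
    rw [hD] at e
    have e' : z' * stdRoot 0 hab * z'⁻¹ = (stdRoot 0 hab)⁻¹ := eq_inv_of_mul_eq_one_right e
    rw [inv_eq_of_mul_eq_one_right (hh2 (rootAt_std (F := F) 0 hab))] at e'
    exact hk0 ((rootAt_std 0 hab).slot_unique (by norm_num) (e' ▸ hslot a b hab))
  have hDsq : ((D a b hab : Matrix (Fin 2 → Fin 3) (Fin 2 → Fin 3) F) - 1) *
      ((D a b hab : Matrix (Fin 2 → Fin 3) (Fin 2 → Fin 3) F) - 1) = 0 := by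
    rw [← pow_two, sub_pow_char_of_commute (p := 2) (Commute.one_right _), one_pow, sub_eq_zero]
    have e := (rootAt_std (F := F) 0 hab).commute hk0 (hslot a b hab)
    have hDD : D a b hab * D a b hab = 1 := by
      rw [hD]
      simp only
      rw [show ∀ x y : GL (Fin 2 → Fin 3) F, x * y * (x * y) = x * (y * x) * y from fun x y => by group, ← e,
        show ∀ x y : GL (Fin 2 → Fin 3) F, x * (x * y) * y = (x * x) * (y * y) from fun x y => by group,
        hh2 (rootAt_std 0 hab), hh2 (hslot a b hab), mul_one]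
    rw [pow_two, ← Units.val_mul, hDD, Units.val_one]
  have hEsq : ((E : Matrix (Fin 2 → Fin 3) (Fin 2 → Fin 3) F) - 1) *
      ((E : Matrix (Fin 2 → Fin 3) (Fin 2 → Fin 3) F) - 1) = 0 := by
    have := conj_sq g⁻¹ _ hDsq
    rwa [inv_inv, ← hEdef] at this
  obtain ⟨N, hN⟩ : ∃ N, N = ((sc * B q : GL (Fin 3) F) : Matrix (Fin 3) (Fin 3) F) - 1 := ⟨_, rfl⟩
  have hEv : (E : Matrix (Fin 2 → Fin 3) (Fin 2 → Fin 3) F) - 1 = facM q N := by
    rw [hEq, facGL_val, hN, sub_eq_add_neg (b := (1 : Matrix (Fin 3) (Fin 3) F)),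
      show -(1 : Matrix (Fin 3) (Fin 3) F) = (-1 : F) • 1 by rw [neg_one_smul], facM_add, facM_smul, facM_one,
      neg_one_smul, sub_eq_add_neg]
  have hN2 : N * N = 0 := by
    refine facM_inj (F := F) (by norm_num) q ?_
    rw [← facM_mul, ← hEv, hEsq]
    ext x y; simp [facM_apply]
  have hN0 : N ≠ 0 := by
    intro e
    refine hDne ?_
    have : E = 1 := Units.ext (sub_eq_zero.1 (by rw [Units.val_one, hEv, e]; ext x y; simp [facM_apply]))
    rw [hconj, this, mul_one, mul_inv_cancel]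
  obtain ⟨v, w, hv, hw, hwv, hNe⟩ := rank_one_of_sq hN2 hN0
  rcases rank_two_roots 2 hk0 (rootAt_std 0 hab) (hslot a b hab) with h | h
  · have hr : ((D a b hab : Matrix (Fin 2 → Fin 3) (Fin 2 → Fin 3) F) - 1).rank = 3 := by
      rw [hconj, rank_conj, hEv, hNe, rank_facM (t := 1) (by norm_num) q hv hw, pow_one]
    rw [hD] at hr
    simp only at hr
    omega
  · refine h ?_
    have := hDsq
    rw [hD] at this
    exact this

/-- An element carrying a root element into the stabiliser lies in the stabiliser. -/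
theorem Over.moves {p : ℕ} {X : Subgroup (GL (Fin (t + 1) → Fin m) F)} (H : Over p X)
    {g z : GL (Fin (t + 1) → Fin m) F} (hg : g ∈ X) (hz : IsRoot z) (hz' : g * z * g⁻¹ ∈ Ns m (t + 1) F) :
    g ∈ Ns m (t + 1) F := by
  classical
  have hm := H.hm
  haveI := Fact.mk H.prime
  haveI := H.char
  obtain ⟨z', hz'e⟩ : ∃ z', z' = g * z * g⁻¹ := ⟨_, rfl⟩
  obtain ⟨s, hzs⟩ := hz
  rw [← hz'e] at hz'
  have hne : z' ≠ 1 := fun e => hzs.not_scalar (by omega) 1 (by
    have e' : z = 1 := by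
      rw [show z = g⁻¹ * z' * g by rw [hz'e]; group, e]; group
    rw [e', Units.val_one, one_smul])
  have hsq : ((z' : Matrix (Fin (t + 1) → Fin m) (Fin (t + 1) → Fin m) F) - 1) *
      ((z' : Matrix (Fin (t + 1) → Fin m) (Fin (t + 1) → Fin m) F) - 1) = 0 := hz'e ▸ rootAt_sq_zero hzs g
  rcases classify p hm hz'.1 hsq hne (by rw [hz'e, rank_conj, hzs.rank (by omega)]) with h | ⟨hm3, A, σ, hσ, he⟩
  · exact H.moves_root hg ⟨s, hzs⟩ (hz'e ▸ h)
  exfalso
  obtain ⟨χ, hχ⟩ := std_sign (F := F) (t := t + 1) (m := m) (by omega)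
  haveI : Nonempty (Fin (t + 1) → Fin m) := ⟨fun _ => ⟨0, by omega⟩⟩
  have hzp : z' ^ p = 1 := by
    refine Units.ext ?_
    have e : ((z' : Matrix (Fin (t + 1) → Fin m) (Fin (t + 1) → Fin m) F) - 1) ^ p = 0 := by
      rw [show p = 2 + (p - 2) by have := H.prime.two_le; omega, pow_add, pow_two, hsq, zero_mul]
    rw [sub_pow_char_of_commute (p := p) (Commute.one_right _), one_pow, sub_eq_zero] at e
    rw [Units.val_pow_eq_pow_val, e, Units.val_one]
  have hp2 : p = 2 := by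
    by_contra hp
    have hodd : Odd p := H.prime.odd_of_ne_two hp
    have h1 := congrArg χ (show (⟨z', hz'.1⟩ : ↥(tensorWreathStandard m (t + 1) F)) ^ p = 1 from Subtype.ext hzp)
    rw [map_pow, map_one, hχ ⟨z', hz'.1⟩ A σ he, hσ.sign_eq, hodd.neg_one_pow] at h1
    exact absurd h1 (by decide)
  subst hp2 hm3
  have hz'2 : z' * z' = 1 := by rw [← pow_two]; exact hzp
  have hback : ∀ h ∈ Ns 3 (t + 1) F, h * z' = z' * h →
      g⁻¹ * h * g ∈ Ns 3 (t + 1) F ∧ g⁻¹ * h * g * z = z * (g⁻¹ * h * g) := by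
    intro h hh hc
    have hc' : g⁻¹ * h * g * z = z * (g⁻¹ * h * g) := by
      calc g⁻¹ * h * g * z = g⁻¹ * (h * z') * g := by rw [hz'e]; group
        _ = _ := by rw [hc, hz'e]; group
    exact ⟨H.central ⟨s, hzs⟩ (mul_mem (mul_mem (inv_mem hg) (H.le hh)) hg) hc', hc'⟩
  rcases swap_fixes_or hσ with ⟨l, hl⟩ | rfl
  · obtain ⟨x, y, hxy, hσe⟩ := hσ
    have hσ2 : σ * σ = 1 := by rw [hσe, Equiv.swap_mul_self]
    have hsqs : ∃ d : F, (A l : Matrix (Fin 3) (Fin 3) F) * A l = d • 1 := by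
      have e := hz'2
      rw [he, mul_assoc, ← mul_assoc (factorPermGL 3 F σ), perm_pure, mul_assoc, perm_mul, hσ2, perm_one, mul_one,
        ← map_mul] at e
      obtain ⟨d, hd⟩ := pureGL_eq_one (by norm_num) e l
      rw [Pi.mul_apply, Units.val_mul, show σ.symm l = l by rw [Equiv.symm_apply_eq, hl]] at hd
      exact ⟨d, hd⟩
    obtain ⟨d, hd⟩ := hsqs
    obtain ⟨s₀, hs₀⟩ := exists_sqrt_shift hd
    obtain ⟨f₁, l₁, f₂, l₂, f, l', h₁, h₂, h, hf₁, hl₁, hf₂, hl₂, hf, hl', hc₁, hc₂, hcomm⟩ :=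
      exists_commuting_pair hs₀
    have hcz : ∀ (u v : Fin 3 → F) (huv : v ⬝ᵥ u = 0), (A l : Matrix (Fin 3) (Fin 3) F) * vecMulVec u v =
        vecMulVec u v * (A l : Matrix (Fin 3) (Fin 3) F) → facGL l (tv u v huv) * z' = z' * facGL l (tv u v huv) := by
      intro u v huv hc
      refine Units.ext ?_
      rw [Units.val_mul, Units.val_mul, facGL_val, he, std_conj_fac, hl]
      congr 2
      show 1 + vecMulVec u v = (A l : Matrix (Fin 3) (Fin 3) F) * (1 + vecMulVec u v) * _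
      rw [mul_add, add_mul, mul_one, Units.mul_inv, hc, mul_assoc, Units.mul_inv, mul_one]
    obtain ⟨hi₁, -⟩ := hback _ (det_fac_tv l f₁ l₁ h₁) (hcz f₁ l₁ h₁ hc₁)
    obtain ⟨hi₂, -⟩ := hback _ (det_fac_tv l f₂ l₂ h₂) (hcz f₂ l₂ h₂ hc₂)
    have hr : RootAt l (facGL l (tv f l' h)) := rootAt_fac l hf hl' h
    have himg : IsRoot (g⁻¹ * facGL l (tv f l' h) * g) := by
      refine root_of_commutator 2 le_rfl hi₁.1 hi₂.1 ?_ ?_ ?_
      · rw [hcomm, map_mul, map_mul, map_mul, map_inv, map_inv]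
        group
      · have := rootAt_sq_zero hr g⁻¹
        rwa [inv_inv] at this
      · have := rank_conj g⁻¹ (facGL l (tv f l' h))
        rw [inv_inv] at this
        rw [this, hr.rank (by norm_num)]
    have hgN := H.moves_root hg himg (by
      rw [show g * (g⁻¹ * facGL l (tv f l' h) * g) * g⁻¹ = facGL l (tv f l' h) by group]; exact ⟨l, hr⟩)
    obtain ⟨q, hq⟩ := IsRoot.conj ⟨s, hzs⟩ hgN.1
    rw [← hz'e] at hq
    obtain ⟨f', l'', hlf', -, -, hq'⟩ := hq.eq
    have : σ = 1 := perm_unique (by norm_num) (A := A) (B := Pi.mulSingle q (tv f' l'' hlf')) (τ := 1) (by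
      rw [← he, hq', perm_one, mul_one]; rfl)
    rw [this] at hσe
    have h1 := congrArg (fun τ : Equiv.Perm (Fin (t + 1)) => τ x) hσe
    simp only [Equiv.Perm.one_apply, Equiv.swap_apply_left] at h1
    exact hxy h1
  · exact two_factor_false (g := g) hzs hσ he hz'2 (fun h hh hc => ⟨(hback h hh hc).1.1, (hback h hh hc).2⟩) hz'.2

end Cfsg.Agent.Classical.TensorPowerMax
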