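/-
An extremal configuration: a large subspace fixed by a root element and by an element outside the stabiliser.
-/
import Cfsg.Agent.Lib.Classical.TensorPowerMax.Swap
import Cfsg.Agent.Lib.Classical.TensorPowerMax.Slice
import Cfsg.Agent.Lib.Classical.TensorMax.Orbit

set_option autoImplicit false
set_option linter.unusedSectionVars false

namespace Cfsg.Agent.Classical.TensorPowerMax

open Matrix Cfsg.Geo
open Cfsg.Agent.Classical
open Cfsg.Agent.Classical.TensorMax (kr kr_val kr_mul kr_one kr_inv)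
open scoped Kronecker

variable {F : Type*} [Field F] {m t : ℕ}

/-- The fixed space of a matrix. -/
def fixS {κ : Type} [Fintype κ] [DecidableEq κ] (g : GL κ F) : Submodule F (κ → F) :=
  LinearMap.ker (Matrix.mulVecLin ((g : Matrix κ κ F) - 1))

theorem mem_fixS {κ : Type} [Fintype κ] [DecidableEq κ] {g : GL κ F} {v : κ → F} :
    v ∈ fixS g ↔ (g : Matrix κ κ F) *ᵥ v = v := by
  rw [fixS, LinearMap.mem_ker, Matrix.mulVecLin_apply, Matrix.sub_mulVec, Matrix.one_mulVec, sub_eq_zero]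

/-- The elements fixing a subspace pointwise. -/
def fixG {κ : Type} [Fintype κ] [DecidableEq κ] (W : Submodule F (κ → F)) : Subgroup (GL κ F) where
  carrier := {g | ∀ v ∈ W, (g : Matrix κ κ F) *ᵥ v = v}
  mul_mem' {g h} hg hh v hv := by rw [Units.val_mul, ← Matrix.mulVec_mulVec, hh v hv, hg v hv]
  one_mem' v _ := by rw [Units.val_one, Matrix.one_mulVec]
  inv_mem' {g} hg v hv := by
    conv_lhs => rw [← hg v hv, Matrix.mulVec_mulVec, Units.inv_mul, Matrix.one_mulVec]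

theorem mem_fixG {κ : Type} [Fintype κ] [DecidableEq κ] {W : Submodule F (κ → F)} {g : GL κ F} :
    g ∈ fixG W ↔ ∀ v ∈ W, (g : Matrix κ κ F) *ᵥ v = v := Iff.rfl

theorem mem_fixG_iff_le {κ : Type} [Fintype κ] [DecidableEq κ] {W : Submodule F (κ → F)} {g : GL κ F} :
    g ∈ fixG W ↔ W ≤ fixS g := ⟨fun h v hv => mem_fixS.2 (h v hv), fun h v hv => mem_fixS.1 (h hv)⟩

/-- The image of a subspace. -/
def img {κ : Type} [Fintype κ] [DecidableEq κ] (g : GL κ F) (W : Submodule F (κ → F)) : Submodule F (κ → F) :=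
  W.map (Matrix.mulVecLin (g : Matrix κ κ F))

theorem mulVec_injective {κ : Type} [Fintype κ] [DecidableEq κ] (g : GL κ F) :
    Function.Injective (Matrix.mulVecLin (g : Matrix κ κ F)) := fun v w e => by
  have := congrArg (fun u => ((g⁻¹ : GL κ F) : Matrix κ κ F) *ᵥ u) e
  simpa [Matrix.mulVec_mulVec] using this

theorem finrank_img {κ : Type} [Fintype κ] [DecidableEq κ] (g : GL κ F) (W : Submodule F (κ → F)) :
    Module.finrank F (img g W) = Module.finrank F W :=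
  (Submodule.equivMapOfInjective _ (mulVec_injective g) W).finrank_eq.symm

theorem mem_fixG_img {κ : Type} [Fintype κ] [DecidableEq κ] {W : Submodule F (κ → F)} {g s : GL κ F}
    (hs : s ∈ fixG W) : g * s * g⁻¹ ∈ fixG (img g W) := by
  rintro v ⟨w, hw, rfl⟩
  simp only [Matrix.mulVecLin_apply, Matrix.mulVec_mulVec, ← Units.val_mul, inv_mul_cancel_right]
  rw [Units.val_mul, ← Matrix.mulVec_mulVec, hs w hw]

theorem fixS_root {i : Fin (t + 1)} {g : GL (Fin (t + 1) → Fin m) F} {f l : Fin m → F} (hf : f ≠ 0)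
    (hg : (g : Matrix (Fin (t + 1) → Fin m) (Fin (t + 1) → Fin m) F) = facM i (1 + vecMulVec f l)) :
    fixS g = ann i l := SetLike.ext fun v => mem_fixS.trans (root_fix_iff hf hg v)

theorem finrank_fixS_root (hm : 0 < m) {g : GL (Fin (t + 1) → Fin m) F} (h : IsRoot g) :
    Module.finrank F (fixS g) + m ^ t = m ^ (t + 1) := by
  have h1 := LinearMap.finrank_range_add_finrank_ker
    (Matrix.mulVecLin ((g : Matrix (Fin (t + 1) → Fin m) (Fin (t + 1) → Fin m) F) - 1))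
  rw [Module.finrank_fintype_fun_eq_card, Fintype.card_fun, Fintype.card_fin, Fintype.card_fin,
    show Module.finrank F (LinearMap.range (Matrix.mulVecLin ((g : Matrix (Fin (t + 1) → Fin m) (Fin (t + 1) → Fin m) F) - 1))) =
      m ^ t from h.rank hm] at h1
  rw [fixS]
  omega

theorem root_pow (p : ℕ) [Fact p.Prime] [CharP F p] (hm : 0 < m) {g : GL (Fin (t + 1) → Fin m) F} (h : IsRoot g) :
    g ^ p = 1 := by
  haveI : Nonempty (Fin (t + 1) → Fin m) := ⟨fun _ => ⟨0, hm⟩⟩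
  obtain ⟨i, h⟩ := h
  refine Units.ext ?_
  have e : ((g : Matrix (Fin (t + 1) → Fin m) (Fin (t + 1) → Fin m) F) - 1) ^ p = 0 := by
    rw [show p = 2 + (p - 2) by have := (Fact.out : p.Prime).two_le; omega, pow_add, pow_two, h.sq, zero_mul]
  rw [sub_pow_char_of_commute (p := p) (Commute.one_right _), one_pow, sub_eq_zero] at e
  rw [Units.val_pow_eq_pow_val, e, Units.val_one]

variable [Fintype F] {p : ℕ} {X : Subgroup (GL (Fin (t + 1) → Fin m) F)}

theorem Over.roots (H : Over p X) : TensorMax.Roots p (Ns m (t + 1) F) X {z | IsRoot z} where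
  le := H.le
  mem z hz := IsRoot.mem_ns hz
  pgroup z hz := by
    haveI := Fact.mk H.prime
    haveI := H.char
    rintro ⟨g, ⟨k, rfl⟩⟩
    refine ⟨1, Subtype.ext ?_⟩
    show (z ^ k) ^ p ^ 1 = 1
    rw [pow_one, ← zpow_natCast, ← _root_.zpow_mul, mul_comm, _root_.zpow_mul, zpow_natCast,
      root_pow p (by have := H.hm; omega) hz, _root_.one_zpow]
  moves _ hg _ hz h := H.moves hg hz h

/-- Pointwise stabilisers carried into one another. -/
theorem Over.factor (H : Over p X) {W : Submodule F ((Fin (t + 1) → Fin m) → F)} {g z z' : GL (Fin (t + 1) → Fin m) F}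
    (hg : g ∈ X) (hgN : g ∉ Ns m (t + 1) F) (hz : IsRoot z) (hzW : z ∈ fixG W) (hz' : IsRoot z')
    (hz'W : z' ∈ fixG (img g W)) : ∃ h ∈ X, h ∉ Ns m (t + 1) F ∧ h ∈ fixG (img g W) := by
  haveI := Fact.mk H.prime
  obtain ⟨h, hh, hhW, n, hn, rfl⟩ := H.roots.factor hg (St := fixG W) (St' := fixG (img g W))
    (fun s hs => mem_fixG_img hs) hz hzW hz' hz'W
  exact ⟨h, hh, fun hN => hgN (mul_mem hN hn), hhW⟩

/-- The extremal configuration. -/
structure Ext (p : ℕ) (X : Subgroup (GL (Fin (t + 1) → Fin m) F)) (W : Submodule F ((Fin (t + 1) → Fin m) → F))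
    (z g : GL (Fin (t + 1) → Fin m) F) : Prop where
  ov : Over p X
  root : IsRoot z
  zfix : z ∈ fixG W
  mem : g ∈ X
  notMem : g ∉ Ns m (t + 1) F
  gfix : g ∈ fixG W
  dim : (m - 2) * m ^ t ≤ Module.finrank F W
  closed : ∀ {g' z' z'' : GL (Fin (t + 1) → Fin m) F} {v : (Fin (t + 1) → Fin m) → F}, g' ∈ X →
    g' ∉ Ns m (t + 1) F → g' ∈ fixG W → IsRoot z' → z' ∈ fixG W → IsRoot z'' → z'' ∈ fixG W →
    (z' : Matrix (Fin (t + 1) → Fin m) (Fin (t + 1) → Fin m) F) *ᵥ v = v →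
    (z'' : Matrix (Fin (t + 1) → Fin m) (Fin (t + 1) → Fin m) F) *ᵥ
        ((g' : Matrix (Fin (t + 1) → Fin m) (Fin (t + 1) → Fin m) F) *ᵥ v) =
      (g' : Matrix (Fin (t + 1) → Fin m) (Fin (t + 1) → Fin m) F) *ᵥ v →
    v ∈ W

theorem exists_root (hm : 2 ≤ m) : ∃ z : GL (Fin (t + 1) → Fin m) F, IsRoot z :=
  ⟨_, 0, rootAt_std (0 : Fin (t + 1)) (show (⟨0, by omega⟩ : Fin m) ≠ ⟨1, by omega⟩ by simp [Fin.ext_iff])⟩

theorem Over.exists_ext (H : Over p X) {g : GL (Fin (t + 1) → Fin m) F} (hg : g ∈ X) (hgN : g ∉ Ns m (t + 1) F) :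
    ∃ W z g', Ext p X W z g' := by
  classical
  have hm := H.hm
  let Good : Submodule F ((Fin (t + 1) → Fin m) → F) → Prop := fun W =>
    (∃ z, IsRoot z ∧ z ∈ fixG W) ∧ ∃ g ∈ X, g ∉ Ns m (t + 1) F ∧ g ∈ fixG W
  obtain ⟨z, hz⟩ := exists_root (F := F) (t := t) (m := m) (by omega)
  obtain ⟨L, hL⟩ : ∃ L, L = fixS z ⊓ (fixS z).comap (Matrix.mulVecLin
      (g : Matrix (Fin (t + 1) → Fin m) (Fin (t + 1) → Fin m) F)) := ⟨_, rfl⟩
  have hzL : z ∈ fixG L := mem_fixG_iff_le.2 (hL ▸ inf_le_left)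
  have hzL' : z ∈ fixG (img g L) := mem_fixG_iff_le.2 (by
    rintro _ ⟨v, hv, rfl⟩
    rw [SetLike.mem_coe, hL] at hv
    exact hv.2)
  obtain ⟨h, hh, hhN, hhL⟩ := H.factor hg hgN hz hzL hz hzL'
  have hgood : Good (img g L) := ⟨⟨z, hz, hzL'⟩, h, hh, hhN, hhL⟩
  have hdim : (m - 2) * m ^ t ≤ Module.finrank F (img g L) := by
    rw [finrank_img, hL]
    have h1 := finrank_fixS_root (by omega) hz
    have h2 := Submodule.finrank_sup_add_finrank_inf_eq (fixS z) ((fixS z).comap (Matrix.mulVecLin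
      (g : Matrix (Fin (t + 1) → Fin m) (Fin (t + 1) → Fin m) F)))
    have h3 : Module.finrank F ((fixS z).comap (Matrix.mulVecLin
        (g : Matrix (Fin (t + 1) → Fin m) (Fin (t + 1) → Fin m) F))) = Module.finrank F (fixS z) := by
      refine (finrank_img g _).symm.trans ?_
      rw [img, Submodule.map_comap_eq_of_surjective (LinearMap.injective_iff_surjective.1 (mulVec_injective g))]
    have h4 := Submodule.finrank_le (fixS z ⊔ (fixS z).comap (Matrix.mulVecLin
      (g : Matrix (Fin (t + 1) → Fin m) (Fin (t + 1) → Fin m) F)))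
    rw [Module.finrank_fintype_fun_eq_card, Fintype.card_fun, Fintype.card_fin, Fintype.card_fin] at h4
    rw [pow_succ] at h1 h4
    rw [Nat.sub_mul, mul_comm m]
    omega
  obtain ⟨W, hWgood, hWmax⟩ := Set.exists_max_image {W | Good W} (fun W => Module.finrank F W) (Set.toFinite _)
    ⟨_, hgood⟩
  obtain ⟨⟨z₁, hz₁, hz₁W⟩, g₁, hg₁, hg₁N, hg₁W⟩ := hWgood
  refine ⟨W, z₁, g₁, H, hz₁, hz₁W, hg₁, hg₁N, hg₁W, hdim.trans (hWmax _ hgood), ?_⟩
  intro g' z' z'' v hg' hg'N hg'W hz' hz'W hz'' hz''W hv hgv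
  obtain ⟨W', hW'⟩ : ∃ W', W' = W ⊔ Submodule.span F {v} := ⟨_, rfl⟩
  have h1 : z' ∈ fixG W' := mem_fixG_iff_le.2 (hW' ▸ sup_le (mem_fixG_iff_le.1 hz'W)
    ((Submodule.span_singleton_le_iff_mem _ _).2 (mem_fixS.2 hv)))
  have h2 : z'' ∈ fixG (img g' W') := mem_fixG_iff_le.2 (by
    rw [img, hW', Submodule.map_sup, Submodule.map_span, Set.image_singleton]
    refine sup_le ?_ ((Submodule.span_singleton_le_iff_mem _ _).2 (mem_fixS.2 hgv))
    rintro _ ⟨w, hw, rfl⟩
    rw [Matrix.mulVecLin_apply, hg'W w hw]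
    exact mem_fixS.2 (hz''W w hw))
  obtain ⟨h', hh', hh'N, hh'W⟩ := H.factor hg' hg'N hz' h1 hz'' h2
  have hle := hWmax (img g' W') ⟨⟨z'', hz'', h2⟩, h', hh', hh'N, hh'W⟩
  rw [finrank_img] at hle
  have heq : W = W' := Submodule.eq_of_le_of_finrank_le (hW' ▸ le_sup_left) hle
  rw [heq, hW']
  exact Submodule.mem_sup_right (Submodule.mem_span_singleton_self v)

variable {W : Submodule F ((Fin (t + 1) → Fin m) → F)} {z g : GL (Fin (t + 1) → Fin m) F}

/-- The subspace is not contained in few rows. -/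
theorem Ext.not_rows (E : Ext p X W z g) (i : Fin (t + 1)) {K : Submodule F (Fin m → F)}
    (hK : Module.finrank F K ≤ m - 2) (hW : W ≤ rows i K) : False := by
  have hm := E.ov.hm
  have h1 : Module.finrank F (rows i K) ≤ Module.finrank F W := by
    rw [finrank_rows]
    exact (Nat.mul_le_mul_left _ hK).trans ((mul_comm _ _).le.trans E.dim)
  have heq : W = rows i K := Submodule.eq_of_le_of_finrank_le hW h1
  have h2 := Submodule.finrank_mono hW
  rw [finrank_rows] at h2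
  have hpos : 0 < (m - 2) * m ^ t := Nat.mul_pos (by omega) (pow_pos (by omega) t)
  have hne : K ≠ ⊥ := fun e => by
    rw [e, finrank_bot, mul_zero] at h2
    have := E.dim
    omega
  obtain ⟨f, hfK, hf⟩ := Submodule.exists_mem_ne_zero_of_ne_bot hne
  exact E.notMem (E.ov.fixed_fibre i hf E.mem fun w => E.gfix _ (heq ▸ tens_mem_rows i w hfK))

/-- Root elements of one factor fixing the subspace have one functional. -/
theorem Ext.functional (E : Ext p X W z g) {i : Fin (t + 1)} {z₁ z₂ : GL (Fin (t + 1) → Fin m) F}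
    {f₁ l₁ f₂ l₂ : Fin m → F} (hf₁ : f₁ ≠ 0) (hl₁ : l₁ ≠ 0) (hf₂ : f₂ ≠ 0) (hl₂ : l₂ ≠ 0)
    (h₁ : (z₁ : Matrix (Fin (t + 1) → Fin m) (Fin (t + 1) → Fin m) F) = facM i (1 + vecMulVec f₁ l₁))
    (h₂ : (z₂ : Matrix (Fin (t + 1) → Fin m) (Fin (t + 1) → Fin m) F) = facM i (1 + vecMulVec f₂ l₂))
    (hW₁ : z₁ ∈ fixG W) (hW₂ : z₂ ∈ fixG W) : ∃ c : F, c ≠ 0 ∧ l₂ = c • l₁ := by
  classical
  by_contra hcon
  push Not at hcon
  obtain ⟨K, hK⟩ : ∃ K, K = LinearMap.ker (dotProductBilin F F l₁) ⊓ LinearMap.ker (dotProductBilin F F l₂) :=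
    ⟨_, rfl⟩
  have h1 : W ≤ rows i K := fun v hv x => by
    rw [hK]
    exact ⟨(fixS_root hf₁ h₁ ▸ mem_fixG_iff_le.1 hW₁ hv : v ∈ ann i l₁) x,
      (fixS_root hf₂ h₂ ▸ mem_fixG_iff_le.1 hW₂ hv : v ∈ ann i l₂) x⟩
  have hlt : K < LinearMap.ker (dotProductBilin F F l₁) := by
    refine lt_of_le_of_ne (hK ▸ inf_le_left) fun e => ?_
    have hle : ∀ h : Fin m → F, l₁ ⬝ᵥ h = 0 → l₂ ⬝ᵥ h = 0 := fun h hh => by
      have : h ∈ LinearMap.ker (dotProductBilin F F l₁) := hh
      rw [← e, hK] at this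
      exact this.2
    obtain ⟨b, hb⟩ := Function.ne_iff.1 hl₁
    have hc : l₂ = (l₂ b / l₁ b) • l₁ := by
      funext a
      have := hle (Pi.single a (l₁ b) - Pi.single b (l₁ a)) (by
        rw [dotProduct_sub, dotProduct_single, dotProduct_single]
        ring)
      rw [dotProduct_sub, dotProduct_single, dotProduct_single, sub_eq_zero] at this
      rw [Pi.smul_apply, smul_eq_mul, div_mul_eq_mul_div, eq_div_iff (show l₁ b ≠ 0 from hb), this]
    rcases eq_or_ne (l₂ b / l₁ b) 0 with h0 | h0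
    · rw [h0, zero_smul] at hc
      exact hl₂ hc
    · exact hcon _ h0 hc
  have := Submodule.finrank_lt_finrank_of_lt hlt
  have := finrank_ker_dot hl₁
  exact E.not_rows i (by omega) h1

end Cfsg.Agent.Classical.TensorPowerMax
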