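/-
Groups generated by two elements with square-zero displacement; elements preserving a factor.
-/
import Cfsg.Agent.Lib.Classical.TensorPowerMax.Fix
import Cfsg.Agent.Lib.Fusion.QuadraticPair

set_option autoImplicit false
set_option linter.unusedSectionVars false

namespace Cfsg.Agent.Classical.TensorPowerMax

open Matrix Cfsg.Geo
open Cfsg.Agent.Classical
open Cfsg.Agent.Classical.TensorMax (kr kr_val kr_mul kr_one kr_inv)
open scoped Kronecker

variable {F : Type*} [Field F] {m t : ℕ}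

/-- The symmetrisation of an element of a group generated by a quadratic pair is central. -/
theorem symm_central {R : Type*} [Ring R] {z x : Rˣ} (hA : ((z : R) - 1) * ((z : R) - 1) = 0)
    (hB : ((x : R) - 1) * ((x : R) - 1) = 0) {q : Rˣ} (hq : q ∈ Subgroup.closure ({z, x} : Set Rˣ)) :
    Commute ((q : R) + ((q⁻¹ : Rˣ) : R)) ((z : R) - 1) ∧ Commute ((q : R) + ((q⁻¹ : Rˣ) : R)) ((x : R) - 1) := by
  obtain ⟨A, hAdef⟩ : ∃ A, A = (z : R) - 1 := ⟨_, rfl⟩
  obtain ⟨B, hBdef⟩ : ∃ B, B = (x : R) - 1 := ⟨_, rfl⟩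
  rw [← hAdef] at hA ⊢
  rw [← hBdef] at hB ⊢
  obtain ⟨C, hC⟩ : ∃ C, C = A * B + B * A := ⟨_, rfl⟩
  have hzv : (z : R) = 1 + A := by rw [hAdef, add_sub_cancel]
  have hxv : (x : R) = 1 + B := by rw [hBdef, add_sub_cancel]
  have hzi : ((z⁻¹ : Rˣ) : R) = 1 - A :=
    left_inv_eq_right_inv (Units.inv_mul z) (by rw [hzv]; exact one_add_sq_inv hA)
  have hxi : ((x⁻¹ : Rˣ) : R) = 1 - B :=
    left_inv_eq_right_inv (Units.inv_mul x) (by rw [hxv]; exact one_add_sq_inv hB)
  have hCA : C * A = A * C := by rw [hC, add_mul, mul_add, mul_assoc B, hA, mul_zero, add_zero, ← mul_assoc A A, hA,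
    zero_mul, zero_add, mul_assoc]
  have hCB : C * B = B * C := by rw [hC, add_mul, mul_add, mul_assoc A, hB, mul_zero, zero_add, ← mul_assoc B B, hB,
    zero_mul, add_zero, mul_assoc]
  have hBA : B * A = C - A * B := by rw [hC, add_sub_cancel_left]
  have hABA : A * B * A = C * A := by rw [mul_assoc, hBA, mul_sub, ← mul_assoc A A, hA, zero_mul, sub_zero, hCA]
  have hBAB : B * A * B = C * B := by rw [hBA, sub_mul, mul_assoc, hB, mul_zero, sub_zero]
  have key : ∀ q ∈ Subgroup.closure ({z, x} : Set Rˣ), ∃ r₀ r₁ r₂ r₃ : R,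
      (Commute r₀ A ∧ Commute r₀ B) ∧ (Commute r₁ A ∧ Commute r₁ B) ∧ (Commute r₂ A ∧ Commute r₂ B) ∧
      (Commute r₃ A ∧ Commute r₃ B) ∧
      (q : R) = r₀ + r₁ * A + r₂ * B + r₃ * (A * B) ∧
      ((q⁻¹ : Rˣ) : R) = r₀ + r₃ * C - r₁ * A - r₂ * B - r₃ * (A * B) := by
    intro q hq
    induction hq using Subgroup.closure_induction_left with
    | one => exact ⟨1, 0, 0, 0, ⟨Commute.one_left _, Commute.one_left _⟩, ⟨Commute.zero_left _, Commute.zero_left _⟩,
        ⟨Commute.zero_left _, Commute.zero_left _⟩, ⟨Commute.zero_left _, Commute.zero_left _⟩, by simp, by simp⟩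
    | mul_left y hy q _ ih =>
      obtain ⟨r₀, r₁, r₂, r₃, h₀, h₁, h₂, h₃, e, e'⟩ := ih
      rcases hy with rfl | rfl
      · refine ⟨r₀, r₁ + r₀, r₂, r₃ + r₂, h₀, ⟨h₁.1.add_left h₀.1, h₁.2.add_left h₀.2⟩, h₂,
          ⟨h₃.1.add_left h₂.1, h₃.2.add_left h₂.2⟩, ?_, ?_⟩
        · rw [Units.val_mul, hzv, e]
          simp only [add_mul, mul_add, one_mul, ← mul_assoc]
          rw [← h₀.1.eq, ← h₁.1.eq, ← h₂.1.eq, ← h₃.1.eq, mul_assoc r₁ A A, hA, mul_zero, mul_assoc r₃ A A, hA,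
            mul_zero, zero_mul]
          abel
        · rw [_root_.mul_inv_rev, Units.val_mul, hzi, e', mul_sub, mul_one]
          simp only [sub_mul, add_mul, mul_assoc]
          rw [hA, hBA, mul_zero, mul_sub A, ← mul_assoc A A B, hA, zero_mul, sub_zero, ← hCA, mul_sub]
          abel
      · refine ⟨r₀ + r₁ * C, r₁, r₂ + r₀ + r₃ * C, r₃ - r₁,
          ⟨h₀.1.add_left (h₁.1.mul_left hCA), h₀.2.add_left (h₁.2.mul_left hCB)⟩, h₁,
          ⟨(h₂.1.add_left h₀.1).add_left (h₃.1.mul_left hCA), (h₂.2.add_left h₀.2).add_left (h₃.2.mul_left hCB)⟩,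
          ⟨h₃.1.sub_left h₁.1, h₃.2.sub_left h₁.2⟩, ?_, ?_⟩
        · rw [Units.val_mul, hxv, e]
          simp only [add_mul, mul_add, sub_mul, one_mul, ← mul_assoc]
          rw [← h₀.2.eq, ← h₁.2.eq, ← h₂.2.eq, ← h₃.2.eq, mul_assoc r₂ B B, hB, mul_zero, mul_assoc r₁ B A, hBA,
            mul_sub, show r₃ * B * A * B = r₃ * (B * A * B) by simp only [mul_assoc], hBAB]
          simp only [← mul_assoc]
          abel
        · rw [_root_.mul_inv_rev, Units.val_mul, hxi, e', mul_sub, mul_one]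
          simp only [sub_mul, add_mul, mul_assoc]
          rw [hB, mul_zero, mul_zero, mul_zero]
          abel
    | inv_mul_cancel y hy q _ ih =>
      obtain ⟨r₀, r₁, r₂, r₃, h₀, h₁, h₂, h₃, e, e'⟩ := ih
      rcases hy with rfl | rfl
      · refine ⟨r₀, r₁ - r₀, r₂, r₃ - r₂, h₀, ⟨h₁.1.sub_left h₀.1, h₁.2.sub_left h₀.2⟩, h₂,
          ⟨h₃.1.sub_left h₂.1, h₃.2.sub_left h₂.2⟩, ?_, ?_⟩
        · rw [Units.val_mul, hzi, e]
          simp only [sub_mul, mul_add, one_mul, ← mul_assoc]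
          rw [← h₀.1.eq, ← h₁.1.eq, ← h₂.1.eq, ← h₃.1.eq, mul_assoc r₁ A A, hA, mul_zero, mul_assoc r₃ A A, hA,
            mul_zero, zero_mul]
          abel
        · rw [_root_.mul_inv_rev, inv_inv, Units.val_mul, hzv, e', mul_add, mul_one]
          simp only [sub_mul, add_mul, mul_assoc]
          rw [hA, hBA, mul_zero, mul_sub A, ← mul_assoc A A B, hA, zero_mul, sub_zero, ← hCA, mul_sub]
          abel
      · refine ⟨r₀ - r₁ * C, r₁, r₂ - r₀ - r₃ * C, r₃ + r₁,
          ⟨h₀.1.sub_left (h₁.1.mul_left hCA), h₀.2.sub_left (h₁.2.mul_left hCB)⟩, h₁,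
          ⟨(h₂.1.sub_left h₀.1).sub_left (h₃.1.mul_left hCA), (h₂.2.sub_left h₀.2).sub_left (h₃.2.mul_left hCB)⟩,
          ⟨h₃.1.add_left h₁.1, h₃.2.add_left h₁.2⟩, ?_, ?_⟩
        · rw [Units.val_mul, hxi, e]
          simp only [add_mul, mul_add, sub_mul, one_mul, ← mul_assoc]
          rw [← h₀.2.eq, ← h₁.2.eq, ← h₂.2.eq, ← h₃.2.eq, mul_assoc r₂ B B, hB, mul_zero, mul_assoc r₁ B A, hBA,
            mul_sub, show r₃ * B * A * B = r₃ * (B * A * B) by simp only [mul_assoc], hBAB]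
          simp only [← mul_assoc]
          abel
        · rw [_root_.mul_inv_rev, inv_inv, Units.val_mul, hxv, e', mul_add, mul_one]
          simp only [sub_mul, add_mul, mul_assoc]
          rw [hB, mul_zero, mul_zero, mul_zero]
          abel
  obtain ⟨r₀, r₁, r₂, r₃, h₀, -, -, h₃, e, e'⟩ := key q hq
  have hsum : (q : R) + ((q⁻¹ : Rˣ) : R) = r₀ + r₀ + r₃ * C := by rw [e, e']; abel
  rw [hsum]
  exact ⟨(h₀.1.add_left h₀.1).add_left (h₃.1.mul_left hCA), (h₀.2.add_left h₀.2).add_left (h₃.2.mul_left hCB)⟩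

theorem two_dvd_card_sl2 (p : ℕ) [Fact p.Prime] (hp : p ≠ 2) :
    2 ∣ Nat.card (Matrix.SpecialLinearGroup (Fin 2) (ZMod p)) := by
  let e : Matrix.SpecialLinearGroup (Fin 2) (ZMod p) := ⟨-1, by simp [Matrix.det_fin_two]⟩
  have : orderOf e = 2 := by
    refine orderOf_eq_prime ?_ fun h => ?_
    · refine Subtype.ext ?_
      show (-1 : Matrix (Fin 2) (Fin 2) (ZMod p)) ^ 2 = 1
      rw [neg_one_sq]
    · have h' := congrArg (fun g : Matrix.SpecialLinearGroup (Fin 2) (ZMod p) => (g : Matrix (Fin 2) (Fin 2) (ZMod p)) 0 0) h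
      simp [e] at h'
      have h2 : ((2 : ℕ) : ZMod p) = 0 := by
        push_cast
        linear_combination -h'
      rw [ZMod.natCast_eq_zero_iff] at h2
      exact hp ((Nat.prime_dvd_prime_iff_eq (Fact.out : p.Prime) Nat.prime_two).1 h2)
  have h := orderOf_dvd_natCard e
  rwa [this] at h

/-- A quadratic pair in odd characteristic that does not generate a `p`-group generates an involution. -/
theorem exists_involution [Fintype F] (p : ℕ) [Fact p.Prime] [CharP F p] (hp : p ≠ 2) {κ : Type} [Fintype κ] [DecidableEq κ]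
    [Nonempty κ] {z x : GL κ F}
    (hz : ((z : Matrix κ κ F) - 1) * ((z : Matrix κ κ F) - 1) = 0)
    (hx : ((x : Matrix κ κ F) - 1) * ((x : Matrix κ κ F) - 1) = 0)
    (hK : ¬ IsPGroup p (Subgroup.closure ({z, x} : Set (GL κ F)))) :
    ∃ j ∈ Subgroup.closure ({z, x} : Set (GL κ F)), j * j = 1 ∧ j ≠ 1 := by
  classical
  let K := Subgroup.closure ({z, x} : Set (GL κ F))
  let k := AlgebraicClosure F
  haveI : CharP k p := charP_of_injective_algebraMap (algebraMap F k).injective p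
  let ψ : K →* Matrix κ κ k :=
    ((algebraMap F k).mapMatrix : Matrix κ κ F →+* Matrix κ κ k).toMonoidHom.comp ((Units.coeHom _).comp K.subtype)
  have hψ : Function.Injective ψ := fun a b e => Subtype.ext (Units.ext
    ((Matrix.map_injective (algebraMap F k).injective) e))
  let z' : K := ⟨z, Subgroup.subset_closure (Or.inl rfl)⟩
  let x' : K := ⟨x, Subgroup.subset_closure (Or.inr rfl)⟩
  have hgen : Subgroup.closure ({z', x'} : Set K) = ⊤ := by
    refine Subgroup.map_injective K.subtype_injective ?_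
    rw [MonoidHom.map_closure, Set.image_pair, ← MonoidHom.range_eq_map, Subgroup.range_subtype]
    rfl
  have hsq : ∀ u : K, (((u : GL κ F) : Matrix κ κ F) - 1) * (((u : GL κ F) : Matrix κ κ F) - 1) = 0 →
      (ψ u - 1) * (ψ u - 1) = 0 := fun u hu => by
    have := congrArg ((algebraMap F k).mapMatrix : Matrix κ κ F →+* Matrix κ κ k) hu
    rw [map_mul, map_sub, map_one, map_zero] at this
    exact this
  obtain ⟨g, hg⟩ : ∃ g : K, ∀ j, ψ g ^ p ^ j ≠ 1 := by
    by_contra hcon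
    push Not at hcon
    refine hK fun g => ?_
    obtain ⟨j, hj⟩ := hcon g
    exact ⟨j, hψ (by rw [map_pow, hj, map_one])⟩
  obtain ⟨θ, hθz, hθx, hne, -⟩ := Fusion.exists_sl2_hom ψ hgen (hsq z' hz) (hsq x' hx) ⟨g, hg⟩
  haveI : Finite θ.range := Finite.of_surjective θ.rangeRestrict θ.rangeRestrict_surjective
  obtain ⟨L, hL, ⟨eL⟩⟩ := Fusion.Dickson.exists_sl2_le p hp θ.range ⟨θ z', ⟨z', rfl⟩, θ x', ⟨x', rfl⟩, hθz, hθx, hne⟩
  have h2 : 2 ∣ Nat.card K := by
    refine dvd_trans ?_ (Subgroup.card_range_dvd θ)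
    refine dvd_trans ?_ (Subgroup.card_dvd_of_le hL)
    rw [Nat.card_congr eL.toEquiv]
    exact two_dvd_card_sl2 p hp
  haveI : Fact (Nat.Prime 2) := ⟨Nat.prime_two⟩
  obtain ⟨j, hj⟩ := exists_prime_orderOf_dvd_card' 2 h2
  refine ⟨j, j.2, ?_, fun e => ?_⟩
  · have := pow_orderOf_eq_one j
    rw [hj, pow_two] at this
    exact congrArg Subtype.val this
  · rw [show j = 1 from Subtype.ext e, orderOf_one] at hj
    exact absurd hj (by norm_num)

/-- Scalars. -/
def scl (κ : Type) [Fintype κ] [DecidableEq κ] : Fˣ →* GL κ F :=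
  Units.map (algebraMap F (Matrix κ κ F)).toMonoidHom

theorem scl_val {κ : Type} [Fintype κ] [DecidableEq κ] (c : Fˣ) :
    ((scl κ c : GL κ F) : Matrix κ κ F) = (c : F) • 1 := Algebra.algebraMap_eq_smul_one _

theorem kr_scl {α β : Type} [Fintype α] [DecidableEq α] [Fintype β] [DecidableEq β] (c : Fˣ) (a : GL α F) (b : GL β F) :
    kr (scl α c * a) (scl β c⁻¹ * b) = kr a b := by
  refine Units.ext ?_
  rw [kr_val, kr_val, Units.val_mul, Units.val_mul, scl_val, scl_val, smul_mul_assoc, one_mul, smul_mul_assoc, one_mul,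
    Matrix.smul_kronecker, Matrix.kronecker_smul, smul_smul, Units.mul_inv, one_smul]

/-- A standard element carrying a root element to one in the same factor. -/
theorem conj_slot (hm : 2 ≤ m) {i : Fin (t + 1)} {n z z' : GL (Fin (t + 1) → Fin m) F}
    (hn : n ∈ tensorWreathStandard m (t + 1) F) {f l f' l' : Fin m → F} (hf : f ≠ 0) (hl : l ≠ 0) (hlf : l ⬝ᵥ f = 0)
    (hz : (z : Matrix (Fin (t + 1) → Fin m) (Fin (t + 1) → Fin m) F) = facM i (1 + vecMulVec f l))
    (hz' : (z' : Matrix (Fin (t + 1) → Fin m) (Fin (t + 1) → Fin m) F) = facM i (1 + vecMulVec f' l'))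
    (hf' : f' ≠ 0) (hl' : l' ≠ 0) (hlf' : l' ⬝ᵥ f' = 0) (h : n * z = z' * n) :
    ∃ (a : GL (Fin t → Fin m) F) (b : GL (Fin m) F), n = J i (kr a b) ∧
      (b : Matrix (Fin m) (Fin m) F) * vecMulVec f l = vecMulVec f' l' * (b : Matrix (Fin m) (Fin m) F) := by
  obtain ⟨A, σ, rfl⟩ := std_decomp hn
  have hzr : RootAt i z := ⟨f, l, hf, hl, hlf, hz⟩
  have hz'r : RootAt i z' := ⟨f', l', hf', hl', hlf', hz'⟩
  have hσ : σ i = i := by
    have h1 := hzr.conj (A := A) (σ := σ)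
    rw [h, mul_inv_cancel_right] at h1
    exact h1.slot_unique hm hz'r
  obtain ⟨a, ha⟩ := exists_kr_of_fixed (by omega) i A hσ
  refine ⟨a, A i, ha, ?_⟩
  have e : facM i ((A i : Matrix (Fin m) (Fin m) F) * (1 + vecMulVec f l) * (((A i)⁻¹ : GL (Fin m) F) : Matrix (Fin m) (Fin m) F)) =
      facM i (1 + vecMulVec f' l') := by
    have h2 := congrArg (fun u : GL (Fin (t + 1) → Fin m) F =>
      (u : Matrix (Fin (t + 1) → Fin m) (Fin (t + 1) → Fin m) F)) h
    simp only [Units.val_mul, hz, hz'] at h2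
    rw [← Units.val_mul, std_conj_fac, hσ] at h2
    exact (Units.isUnit (pureGL A * factorPermGL m F σ)).mul_right_cancel h2
  have e2 := facM_inj (by omega) i e
  have e3 := congrArg (fun u : Matrix (Fin m) (Fin m) F => u * (A i : Matrix (Fin m) (Fin m) F)) e2
  simp only [mul_assoc, Units.inv_mul, mul_one] at e3
  rw [mul_add, add_mul, mul_one, one_mul] at e3
  exact add_left_cancel e3

end Cfsg.Agent.Classical.TensorPowerMax
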