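/-
In odd characteristic an overgroup of the stabiliser of a tensor power has no extremal configuration.
-/
import Cfsg.Agent.Lib.Classical.TensorPowerMax.Pair

set_option autoImplicit false
set_option linter.unusedSectionVars false

namespace Cfsg.Agent.Classical.TensorPowerMax

open Matrix Cfsg.Geo
open Cfsg.Agent.Classical
open Cfsg.Agent.Classical.TensorMax (kr kr_val kr_mul kr_one kr_inv)
open scoped Kronecker

variable {F : Type*} [Field F] {m t : ℕ}

/-- The negated vectors. -/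
def negS {κ : Type} [Fintype κ] [DecidableEq κ] (g : GL κ F) : Submodule F (κ → F) :=
  LinearMap.ker (Matrix.mulVecLin ((g : Matrix κ κ F) + 1))

theorem mem_negS {κ : Type} [Fintype κ] [DecidableEq κ] {g : GL κ F} {v : κ → F} :
    v ∈ negS g ↔ (g : Matrix κ κ F) *ᵥ v = -v := by
  rw [negS, LinearMap.mem_ker, Matrix.mulVecLin_apply, Matrix.add_mulVec, Matrix.one_mulVec, eq_neg_iff_add_eq_zero]

theorem finrank_map_add_inf_ker {V : Type*} [AddCommGroup V] [Module F V] [FiniteDimensional F V] (A : V →ₗ[F] V)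
    (P : Submodule F V) :
    Module.finrank F (P.map A) + Module.finrank F (P ⊓ LinearMap.ker A : Submodule F V) = Module.finrank F P := by
  have h1 := LinearMap.finrank_range_add_finrank_ker (A.domRestrict P)
  rw [LinearMap.range_domRestrict, LinearMap.ker_domRestrict, ← Submodule.finrank_map_subtype_eq,
    Submodule.map_comap_subtype] at h1
  exact h1

theorem exists_pm {α : Type} [Fintype α] [DecidableEq α] {a : Matrix α α F} (ha2 : a * a = 1) :
    (a ≠ -1 → ∃ w : α → F, w ≠ 0 ∧ a *ᵥ w = w) ∧ (a ≠ 1 → ∃ w : α → F, w ≠ 0 ∧ a *ᵥ w = -w) := by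
  refine ⟨fun h => ?_, fun h => ?_⟩
  · by_contra hcon
    push Not at hcon
    refine h (Matrix.ext_of_mulVec_single fun i => ?_)
    obtain ⟨u, hu⟩ : ∃ u : α → F, u = Pi.single i 1 := ⟨_, rfl⟩
    rw [← hu, Matrix.neg_mulVec, Matrix.one_mulVec, eq_neg_iff_add_eq_zero]
    by_contra hne
    refine hcon _ hne ?_
    rw [Matrix.mulVec_add, Matrix.mulVec_mulVec, ha2, Matrix.one_mulVec, add_comm]
  · by_contra hcon
    push Not at hcon
    refine h (Matrix.ext_of_mulVec_single fun i => ?_)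
    obtain ⟨u, hu⟩ : ∃ u : α → F, u = Pi.single i 1 := ⟨_, rfl⟩
    rw [← hu, Matrix.one_mulVec, ← sub_eq_zero]
    by_contra hne
    refine hcon _ hne ?_
    rw [Matrix.mulVec_sub, Matrix.mulVec_mulVec, ha2, Matrix.one_mulVec, neg_sub]

/-- A vector of a hyperplane outside a line inside it. -/
theorem exists_off_line {l f : Fin m → F} (hm : 3 ≤ m) (hl : l ≠ 0) :
    ∃ h : Fin m → F, l ⬝ᵥ h = 0 ∧ ∀ c : F, h ≠ c • f := by
  by_contra hcon
  push Not at hcon
  have hle : LinearMap.ker (dotProductBilin F F l) ≤ Submodule.span F {f} := fun h hh => by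
    obtain ⟨c, hc⟩ := hcon h hh
    exact Submodule.mem_span_singleton.2 ⟨c, hc.symm⟩
  have h1 := Submodule.finrank_mono hle
  have h2 := finrank_ker_dot hl
  have h3 : Module.finrank F (Submodule.span F ({f} : Set (Fin m → F))) ≤ 1 :=
    (finrank_span_le_card _).trans (by simp)
  omega

variable [Fintype F] {p : ℕ} {X : Subgroup (GL (Fin (t + 1) → Fin m) F)}
  {W : Submodule F ((Fin (t + 1) → Fin m) → F)} {z g : GL (Fin (t + 1) → Fin m) F}

/-- An involution commuting with the root element negates more than half of the vectors it negates among those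
fixed by the root element. -/
theorem Ext.strict (E : Ext p X W z g) (h2 : (2 : F) ≠ 0) {j : GL (Fin (t + 1) → Fin m) F} (hj : j ∈ X)
    (hjW : j ∈ fixG W) (hj2 : j * j = 1) (hj1 : j ≠ 1) (hc : j * z = z * j) :
    Module.finrank F (negS j) < 2 * Module.finrank F (fixS z ⊓ negS j : Submodule F _) := by
  classical
  have hm := E.ov.hm
  haveI : Nonempty (Fin t → Fin m) := ⟨fun _ => ⟨0, by omega⟩⟩
  haveI : Nonempty (Fin m) := ⟨⟨0, by omega⟩⟩
  obtain ⟨i, f, l, hf, hl, hlf, hz⟩ := E.root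
  obtain ⟨a₀, b₀, hab, hb₀⟩ := conj_slot (by omega) (E.ov.central E.root hj hc).1 hf hl hlf hz hz hf hl hlf hc
  -- normalise: `b` fixes `f` and `l`, and `a`, `b` are involutions
  obtain ⟨k, hk⟩ := Function.ne_iff.1 hl
  obtain ⟨μ, hμ⟩ : ∃ μ : F, μ = (l ᵥ* (b₀ : Matrix (Fin m) (Fin m) F)) k / l k := ⟨_, rfl⟩
  rw [Matrix.mul_vecMulVec, Matrix.vecMulVec_mul] at hb₀
  have hbf₀ : (b₀ : Matrix (Fin m) (Fin m) F) *ᵥ f = μ • f := funext fun r => by
    have e := congrFun (congrFun hb₀ r) k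
    rw [vecMulVec_apply, vecMulVec_apply] at e
    rw [Pi.smul_apply, smul_eq_mul, hμ, div_mul_eq_mul_div, eq_div_iff (show l k ≠ 0 from hk), e, mul_comm]
  have hμ0 : μ ≠ 0 := fun h0 => hf (by
    rw [h0, zero_smul] at hbf₀
    have := congrArg (fun v => ((b₀⁻¹ : GL (Fin m) F) : Matrix (Fin m) (Fin m) F) *ᵥ v) hbf₀
    simpa [Matrix.mulVec_mulVec] using this)
  obtain ⟨a, b, hjab, hbf, hlb⟩ : ∃ (a : GL (Fin t → Fin m) F) (b : GL (Fin m) F), j = J i (kr a b) ∧
      (b : Matrix (Fin m) (Fin m) F) *ᵥ f = f ∧ l ᵥ* (b : Matrix (Fin m) (Fin m) F) = l := by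
    refine ⟨scl _ (Units.mk0 μ hμ0) * a₀, scl _ (Units.mk0 μ hμ0)⁻¹ * b₀, ?_, ?_, ?_⟩
    · rw [kr_scl, hab]
    · rw [Units.val_mul, scl_val, smul_mul_assoc, one_mul, Matrix.smul_mulVec, hbf₀, smul_smul]
      simp [hμ0]
    · funext r
      rw [Units.val_mul, scl_val, smul_mul_assoc, one_mul, Matrix.vecMul_smul, Pi.smul_apply, smul_eq_mul]
      obtain ⟨o, ho⟩ := Function.ne_iff.1 hf
      have e := congrFun (congrFun hb₀ o) r
      rw [hbf₀, vecMulVec_apply, vecMulVec_apply, Pi.smul_apply, smul_eq_mul] at e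
      refine mul_left_cancel₀ (show f o ≠ 0 from ho) ?_
      rw [Units.val_inv_eq_inv_val, Units.val_mk0, mul_left_comm, ← e]
      field_simp
  have hsq : kr (a * a) (b * b) = kr 1 1 := (J i).injective (by
    rw [← kr_mul, map_mul, ← hjab, hj2, kr_one, map_one])
  have hb2 : b * b = 1 := by
    obtain ⟨c, -, hcb⟩ := kron_eq_kron hsq
    have hc1 : c = 1 := by
      obtain ⟨o, ho⟩ := Function.ne_iff.1 hf
      have e := congrArg (fun M : Matrix (Fin m) (Fin m) F => (M *ᵥ f) o) hcb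
      simp only [Units.val_mul, ← Matrix.mulVec_mulVec, hbf, Units.val_one, Matrix.smul_mulVec, Matrix.one_mulVec,
        Pi.smul_apply, smul_eq_mul] at e
      exact (mul_eq_right₀ ho).1 e.symm
    exact Units.ext (by rw [hcb, hc1, one_smul])
  have ha2 : (a : Matrix (Fin t → Fin m) (Fin t → Fin m) F) * (a : Matrix (Fin t → Fin m) (Fin t → Fin m) F) = 1 := by
    rw [hb2] at hsq
    ext x y
    have e := congrFun (congrFun (congrArg
      (fun u : GL ((Fin t → Fin m) × Fin m) F => (u : Matrix ((Fin t → Fin m) × Fin m) ((Fin t → Fin m) × Fin m) F)) hsq)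
      (x, k)) (y, k)
    simpa [kr_val] using e
  have hb2v : ∀ h : Fin m → F, (b : Matrix (Fin m) (Fin m) F) *ᵥ ((b : Matrix (Fin m) (Fin m) F) *ᵥ h) = h := fun h => by
    rw [Matrix.mulVec_mulVec, ← Units.val_mul, hb2, Units.val_one, Matrix.one_mulVec]
  have hlH : ∀ h : Fin m → F, l ⬝ᵥ ((b : Matrix (Fin m) (Fin m) F) *ᵥ h) = l ⬝ᵥ h := fun h => by
    rw [dotProduct_mulVec, hlb]
  have htwo : ∀ {c : F}, c = -c → c = 0 := fun {c} e =>
    (mul_eq_zero.1 (show (2 : F) * c = 0 by linear_combination e)).resolve_left h2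
  -- a negated fixed vector outside the image of `z - 1`
  obtain ⟨w, h, hw, hlh, hoff, hneg⟩ : ∃ (w : (Fin t → Fin m) → F) (h : Fin m → F), w ≠ 0 ∧ l ⬝ᵥ h = 0 ∧
      (∀ c : F, h ≠ c • f) ∧ tens i ((a : Matrix (Fin t → Fin m) (Fin t → Fin m) F) *ᵥ w)
        ((b : Matrix (Fin m) (Fin m) F) *ᵥ h) = -tens i w h := by
    have hnegl : ∀ (w : (Fin t → Fin m) → F) (h : Fin m → F), tens i (-w) h = -tens i w h := fun w h =>
      funext fun x => by simp only [tens, Pi.neg_apply, neg_mul]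
    have hnegr : ∀ (w : (Fin t → Fin m) → F) (h : Fin m → F), tens i w (-h) = -tens i w h := fun w h =>
      funext fun x => by simp only [tens, Pi.neg_apply, mul_neg]
    by_cases ha : (a : Matrix (Fin t → Fin m) (Fin t → Fin m) F) = -1
    · obtain ⟨h, hh, hoff⟩ : ∃ h, l ⬝ᵥ h = 0 ∧ ∀ c : F, h + (b : Matrix (Fin m) (Fin m) F) *ᵥ h ≠ c • f := by
        by_contra hcon
        push Not at hcon
        let K : Submodule F (Fin m → F) := LinearMap.ker (dotProductBilin F F l) ⊓ negS b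
        refine E.not_rows i (K := K) ?_ fun v hv x => ?_
        · have hlt : K < LinearMap.ker (dotProductBilin F F l) := by
            refine lt_of_le_of_ne inf_le_left fun e => ?_
            have : f ∈ K := e ▸ (show f ∈ LinearMap.ker (dotProductBilin F F l) from hlf)
            have e2 := mem_negS.1 this.2
            rw [hbf] at e2
            exact hf (funext fun r => htwo (congrFun e2 r))
          have := Submodule.finrank_lt_finrank_of_lt hlt
          have := finrank_ker_dot hl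
          omega
        · have hz' : v ∈ ann i l := fixS_root hf hz ▸ mem_fixG_iff_le.1 E.zfix hv
          refine ⟨hz' x, mem_negS.2 ?_⟩
          have e := congrArg (slice i) (hjW v hv)
          rw [hjab, slice_kr, ha, Matrix.neg_mul, Matrix.one_mul] at e
          have e2 := congrFun e x
          rw [← Matrix.vecMul_transpose]
          rw [eq_neg_iff_add_eq_zero, ← neg_eq_iff_add_eq_zero]
          funext r
          have e3 := congrFun e2 r
          rw [Matrix.neg_mul, Matrix.neg_apply] at e3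
          exact e3
      obtain ⟨w, hw⟩ : ∃ w : (Fin t → Fin m) → F, w ≠ 0 := ⟨fun _ => 1, fun e => one_ne_zero (congrFun e (Classical.arbitrary _))⟩
      refine ⟨w, h + (b : Matrix (Fin m) (Fin m) F) *ᵥ h, hw, by rw [dotProduct_add, hlH, hh, add_zero], hoff, ?_⟩
      rw [ha, Matrix.neg_mulVec, Matrix.one_mulVec, Matrix.mulVec_add, hb2v, hnegl]
      congr 2
      exact add_comm _ _
    · obtain ⟨w, hw, haw⟩ := (exists_pm ha2).1 ha
      by_cases hb1 : ∀ h, l ⬝ᵥ h = 0 → (b : Matrix (Fin m) (Fin m) F) *ᵥ h = h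
      · have hbone : (b : Matrix (Fin m) (Fin m) F) = 1 := by
          refine Matrix.ext_of_mulVec_single fun r => ?_
          obtain ⟨u, hu⟩ : ∃ u : Fin m → F, u = Pi.single r 1 := ⟨_, rfl⟩
          rw [← hu, Matrix.one_mulVec]
          have hd := hb1 ((b : Matrix (Fin m) (Fin m) F) *ᵥ u - u) (by rw [dotProduct_sub, hlH, sub_self])
          rw [Matrix.mulVec_sub, hb2v] at hd
          funext s
          have hd' := congrFun hd s
          simp only [Pi.sub_apply] at hd'
          exact sub_eq_zero.1 (htwo (c := ((b : Matrix (Fin m) (Fin m) F) *ᵥ u) s - u s) (by linear_combination -hd'))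
        obtain ⟨w', hw', haw'⟩ := (exists_pm ha2).2 fun e => hj1 (by
          rw [hjab, show a = 1 from Units.ext e, show b = 1 from Units.ext hbone, kr_one, map_one])
        obtain ⟨h, hh, hoff⟩ := exists_off_line (f := f) hm hl
        exact ⟨w', h, hw', hh, hoff, by rw [haw', hb1 h hh, hnegl]⟩
      · push Not at hb1
        obtain ⟨h, hh, hne⟩ := hb1
        refine ⟨w, h - (b : Matrix (Fin m) (Fin m) F) *ᵥ h, hw, by rw [dotProduct_sub, hlH, hh, sub_zero],
          fun c hc => hne ?_, by rw [haw, Matrix.mulVec_sub, hb2v, ← hnegr, neg_sub]⟩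
        have e := congrArg (fun v => (b : Matrix (Fin m) (Fin m) F) *ᵥ v) hc
        simp only [Matrix.mulVec_sub, hb2v, Matrix.mulVec_smul, hbf] at e
        funext r
        have h1 := congrFun hc r
        have h2' := congrFun e r
        simp only [Pi.sub_apply, Pi.smul_apply] at h1 h2'
        exact (sub_eq_zero.1 (htwo (c := h r - ((b : Matrix (Fin m) (Fin m) F) *ᵥ h) r) (by linear_combination h1 - h2'))).symm
  -- counting
  obtain ⟨A, hA⟩ : ∃ A, A = Matrix.mulVecLin ((z : Matrix (Fin (t + 1) → Fin m) (Fin (t + 1) → Fin m) F) - 1) :=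
    ⟨_, rfl⟩
  have hlt : (negS j).map A < fixS z ⊓ negS j := by
    refine SetLike.lt_iff_le_and_exists.2 ⟨?_, tens i w h, Submodule.mem_inf.2 ⟨?_, ?_⟩, ?_⟩
    · rintro _ ⟨v, hv, rfl⟩
      rw [hA, Matrix.mulVecLin_apply]
      refine ⟨mem_fixS.2 ?_, mem_negS.2 ?_⟩
      · have e0 := congrArg (fun M : Matrix (Fin (t + 1) → Fin m) (Fin (t + 1) → Fin m) F => M *ᵥ v)
          (RootAt.sq (i := i) ⟨f, l, hf, hl, hlf, hz⟩)
        simp only [← Matrix.mulVec_mulVec, Matrix.zero_mulVec] at e0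
        rwa [Matrix.sub_mulVec _ _ (_ *ᵥ v), Matrix.one_mulVec, sub_eq_zero] at e0
      · have hjz : (j : Matrix (Fin (t + 1) → Fin m) (Fin (t + 1) → Fin m) F) *
            ((z : Matrix (Fin (t + 1) → Fin m) (Fin (t + 1) → Fin m) F) - 1) =
            ((z : Matrix (Fin (t + 1) → Fin m) (Fin (t + 1) → Fin m) F) - 1) *
              (j : Matrix (Fin (t + 1) → Fin m) (Fin (t + 1) → Fin m) F) := by
          rw [mul_sub, sub_mul, mul_one, one_mul, ← Units.val_mul, hc, Units.val_mul]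
        rw [Matrix.mulVec_mulVec, hjz, ← Matrix.mulVec_mulVec, mem_negS.1 hv, Matrix.mulVec_neg]
    · exact fixS_root hf hz ▸ tens_mem_rows i w hlh
    · exact mem_negS.2 (by rw [hjab, kr_tens, hneg])
    · rintro ⟨v, -, e⟩
      rw [hA, Matrix.mulVecLin_apply, Matrix.sub_mulVec, Matrix.one_mulVec, root_mulVec hz, add_sub_cancel_left] at e
      obtain ⟨x, hx⟩ := Function.ne_iff.1 hw
      refine hoff ((slice i v *ᵥ l) x / w x) (funext fun r => ?_)
      have e2 := congrArg (fun u => slice i u x r) e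
      simp only [slice_tens, vecMulVec_apply] at e2
      rw [Pi.smul_apply, smul_eq_mul, div_mul_eq_mul_div, eq_div_iff (show w x ≠ 0 from hx), e2, mul_comm]
  have h1 := Submodule.finrank_lt_finrank_of_lt hlt
  have h3 := finrank_map_add_inf_ker A (negS j)
  rw [inf_comm, show LinearMap.ker A = fixS z by rw [hA, fixS]] at h3
  omega

/-- The characteristic is two. -/
theorem Ext.char_two (E : Ext p X W z g) : p = 2 := by
  classical
  by_contra hp
  have hm := E.ov.hm
  haveI := Fact.mk E.ov.prime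
  haveI := E.ov.char
  haveI : Nonempty (Fin (t + 1) → Fin m) := ⟨fun _ => ⟨0, by omega⟩⟩
  have h2 : (2 : F) ≠ 0 := fun h => hp
    ((Nat.prime_dvd_prime_iff_eq E.ov.prime Nat.prime_two).1 ((CharP.cast_eq_zero_iff F p 2).1 (by exact_mod_cast h)))
  have hzX : z ∈ X := E.ov.le E.root.mem_ns
  obtain ⟨x, hx⟩ : ∃ x, x = g * z * g⁻¹ := ⟨_, rfl⟩
  have hxW : x ∈ fixG W := hx ▸ mul_mem (mul_mem E.gfix E.zfix) (inv_mem E.gfix)
  have hxX : x ∈ X := hx ▸ mul_mem (mul_mem E.mem hzX) (inv_mem E.mem)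
  have hle : Subgroup.closure ({z, x} : Set (GL (Fin (t + 1) → Fin m) F)) ≤ X ⊓ fixG W := by
    rw [Subgroup.closure_le, Set.insert_subset_iff, Set.singleton_subset_iff]
    exact ⟨⟨hzX, E.zfix⟩, ⟨hxX, hxW⟩⟩
  obtain ⟨i, hzi⟩ := E.root
  have hxsq := hx ▸ rootAt_sq_zero hzi g
  obtain ⟨j, hj, hj2, hj1⟩ := exists_involution p hp hzi.sq hxsq (by
    intro hpg
    obtain ⟨c, hc, hcN⟩ := E.ov.roots.conj_into (z₀ := z) ⟨i, hzi⟩ (hle.trans inf_le_left) hpg
    have hc' : c ∈ Ns m (t + 1) F := E.ov.moves hc ⟨i, hzi⟩ (hcN z (Subgroup.subset_closure (Or.inl rfl)))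
    have h' := mul_mem (mul_mem (inv_mem hc') (hcN x (Subgroup.subset_closure (Or.inr rfl)))) hc'
    rw [show c⁻¹ * (c * x * c⁻¹) * c = x by group, hx] at h'
    exact E.notMem (E.ov.moves E.mem ⟨i, hzi⟩ h'))
  have hcomm : ∀ u : GL (Fin (t + 1) → Fin m) F,
      Commute ((j : Matrix (Fin (t + 1) → Fin m) (Fin (t + 1) → Fin m) F) + ((j⁻¹ : GL (Fin (t + 1) → Fin m) F) : Matrix _ _ F))
        ((u : Matrix (Fin (t + 1) → Fin m) (Fin (t + 1) → Fin m) F) - 1) → j * u = u * j := by
    intro u hu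
    rw [show j⁻¹ = j from inv_eq_of_mul_eq_one_right hj2, ← two_smul F (j : Matrix (Fin (t + 1) → Fin m) (Fin (t + 1) → Fin m) F),
      commute_iff_eq, smul_mul_assoc, mul_smul_comm] at hu
    have h' := smul_right_injective _ h2 hu
    simp only [mul_sub, sub_mul, mul_one, one_mul, sub_left_inj] at h'
    exact Units.ext h'
  obtain ⟨hjz', hjx'⟩ := symm_central hzi.sq hxsq hj
  have hjz := hcomm z hjz'
  have hjx := hcomm x hjx'
  obtain ⟨j', hj'⟩ : ∃ j', j' = g⁻¹ * j * g := ⟨_, rfl⟩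
  have hj'z : j' * z = z * j' := by
    calc j' * z = g⁻¹ * (j * x) * g := by rw [hj', hx]; group
      _ = g⁻¹ * (x * j) * g := by rw [hjx]
      _ = z * j' := by rw [hj', hx]; group
  have hs := E.strict h2 (hle hj).1 (hle hj).2 hj2 hj1 hjz
  have hs' := E.strict h2 (j := j') (hj' ▸ mul_mem (mul_mem (inv_mem E.mem) (hle hj).1) E.mem)
    (hj' ▸ mul_mem (mul_mem (inv_mem E.gfix) (hle hj).2) E.gfix)
    (by rw [hj', show g⁻¹ * j * g * (g⁻¹ * j * g) = g⁻¹ * (j * j) * g by group, hj2]; group)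
    (fun e => hj1 (by rw [show j = g * j' * g⁻¹ by rw [hj']; group, e]; group)) hj'z
  have himg : img g (negS j') = negS j := by
    apply le_antisymm
    · rintro _ ⟨u, hu, rfl⟩
      rw [Matrix.mulVecLin_apply, mem_negS, Matrix.mulVec_mulVec, ← Units.val_mul,
        show j * g = g * j' by rw [hj']; group, Units.val_mul, ← Matrix.mulVec_mulVec, mem_negS.1 hu, Matrix.mulVec_neg]
    · intro v hv
      refine ⟨((g⁻¹ : GL (Fin (t + 1) → Fin m) F) : Matrix (Fin (t + 1) → Fin m) (Fin (t + 1) → Fin m) F) *ᵥ v, ?_, ?_⟩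
      · rw [SetLike.mem_coe, mem_negS, Matrix.mulVec_mulVec, ← Units.val_mul,
          show j' * g⁻¹ = g⁻¹ * j by rw [hj']; group, Units.val_mul, ← Matrix.mulVec_mulVec, mem_negS.1 hv,
          Matrix.mulVec_neg]
      · rw [Matrix.mulVecLin_apply, Matrix.mulVec_mulVec, ← Units.val_mul, mul_inv_cancel, Units.val_one, Matrix.one_mulVec]
  have hB : img g (fixS z ⊓ negS j') ≤ negS j := himg ▸ Submodule.map_mono inf_le_right
  have hdim : Module.finrank F (negS j') = Module.finrank F (negS j) := by rw [← himg, finrank_img]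
  have hsum := Submodule.finrank_sup_add_finrank_inf_eq (fixS z ⊓ negS j) (img g (fixS z ⊓ negS j'))
  have hsup := Submodule.finrank_mono (sup_le (inf_le_right (a := fixS z)) hB)
  rw [finrank_img] at hsum
  have hne : (fixS z ⊓ negS j) ⊓ img g (fixS z ⊓ negS j') ≠ ⊥ := fun e => by
    rw [e, finrank_bot] at hsum
    omega
  obtain ⟨v, hv, hv0⟩ := Submodule.exists_mem_ne_zero_of_ne_bot hne
  obtain ⟨⟨hvz, hvj⟩, u, ⟨huz, -⟩, rfl⟩ := hv
  have hu := E.closed E.mem E.notMem E.gfix ⟨i, hzi⟩ E.zfix ⟨i, hzi⟩ E.zfix (mem_fixS.1 huz) (mem_fixS.1 hvz)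
  rw [Matrix.mulVecLin_apply, E.gfix u hu] at hvj hv0
  have e := mem_negS.1 hvj
  rw [(hle hj).2 u hu] at e
  exact hv0 (funext fun r => (mul_eq_zero.1 (show (2 : F) * u r = 0 by
    have e' := congrFun e r
    rw [Pi.neg_apply] at e'
    linear_combination e')).resolve_left h2)

end Cfsg.Agent.Classical.TensorPowerMax
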