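/-
In characteristic two: two root elements of one factor that are not fused in the stabiliser.
-/
import Cfsg.Agent.Lib.Classical.TensorPowerMax.Odd

set_option autoImplicit false
set_option linter.unusedSectionVars false

namespace Cfsg.Agent.Classical.TensorPowerMax

open Matrix Cfsg.Geo
open Cfsg.Agent.Classical
open Cfsg.Agent.Classical.TensorMax (kr kr_val kr_mul kr_one kr_inv)
open scoped Kronecker

variable {F : Type*} [Field F] {m t : ℕ}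

/-- A dihedral group: a conjugate `y` of `x` with `⟨z, y⟩` a `2`-group. -/
theorem dihedral_split {G : Type*} [Group G] [Finite G] {z x : G} (hz : z * z = 1) (hx : x * x = 1) :
    ∃ d ∈ Subgroup.closure ({z, x} : Set G), ∃ d' ∈ Subgroup.closure ({z, x} : Set G),
      IsPGroup 2 (Subgroup.closure ({z, d * x * d⁻¹} : Set G)) ∧
      (z * (d * x * d⁻¹) * (z * (d * x * d⁻¹)) = 1 →
        z * (d * x * d⁻¹) * x = x * (z * (d * x * d⁻¹)) ∧ x * (z * (d * x * d⁻¹)) = d' * z * d'⁻¹) := by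
  obtain ⟨s, hs⟩ : ∃ s, s = z * x := ⟨_, rfl⟩
  have hzi : z⁻¹ = z := inv_eq_of_mul_eq_one_right hz
  have hxi : x⁻¹ = x := inv_eq_of_mul_eq_one_right hx
  have hzs : z * s * z⁻¹ = s⁻¹ := by
    rw [hs, _root_.mul_inv_rev, hxi, hzi]
    calc z * (z * x) * z = (z * z) * x * z := by group
      _ = x * z := by rw [hz, one_mul]
  have hzsn : ∀ n : ℤ, z * s ^ n = s ^ (-n) * z := fun n => by
    have e : z * s ^ n * z⁻¹ = s ^ (-n) := by rw [← conj_zpow, hzs, _root_.inv_zpow, _root_.zpow_neg]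
    rw [← e, inv_mul_cancel_right]
  have hxz : x = z * s := by rw [hs, ← mul_assoc, hz, one_mul]
  have hmem : s ∈ Subgroup.closure ({z, x} : Set G) :=
    hs ▸ mul_mem (Subgroup.subset_closure (Or.inl rfl)) (Subgroup.subset_closure (Or.inr rfl))
  obtain ⟨a, q, hq, hk⟩ := Nat.exists_eq_two_pow_mul_odd (isOfFinOrder_of_finite s).orderOf_pos.ne'
  obtain ⟨c, rfl⟩ := hq
  refine ⟨s ^ (-(c : ℤ)), zpow_mem hmem _, s ^ (c : ℤ), zpow_mem hmem _, ?_⟩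
  obtain ⟨u, hu⟩ : ∃ u, u = s ^ ((2 : ℤ) * c + 1) := ⟨_, rfl⟩
  have hy : z * (s ^ (-(c : ℤ)) * x * (s ^ (-(c : ℤ)))⁻¹) = u := by
    rw [hxz, ← _root_.zpow_neg, neg_neg, ← mul_assoc, ← mul_assoc, hzsn, neg_neg, ← mul_assoc (s ^ (c : ℤ) * z) z s,
      mul_assoc (s ^ (c : ℤ)) z z, hz, mul_one, ← _root_.zpow_add_one, ← _root_.zpow_add, hu]
    congr 1
    ring
  have hu2 : u ^ (2 ^ a) = 1 := by
    rw [hu, show ((2 : ℤ) * c + 1) = ((2 * c + 1 : ℕ) : ℤ) by push_cast; ring, zpow_natCast, ← pow_mul, mul_comm, ← hk,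
      pow_orderOf_eq_one]
  refine ⟨?_, fun huu => ?_⟩
  · have key : ∀ q ∈ Subgroup.closure ({z, s ^ (-(c : ℤ)) * x * (s ^ (-(c : ℤ)))⁻¹} : Set G),
        ∃ i : ℤ, q = u ^ i ∨ q = z * u ^ i := by
      have hzu : ∀ i : ℤ, z * u ^ i = u ^ (-i) * z := fun i => by
        rw [hu, ← _root_.zpow_mul, hzsn, ← _root_.zpow_mul, mul_neg]
      intro q hq
      induction hq using Subgroup.closure_induction with
      | one => exact ⟨0, Or.inl (_root_.zpow_zero u).symm⟩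
      | mem y hy' =>
        rcases hy' with rfl | rfl
        · exact ⟨0, Or.inr (by rw [_root_.zpow_zero, mul_one])⟩
        · exact ⟨1, Or.inr (by rw [_root_.zpow_one, ← hy, ← mul_assoc z z, hz, one_mul])⟩
      | mul y y' _ _ h h' =>
        obtain ⟨i, rfl | rfl⟩ := h <;> obtain ⟨i', rfl | rfl⟩ := h'
        · exact ⟨i + i', Or.inl (_root_.zpow_add u i i').symm⟩
        · refine ⟨-i + i', Or.inr ?_⟩
          rw [← mul_assoc, _root_.zpow_add, ← mul_assoc, hzu, neg_neg]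
        · exact ⟨i + i', Or.inr (by rw [mul_assoc, ← _root_.zpow_add])⟩
        · refine ⟨-i + i', Or.inl ?_⟩
          rw [hzu i, mul_assoc, ← mul_assoc z, hz, one_mul, ← _root_.zpow_add]
      | inv y _ h =>
        obtain ⟨i, rfl | rfl⟩ := h
        · exact ⟨-i, Or.inl (_root_.zpow_neg u i).symm⟩
        · exact ⟨i, Or.inr (by rw [_root_.mul_inv_rev, hzi, ← _root_.zpow_neg, hzu])⟩
    rintro ⟨q, hq⟩
    obtain ⟨i, rfl | rfl⟩ := key q hq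
    · refine ⟨a, Subtype.ext ?_⟩
      show (u ^ i) ^ 2 ^ a = 1
      rw [← zpow_natCast, ← _root_.zpow_mul, mul_comm, _root_.zpow_mul, zpow_natCast, hu2, _root_.one_zpow]
    · refine ⟨1, Subtype.ext ?_⟩
      show (z * u ^ i) ^ 2 ^ 1 = 1
      rw [pow_one, pow_two]
      calc z * u ^ i * (z * u ^ i) = z * (u ^ i * z) * u ^ i := by group
        _ = 1 := by
          rw [hu, ← _root_.zpow_mul, ← neg_neg ((2 * (c : ℤ) + 1) * i), ← hzsn, ← mul_assoc, hz, one_mul, neg_neg,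
            ← _root_.zpow_add, neg_add_cancel, _root_.zpow_zero]
  · rw [hy] at huu ⊢
    have hui : u⁻¹ = u := inv_eq_of_mul_eq_one_right huu
    have hzu : z * u = u * z := by
      rw [hu, hzsn, _root_.zpow_neg, ← hu, hui]
    have hsu : s * u = u * s := by rw [hu, ← _root_.zpow_one_add, add_comm, _root_.zpow_add_one]
    have hxu : x * u = u * x := by rw [hxz, mul_assoc, hsu, ← mul_assoc, hzu, mul_assoc]
    refine ⟨hxu.symm, ?_⟩
    rw [hxu, hu, ← _root_.zpow_neg, mul_assoc (s ^ (c : ℤ)) z, hzsn, neg_neg, ← mul_assoc, ← _root_.zpow_add,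
      show s ^ ((2 : ℤ) * c + 1) * x = s ^ ((2 : ℤ) * c + 1) * (z * s) by rw [← hxz],
      show z * s = s ^ (-(1 : ℤ)) * z by rw [← hzsn, _root_.zpow_one], ← mul_assoc, ← _root_.zpow_add]
    congr 2
    ring

theorem RootAt.mul_eq {i : Fin (t + 1)} {y y' : GL (Fin (t + 1) → Fin m) F} {f l f' : Fin m → F} {c : F} (hl : l ≠ 0)
    (hlf : l ⬝ᵥ f = 0) (hlf' : l ⬝ᵥ f' = 0)
    (hy : (y : Matrix (Fin (t + 1) → Fin m) (Fin (t + 1) → Fin m) F) = facM i (1 + vecMulVec f l))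
    (hy' : (y' : Matrix (Fin (t + 1) → Fin m) (Fin (t + 1) → Fin m) F) = facM i (1 + vecMulVec f' (c • l))) :
    y * y' = 1 ∨ RootAt i (y * y') := by
  have e : ((y * y' : GL (Fin (t + 1) → Fin m) F) : Matrix (Fin (t + 1) → Fin m) (Fin (t + 1) → Fin m) F) =
      facM i (1 + vecMulVec (f + c • f') l) := by
    rw [Units.val_mul, hy, hy', facM_mul]
    congr 1
    rw [mul_add, add_mul, add_mul, one_mul, mul_one, one_mul, Matrix.vecMulVec_mul_vecMulVec, hlf', zero_smul,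
      Matrix.vecMulVec_zero, add_zero, Matrix.add_vecMulVec, Matrix.vecMulVec_smul, Matrix.smul_vecMulVec, add_assoc]
  by_cases h0 : f + c • f' = 0
  · left
    refine Units.ext ?_
    rw [e, h0, Matrix.zero_vecMulVec, add_zero, facM_one, Units.val_one]
  · right
    exact ⟨_, l, h0, hl, by rw [dotProduct_add, dotProduct_smul, hlf, hlf', smul_zero, add_zero], e⟩

variable [Fintype F] {X : Subgroup (GL (Fin (t + 1) → Fin m) F)}
  {W : Submodule F ((Fin (t + 1) → Fin m) → F)} {z g : GL (Fin (t + 1) → Fin m) F}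

/-- Root elements fixing the subspace commute. -/
theorem Ext.roots_commute (E : Ext 2 X W z g) {y y' : GL (Fin (t + 1) → Fin m) F} (hy : IsRoot y) (hy' : IsRoot y')
    (hW : y ∈ fixG W) (hW' : y' ∈ fixG W) : y * y' = y' * y := by
  obtain ⟨i, hy⟩ := hy
  obtain ⟨i', hy'⟩ := hy'
  by_cases h : i = i'
  · subst h
    obtain ⟨f, l, hf, hl, hlf, hy⟩ := hy
    obtain ⟨f', l', hf', hl', hlf', hy'⟩ := hy'
    obtain ⟨c, hc, rfl⟩ := E.functional hf hl hf' hl' hy hy' hW hW'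
    rw [smul_dotProduct, smul_eq_mul, mul_eq_zero] at hlf'
    have hlf'' := hlf'.resolve_left hc
    refine Units.ext ?_
    rw [Units.val_mul, Units.val_mul, hy, hy', facM_mul, facM_mul]
    congr 1
    simp only [mul_add, add_mul, one_mul, mul_one, Matrix.vecMulVec_mul_vecMulVec, hlf'', hlf, smul_dotProduct,
      smul_zero, zero_smul, Matrix.vecMulVec_zero, add_zero]
    abel
  · exact hy.commute h hy'

/-- Two root elements of one factor not fused by the stabiliser of the subspace. -/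
theorem Ext.partner (E : Ext 2 X W z g) {i : Fin (t + 1)} {z₁ z₂ : GL (Fin (t + 1) → Fin m) F}
    (h₁ : RootAt i z₁) (h₂ : RootAt i z₂) (hW₁ : z₁ ∈ fixG W) (hW₂ : z₂ ∈ fixG W)
    (hnf : ¬ ∃ n ∈ Ns m (t + 1) F, n ∈ fixG W ∧ n * z₁ * n⁻¹ = z₂) :
    ∃ (j j' : Fin (t + 1)) (y y' n : GL (Fin (t + 1) → Fin m) F), j ≠ i ∧ j' ≠ i ∧ RootAt j y ∧ y ∈ fixG W ∧
      RootAt j' y' ∧ y' ∈ fixG W ∧ n ∈ Ns m (t + 1) F ∧ n ∈ fixG W ∧ n * z₂ * n⁻¹ = y ∧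
      g⁻¹ * (z₁ * y) * g = z₂ * y' := by
  classical
  have hm := E.ov.hm
  haveI := Fact.mk E.ov.prime
  haveI := E.ov.char
  haveI : Nonempty (Fin (t + 1) → Fin m) := ⟨fun _ => ⟨0, by omega⟩⟩
  have hinv : ∀ y : GL (Fin (t + 1) → Fin m) F, IsRoot y → y * y = 1 := fun y hy => by
    rw [← pow_two]; exact root_pow 2 (by omega) hy
  have hX : ∀ y : GL (Fin (t + 1) → Fin m) F, IsRoot y → y ∈ X := fun y hy => E.ov.le hy.mem_ns
  obtain ⟨x, hx⟩ : ∃ x, x = g * z₂ * g⁻¹ := ⟨_, rfl⟩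
  have hxW : x ∈ fixG W := hx ▸ mul_mem (mul_mem E.gfix hW₂) (inv_mem E.gfix)
  have hxX : x ∈ X := hx ▸ mul_mem (mul_mem E.mem (hX _ ⟨i, h₂⟩)) (inv_mem E.mem)
  have hle : Subgroup.closure ({z₁, x} : Set (GL (Fin (t + 1) → Fin m) F)) ≤ X ⊓ fixG W := by
    rw [Subgroup.closure_le, Set.insert_subset_iff, Set.singleton_subset_iff]
    exact ⟨⟨hX _ ⟨i, h₁⟩, hW₁⟩, ⟨hxX, hxW⟩⟩
  have hxx : x * x = 1 := by
    rw [hx, show g * z₂ * g⁻¹ * (g * z₂ * g⁻¹) = g * (z₂ * z₂) * g⁻¹ by group, hinv z₂ ⟨i, h₂⟩]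
    group
  obtain ⟨d, hd, d', hd', hpg, hdih⟩ := dihedral_split (hinv z₁ ⟨i, h₁⟩) hxx
  obtain ⟨y, hy⟩ : ∃ y, y = d * x * d⁻¹ := ⟨_, rfl⟩
  rw [← hy] at hpg hdih
  have hle₂ : Subgroup.closure ({z₁, y} : Set (GL (Fin (t + 1) → Fin m) F)) ≤ X := by
    rw [Subgroup.closure_le, Set.insert_subset_iff, Set.singleton_subset_iff]
    exact ⟨hX _ ⟨i, h₁⟩, hy ▸ mul_mem (mul_mem (hle hd).1 hxX) (inv_mem (hle hd).1)⟩
  obtain ⟨c, hc, hcN⟩ := E.ov.roots.conj_into (z₀ := z₁) ⟨i, h₁⟩ hle₂ hpg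
  have hc' : c ∈ Ns m (t + 1) F := E.ov.moves hc ⟨i, h₁⟩ (hcN z₁ (Subgroup.subset_closure (Or.inl rfl)))
  have hyN : y ∈ Ns m (t + 1) F := by
    have h' := mul_mem (mul_mem (inv_mem hc') (hcN y (Subgroup.subset_closure (Or.inr rfl)))) hc'
    rwa [show c⁻¹ * (c * y * c⁻¹) * c = y by group] at h'
  obtain ⟨n, hn⟩ : ∃ n, n = d * g := ⟨_, rfl⟩
  have hny : n * z₂ * n⁻¹ = y := by rw [hn, hy, hx]; group
  have hnW : n ∈ fixG W := hn ▸ mul_mem (hle hd).2 E.gfix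
  have hnN : n ∈ Ns m (t + 1) F := E.ov.moves (hn ▸ mul_mem (hle hd).1 E.mem) ⟨i, h₂⟩ (hny.symm ▸ hyN)
  have hyW : y ∈ fixG W := hny ▸ mul_mem (mul_mem hnW hW₂) (inv_mem hnW)
  obtain ⟨j, hyj⟩ : IsRoot y := hny ▸ IsRoot.conj ⟨i, h₂⟩ hnN.1
  have hcomm := E.roots_commute ⟨i, h₁⟩ ⟨j, hyj⟩ hW₁ hyW
  obtain ⟨hux, hxu⟩ := hdih (by
    calc z₁ * y * (z₁ * y) = z₁ * (y * z₁) * y := by group
      _ = (z₁ * z₁) * (y * y) := by rw [← hcomm]; group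
      _ = 1 := by rw [hinv _ ⟨i, h₁⟩, hinv _ ⟨j, hyj⟩, one_mul])
  have hji : j ≠ i := by
    intro e
    subst e
    obtain ⟨f, l, hf, hl, hlf, hz₁⟩ := h₁
    obtain ⟨fy, ly, hfy, hly, hlfy, hy'⟩ := hyj
    obtain ⟨c', hc0, rfl⟩ := E.functional hf hl hfy hly hz₁ hy' hW₁ hyW
    rw [smul_dotProduct, smul_eq_mul, mul_eq_zero] at hlfy
    rcases RootAt.mul_eq hl hlf (hlfy.resolve_left hc0) hz₁ hy' with h | h
    · have e : z₁ = y := by
        rw [← mul_one z₁, ← hinv y ⟨_, fy, c' • l, hfy, hly, by rw [smul_dotProduct, hlfy.resolve_left hc0, smul_zero], hy'⟩,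
          ← mul_assoc, h, one_mul]
      refine hnf ⟨n⁻¹, inv_mem hnN, inv_mem hnW, ?_⟩
      rw [inv_inv, e, ← hny]
      group
    · refine E.notMem (E.ov.moves E.mem ⟨_, h₂⟩ (hx ▸ E.ov.central ⟨_, h⟩ hxX hux.symm))
  obtain ⟨y', hy'⟩ : ∃ y', y' = g⁻¹ * (d' * z₁ * d'⁻¹) * g := ⟨_, rfl⟩
  obtain ⟨u', hu'⟩ : ∃ u', u' = g⁻¹ * (z₁ * y) * g := ⟨_, rfl⟩
  have huX : z₁ * y ∈ X := mul_mem (hX _ ⟨i, h₁⟩) (E.ov.le hyN)
  have huN : z₁ * y ∈ Ns m (t + 1) F := mul_mem (IsRoot.mem_ns ⟨i, h₁⟩) hyN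
  have hu'z : u' * z₂ = z₂ * u' := by
    calc u' * z₂ = g⁻¹ * (z₁ * y * x) * g := by rw [hu', hx]; group
      _ = g⁻¹ * (x * (z₁ * y)) * g := by rw [hux]
      _ = z₂ * u' := by rw [hu', hx]; group
  have hu'N : u' ∈ Ns m (t + 1) F :=
    E.ov.central ⟨i, h₂⟩ (hu' ▸ mul_mem (mul_mem (inv_mem E.mem) huX) E.mem) hu'z
  have hzy' : z₂ * u' = y' := by
    calc z₂ * u' = g⁻¹ * (x * (z₁ * y)) * g := by rw [hu', hx]; group
      _ = y' := by rw [hxu, hy']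
  obtain ⟨n', hn'⟩ : ∃ n', n' = g⁻¹ * d' := ⟨_, rfl⟩
  have hn'y : n' * z₁ * n'⁻¹ = y' := by rw [hn', hy']; group
  have hn'N : n' ∈ Ns m (t + 1) F := E.ov.moves (hn' ▸ mul_mem (inv_mem E.mem) (hle hd').1) ⟨i, h₁⟩
    (hn'y.symm ▸ hzy' ▸ mul_mem (IsRoot.mem_ns ⟨i, h₂⟩) hu'N)
  have hn'W : n' ∈ fixG W := hn' ▸ mul_mem (inv_mem E.gfix) (hle hd').2
  have hy'W : y' ∈ fixG W := hn'y ▸ mul_mem (mul_mem hn'W hW₁) (inv_mem hn'W)
  obtain ⟨j', hy'j⟩ : IsRoot y' := hn'y ▸ IsRoot.conj ⟨i, h₁⟩ hn'N.1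
  have hu'e : u' = z₂ * y' := by rw [← hzy', ← mul_assoc, hinv z₂ ⟨i, h₂⟩, one_mul]
  refine ⟨j, j', y, y', n, hji, ?_, hyj, hyW, hy'j, hy'W, hnN, hnW, hny, hu'.symm.trans hu'e⟩
  intro e
  subst e
  obtain ⟨f, l, hf, hl, hlf, hz₂⟩ := h₂
  obtain ⟨fy, ly, hfy, hly, hlfy, hy''⟩ := hy'j
  obtain ⟨c', hc0, rfl⟩ := E.functional hf hl hfy hly hz₂ hy'' hW₂ hy'W
  rw [smul_dotProduct, smul_eq_mul, mul_eq_zero] at hlfy
  rcases RootAt.mul_eq hl hlf (hlfy.resolve_left hc0) hz₂ hy'' with h | h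
  · have e0 : z₁ * y = 1 := by
      rw [show z₁ * y = g * u' * g⁻¹ by rw [hu']; group, hu'e, h]
      group
    refine hji (hyj.slot_unique (by omega) ?_)
    rwa [show y = z₁ by rw [← mul_one z₁, ← hinv y ⟨j, hyj⟩, ← mul_assoc, e0, one_mul]]
  · rw [← hu'e] at h
    exact E.notMem (E.ov.moves E.mem ⟨_, h⟩ (by rwa [show g * u' * g⁻¹ = z₁ * y by rw [hu']; group]))

end Cfsg.Agent.Classical.TensorPowerMax
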