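/-
In characteristic two all root elements of a factor fixing an extremal subspace are fused.
-/
import Cfsg.Agent.Lib.Classical.TensorPowerMax.Partner

set_option autoImplicit false
set_option linter.unusedSectionVars false

namespace Cfsg.Agent.Classical.TensorPowerMax

open Matrix Cfsg.Geo
open Cfsg.Agent.Classical
open Cfsg.Agent.Classical.TensorMax (kr kr_val kr_mul kr_one kr_inv)
open scoped Kronecker

variable {F : Type*} [Field F] {m t : ℕ}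

theorem slice_pv (i : Fin (t + 1)) (c : Fin (t + 1) → Fin m → F) :
    slice i (pv c) = vecMulVec (pv fun j => c (i.succAbove j)) (c i) := by
  ext x k
  rw [slice_apply, vecMulVec_apply, pv, pv, Fin.prod_univ_succAbove _ i, mul_comm]
  simp [spl]

theorem pv_mem_ann (i : Fin (t + 1)) {c : Fin (t + 1) → Fin m → F} {l : Fin m → F} (h : l ⬝ᵥ c i = 0) :
    pv c ∈ ann i l := fun x => by
  rw [slice_pv]
  show l ⬝ᵥ ((pv fun j => c (i.succAbove j)) x • c i) = 0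
  rw [dotProduct_smul, h, smul_zero]

theorem three_factors {m : ℕ} (hm : 3 ≤ m) : (m - 1) ^ 3 < (m - 2) * m ^ 2 := by
  obtain ⟨k, rfl⟩ : ∃ k, m = k + 3 := ⟨m - 3, by omega⟩
  show (k + 2) ^ 3 < (k + 1) * (k + 3) ^ 2
  nlinarith

variable [Fintype F] {X : Subgroup (GL (Fin (t + 1) → Fin m) F)}
  {W : Submodule F ((Fin (t + 1) → Fin m) → F)} {z g : GL (Fin (t + 1) → Fin m) F}

theorem Ext.le_ann {p : ℕ} (_E : Ext p X W z g) {i : Fin (t + 1)} {y : GL (Fin (t + 1) → Fin m) F} {f l : Fin m → F}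
    (hf : f ≠ 0) (hy : (y : Matrix (Fin (t + 1) → Fin m) (Fin (t + 1) → Fin m) F) = facM i (1 + vecMulVec f l))
    (hW : y ∈ fixG W) : W ≤ ann i l := fixS_root hf hy ▸ mem_fixG_iff_le.1 hW

/-- Root elements fixing the subspace occur in at most two factors. -/
theorem Ext.two_slots (E : Ext 2 X W z g) {i j k : Fin (t + 1)} {a b c : GL (Fin (t + 1) → Fin m) F}
    (ha : RootAt i a) (hb : RootAt j b) (hc : RootAt k c) (haW : a ∈ fixG W) (hbW : b ∈ fixG W) (hcW : c ∈ fixG W)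
    (hij : i ≠ j) (hik : i ≠ k) : j = k := by
  classical
  by_contra hjk
  have hm := E.ov.hm
  obtain ⟨f₁, l₁, hf₁, hl₁, -, h₁⟩ := ha
  obtain ⟨f₂, l₂, hf₂, hl₂, -, h₂⟩ := hb
  obtain ⟨f₃, l₃, hf₃, hl₃, -, h₃⟩ := hc
  let T : Finset (Fin (t + 1)) := {i, j, k}
  let L : Fin (t + 1) → Fin m → F := fun r => if r = i then l₁ else if r = j then l₂ else l₃
  have hT : T.card = 3 := Finset.card_eq_three.2 ⟨i, j, k, hij, hik, hjk, rfl⟩
  have hTle : T.card ≤ t + 1 := by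
    simpa using Finset.card_le_univ T
  have hmem : ∀ r ∈ T, r = i ∨ r = j ∨ r = k := fun r hr => by simpa [T] using hr
  have h := finrank_le_anns (by omega) T L (fun r hr => by
      rcases hmem r hr with rfl | rfl | rfl <;> simp [L, hij.symm, hik.symm, Ne.symm hjk, hl₁, hl₂, hl₃]) W
    (fun r hr => by
      rcases hmem r hr with rfl | rfl | rfl <;> simp [L, hij.symm, hik.symm, Ne.symm hjk]
      exacts [E.le_ann hf₁ h₁ haW, E.le_ann hf₂ h₂ hbW, E.le_ann hf₃ h₃ hcW])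
  rw [hT] at h hTle
  obtain ⟨t', rfl⟩ : ∃ t', t = t' + 2 := ⟨t - 2, by omega⟩
  have hd := E.dim
  have h3 := Nat.mul_lt_mul_of_pos_right (three_factors hm) (pow_pos (show 0 < m by omega) t')
  rw [show t' + 2 + 1 - 3 = t' by omega] at h
  rw [pow_add] at hd
  linarith

/-- Root elements of one factor fixing the subspace are fused by its stabiliser. -/
theorem Ext.fused (E : Ext 2 X W z g) {i : Fin (t + 1)} {l : Fin m → F} (hl : l ≠ 0) {z₁ z₂ : GL (Fin (t + 1) → Fin m) F}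
    {f₁ f₂ : Fin m → F} (hf₁ : f₁ ≠ 0) (hf₂ : f₂ ≠ 0) (hlf₁ : l ⬝ᵥ f₁ = 0) (hlf₂ : l ⬝ᵥ f₂ = 0)
    (h₁ : (z₁ : Matrix (Fin (t + 1) → Fin m) (Fin (t + 1) → Fin m) F) = facM i (1 + vecMulVec f₁ l))
    (h₂ : (z₂ : Matrix (Fin (t + 1) → Fin m) (Fin (t + 1) → Fin m) F) = facM i (1 + vecMulVec f₂ l))
    (hW : W ≤ ann i l) : ∃ n ∈ Ns m (t + 1) F, n ∈ fixG W ∧ n * z₁ * n⁻¹ = z₂ := by
  classical
  by_contra hnf
  have hm := E.ov.hm
  haveI := Fact.mk E.ov.prime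
  haveI := E.ov.char
  haveI : Nonempty (Fin (t + 1) → Fin m) := ⟨fun _ => ⟨0, by omega⟩⟩
  let rt : ∀ (f : Fin m → F), l ⬝ᵥ f = 0 → GL (Fin (t + 1) → Fin m) F := fun f h => facGL i (tv f l h)
  have hrt : ∀ f (hlf : l ⬝ᵥ f = 0), ((rt f hlf : GL (Fin (t + 1) → Fin m) F) :
      Matrix (Fin (t + 1) → Fin m) (Fin (t + 1) → Fin m) F) = facM i (1 + vecMulVec f l) := fun f hlf => facGL_val _ _
  have hfix : ∀ f (_ : f ≠ 0) (hlf : l ⬝ᵥ f = 0) (y : GL (Fin (t + 1) → Fin m) F),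
      (y : Matrix (Fin (t + 1) → Fin m) (Fin (t + 1) → Fin m) F) = facM i (1 + vecMulVec f l) → y ∈ fixG W :=
    fun f hf _ y hy => mem_fixG_iff_le.2 ((fixS_root hf hy).symm ▸ hW)
  have hz₁ : RootAt i z₁ := ⟨f₁, l, hf₁, hl, hlf₁, h₁⟩
  have hz₂ : RootAt i z₂ := ⟨f₂, l, hf₂, hl, hlf₂, h₂⟩
  obtain ⟨j, j', y, y', n, hji, hj'i, hy, hyW, -, -, hn, hnW, hny, -⟩ :=
    E.partner hz₁ hz₂ (hfix f₁ hf₁ hlf₁ z₁ h₁) (hfix f₂ hf₂ hlf₂ z₂ h₂) hnf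
  obtain ⟨fy, l', hfy, hl', hlfy, hyv⟩ := hy
  -- the intersection of the two fixed spaces is bigger
  obtain ⟨w, hwi, hwj, hwW⟩ : ∃ w, w ∈ ann i l ∧ w ∈ ann j l' ∧ w ∉ W := by
    by_contra hcon
    push Not at hcon
    obtain ⟨h', hh', hoff⟩ := exists_off_line (f := f₁) hm hl
    obtain ⟨k', hk', hk'off⟩ := exists_off_line (f := fy) hm hl'
    have hk'0 : k' ≠ 0 := fun e => hk'off 0 (by rw [e, zero_smul])
    obtain ⟨A, σ, hA⟩ := std_decomp hn.1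
    have hσ : σ i = j := by
      have h := hz₂.conj (A := A) (σ := σ)
      rw [← hA, hny] at h
      exact h.slot_unique (by omega) ⟨fy, l', hfy, hl', hlfy, hyv⟩
    have key : ∀ h : Fin m → F, h ≠ 0 → l ⬝ᵥ h = 0 →
        ∃ r : F, r ≠ 0 ∧ (A j : Matrix (Fin m) (Fin m) F) *ᵥ h = r • k' := by
      intro h h0 hh
      let c : Fin (t + 1) → Fin m → F := fun r => if r = i then h else k'
      have hcW : pv c ∈ W := hcon _ (pv_mem_ann i (by simp [c, hh])) (pv_mem_ann j (by simp [c, hji, hk']))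
      have e := hnW _ hcW
      rw [hA, std_pv] at e
      have hd : ∀ r, c r ≠ 0 := fun r => by
        simp only [c]
        split_ifs
        · exact h0
        · exact hk'0
      obtain ⟨r, hr, e'⟩ := pv_prop hd e j
      refine ⟨r, hr, ?_⟩
      simp only [c, if_neg hji, show σ.symm j = i by rw [Equiv.symm_apply_eq, hσ], if_true] at e'
      exact e'
    obtain ⟨r₁, hr₁, e₁⟩ := key f₁ hf₁ hlf₁
    obtain ⟨r₂, -, e₂⟩ := key h' (fun e => hoff 0 (by rw [e, zero_smul])) hh'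
    refine hoff (r₂ / r₁) ?_
    have e : (A j : Matrix (Fin m) (Fin m) F) *ᵥ h' = (A j : Matrix (Fin m) (Fin m) F) *ᵥ ((r₂ / r₁) • f₁) := by
      rw [Matrix.mulVec_smul, e₁, e₂, smul_smul, div_mul_cancel₀ _ hr₁]
    exact mulVec_injective (A j) e
  -- one vector determines every element that is not fused to some other
  obtain ⟨v, hv⟩ : ∃ v, v = (g : Matrix (Fin (t + 1) → Fin m) (Fin (t + 1) → Fin m) F) *ᵥ w := ⟨_, rfl⟩
  have hzv : slice i v *ᵥ l ≠ 0 := fun e => hwW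
    (E.closed E.mem E.notMem E.gfix ⟨i, hz₁⟩ (hfix f₁ hf₁ hlf₁ z₁ h₁) ⟨i, hz₁⟩ (hfix f₁ hf₁ hlf₁ z₁ h₁)
      ((root_fix_iff hf₁ h₁ w).2 hwi) ((root_fix_iff hf₁ h₁ _).2 (hv ▸ mem_ann.2 e)))
  obtain ⟨x, hx⟩ := Function.ne_iff.1 hzv
  obtain ⟨q, hq⟩ : ∃ q : Fin t, i.succAbove q = j := Fin.exists_succAbove_eq hji
  obtain ⟨Φ, hΦ⟩ : ∃ Φ : Fin m → F,
      Φ = fun k => (slice j v *ᵥ l') (fun r => spl i (x, k) (j.succAbove r)) := ⟨_, rfl⟩
  have hdet : ∀ f f' (hf : f ≠ 0) (hf' : f' ≠ 0) (hlf : l ⬝ᵥ f = 0) (hlf' : l ⬝ᵥ f' = 0),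
      (¬ ∃ n ∈ Ns m (t + 1) F, n ∈ fixG W ∧ n * rt f hlf * n⁻¹ = rt f' hlf') → ∃ c : F, f = c • Φ := by
    intro f f' hf hf' hlf hlf' hnf'
    have hr : RootAt i (rt f hlf) := ⟨f, l, hf, hl, hlf, hrt f hlf⟩
    have hr' : RootAt i (rt f' hlf') := ⟨f', l, hf', hl, hlf', hrt f' hlf'⟩
    obtain ⟨j₁, j₂, y₁, y₂, -, hj₁, hj₂, hy₁, hy₁W, hy₂, hy₂W, -, -, -, hconj⟩ :=
      E.partner hr hr' (hfix f hf hlf _ (hrt f hlf)) (hfix f' hf' hlf' _ (hrt f' hlf')) hnf'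
    obtain rfl : j = j₁ := E.two_slots hz₁ ⟨fy, l', hfy, hl', hlfy, hyv⟩ hy₁ (hfix f₁ hf₁ hlf₁ z₁ h₁) hyW hy₁W
      hji.symm hj₁.symm
    obtain rfl : j = j₂ := E.two_slots hz₁ ⟨fy, l', hfy, hl', hlfy, hyv⟩ hy₂ (hfix f₁ hf₁ hlf₁ z₁ h₁) hyW hy₂W
      hji.symm hj₂.symm
    obtain ⟨a, la, ha, hla, hlaa, hy₁v⟩ := hy₁
    obtain ⟨b, lb, hb, hlb, hlbb, hy₂v⟩ := hy₂
    obtain ⟨ca, hca, rfl⟩ := E.functional hfy hl' ha hla hyv hy₁v hyW hy₁W
    obtain ⟨cb, hcb, rfl⟩ := E.functional hfy hl' hb hlb hyv hy₂v hyW hy₂W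
    have hw2 : ((rt f' hlf' * y₂ : GL (Fin (t + 1) → Fin m) F) : Matrix (Fin (t + 1) → Fin m) (Fin (t + 1) → Fin m) F) *ᵥ w = w := by
      rw [Units.val_mul, ← Matrix.mulVec_mulVec, (root_fix_iff hb hy₂v w).2 (mem_ann.2 (by
        rw [Matrix.mulVec_smul, mem_ann.1 hwj, smul_zero])), (root_fix_iff hf' (hrt f' hlf') w).2 hwi]
    have hu : ((rt f hlf * y₁ : GL (Fin (t + 1) → Fin m) F) : Matrix (Fin (t + 1) → Fin m) (Fin (t + 1) → Fin m) F) *ᵥ v = v := by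
      rw [show rt f hlf * y₁ = g * (rt f' hlf' * y₂) * g⁻¹ by rw [← hconj]; group, hv, Matrix.mulVec_mulVec,
        ← Units.val_mul, inv_mul_cancel_right, Units.val_mul, ← Matrix.mulVec_mulVec, hw2]
    have hinv : rt f hlf * rt f hlf = 1 := by
      rw [← pow_two]
      exact root_pow 2 (by omega) ⟨i, hr⟩
    have heq : (y₁ : Matrix (Fin (t + 1) → Fin m) (Fin (t + 1) → Fin m) F) *ᵥ v =
        (rt f hlf : Matrix (Fin (t + 1) → Fin m) (Fin (t + 1) → Fin m) F) *ᵥ v := by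
      conv_rhs => rw [← hu, Matrix.mulVec_mulVec, ← Units.val_mul, ← mul_assoc, hinv, one_mul]
    rw [root_mulVec hy₁v, root_mulVec (hrt f hlf), add_right_inj] at heq
    refine ⟨ca * a (x q) / (slice i v *ᵥ l) x, funext fun k => ?_⟩
    have e := congrFun heq (spl i (x, k))
    have e1 : tens i (slice i v *ᵥ l) f (spl i (x, k)) = (slice i v *ᵥ l) x * f k := by
      rw [← slice_apply i (tens i (slice i v *ᵥ l) f) x k, slice_tens, vecMulVec_apply]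
    have e2 : spl i (x, k) j = x q := by rw [← hq]; simp [spl]
    have e3 : tens j (slice j v *ᵥ (ca • l')) a (spl i (x, k)) = ca * Φ k * a (x q) := by
      rw [tens, e2, Matrix.mulVec_smul, hΦ]
      rfl
    rw [e1, e3] at e
    rw [Pi.smul_apply, smul_eq_mul, div_mul_eq_mul_div, eq_div_iff (show (slice i v *ᵥ l) x ≠ 0 from hx),
      mul_comm (f k), ← e]
    ring
  -- so two proportional ones are all there are, against transitivity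
  have hsymm : ¬ ∃ n ∈ Ns m (t + 1) F, n ∈ fixG W ∧ n * rt f₂ hlf₂ * n⁻¹ = rt f₁ hlf₁ := by
    rintro ⟨n', hn', hn'W, e⟩
    refine hnf ⟨n'⁻¹, inv_mem hn', inv_mem hn'W, ?_⟩
    rw [show z₁ = rt f₁ hlf₁ from Units.ext (h₁.trans (hrt f₁ hlf₁).symm),
      show z₂ = rt f₂ hlf₂ from Units.ext (h₂.trans (hrt f₂ hlf₂).symm), ← e]
    group
  obtain ⟨c₁, hc₁⟩ := hdet f₁ f₂ hf₁ hf₂ hlf₁ hlf₂ (fun ⟨n', hn', hn'W, e⟩ => hsymm ⟨n'⁻¹, inv_mem hn', inv_mem hn'W, by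
    rw [← e]; group⟩)
  obtain ⟨h, hh, hoff⟩ := exists_off_line (f := Φ) hm hl
  have hh0 : h ≠ 0 := fun e => hoff 0 (by rw [e, zero_smul])
  obtain ⟨n₁, hn₁, hn₁W, e₁⟩ : ∃ n ∈ Ns m (t + 1) F, n ∈ fixG W ∧ n * rt h hh * n⁻¹ = rt f₁ hlf₁ := by
    by_contra hcon
    obtain ⟨c, hc⟩ := hdet h f₁ hh0 hf₁ hh hlf₁ hcon
    exact hoff c hc
  obtain ⟨n₂, hn₂, hn₂W, e₂⟩ : ∃ n ∈ Ns m (t + 1) F, n ∈ fixG W ∧ n * rt h hh * n⁻¹ = rt f₂ hlf₂ := by
    by_contra hcon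
    obtain ⟨c, hc⟩ := hdet h f₂ hh0 hf₂ hh hlf₂ hcon
    exact hoff c hc
  refine hsymm ⟨n₁ * n₂⁻¹, mul_mem hn₁ (inv_mem hn₂), mul_mem hn₁W (inv_mem hn₂W), ?_⟩
  rw [← e₁, ← e₂]
  group

end Cfsg.Agent.Classical.TensorPowerMax
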