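/-
An overgroup of the stabiliser of a tensor power has no extremal configuration in characteristic two either.
-/
import Cfsg.Agent.Lib.Classical.TensorPowerMax.Fused

set_option autoImplicit false
set_option linter.unusedSectionVars false

namespace Cfsg.Agent.Classical.TensorPowerMax

open Matrix Cfsg.Geo
open Cfsg.Agent.Classical
open Cfsg.Agent.Classical.TensorMax (kr kr_val kr_mul kr_one kr_inv)
open scoped Kronecker

variable {F : Type*} [Field F] {m t : ℕ}

theorem exists_derangement {G Ω : Type*} [Group G] [Finite G] [Finite Ω] [MulAction G Ω]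
    [MulAction.IsPretransitive G Ω] [Nontrivial Ω] : ∃ g : G, ∀ x : Ω, g • x ≠ x := by
  classical
  haveI := Fintype.ofFinite G
  haveI := Fintype.ofFinite Ω
  by_contra hcon
  push Not at hcon
  have h := MulAction.sum_card_fixedBy_eq_card_orbits_mul_card_group G Ω
  haveI : Subsingleton (MulAction.orbitRel.Quotient G Ω) :=
    (MulAction.pretransitive_iff_subsingleton_quotient G Ω).1 inferInstance
  haveI : Nonempty (MulAction.orbitRel.Quotient G Ω) := ⟨Quotient.mk'' (Classical.arbitrary Ω)⟩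
  rw [show Fintype.card (Quotient (MulAction.orbitRel G Ω)) = 1 from
    Fintype.card_eq_one_iff.2 ⟨Quotient.mk'' (Classical.arbitrary Ω), fun x =>
      @Subsingleton.elim (MulAction.orbitRel.Quotient G Ω) _ x _⟩, one_mul] at h
  have hlt : ∑ _g : G, 1 < ∑ g : G, Fintype.card (MulAction.fixedBy Ω g) := by
    refine Finset.sum_lt_sum (fun g _ => ?_) ⟨1, Finset.mem_univ _, ?_⟩
    · obtain ⟨x, hx⟩ := hcon g
      exact Fintype.card_pos_iff.2 ⟨⟨x, hx⟩⟩
    · rw [Fintype.one_lt_card_iff_nontrivial]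
      obtain ⟨x, y, hxy⟩ := exists_pair_ne Ω
      exact ⟨⟨x, one_smul G x⟩, ⟨y, one_smul G y⟩, fun e => hxy (congrArg Subtype.val e)⟩
  rw [Finset.sum_const, Finset.card_univ, smul_eq_mul, mul_one, h] at hlt
  exact lt_irrefl _ hlt

theorem finrank_sup_singleton {V : Type*} [AddCommGroup V] [Module F V] [FiniteDimensional F V] (U : Submodule F V)
    {w : V} (hw : w ∉ U) : Module.finrank F (U ⊔ Submodule.span F {w} : Submodule F V) = Module.finrank F U + 1 := by
  have hlt : U < U ⊔ Submodule.span F {w} := SetLike.lt_iff_le_and_exists.2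
    ⟨le_sup_left, w, Submodule.mem_sup_right (Submodule.mem_span_singleton_self w), hw⟩
  have h1 := Submodule.finrank_lt_finrank_of_lt hlt
  have h2 := Submodule.finrank_sup_add_finrank_inf_eq U (Submodule.span F {w})
  rw [finrank_span_singleton (fun e : w = 0 => hw (e ▸ U.zero_mem))] at h2
  omega

/-- An operator satisfying a quadratic without roots acts in even dimension. -/
theorem even_of_quadratic [Finite F] {α : Type} [Fintype α] [DecidableEq α] (Q : Matrix α α F) (u v : F)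
    (h : ∀ w, Q *ᵥ (Q *ᵥ w) = u • w + v • (Q *ᵥ w)) (hroot : ∀ c : F, c * c ≠ v * c + u) :
    Even (Fintype.card α) := by
  classical
  obtain ⟨U, ⟨hUi, hUe⟩, hmax⟩ := Set.exists_max_image
    {U : Submodule F (α → F) | (∀ w ∈ U, Q *ᵥ w ∈ U) ∧ Even (Module.finrank F U)}
    (fun U => Module.finrank F U) (Set.toFinite _)
    ⟨⊥, fun w hw => by rw [(Submodule.mem_bot F).1 hw, Matrix.mulVec_zero]; exact zero_mem _, by simp⟩
  by_cases htop : U = ⊤
  · rw [htop, finrank_top, Module.finrank_fintype_fun_eq_card] at hUe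
    exact hUe
  exfalso
  obtain ⟨w, -, hw⟩ := SetLike.exists_of_lt (lt_top_iff_ne_top.2 htop)
  have hQ : Q *ᵥ w ∉ U ⊔ Submodule.span F {w} := by
    intro hmem
    obtain ⟨u₀, hu₀, c', hc', e⟩ := Submodule.mem_sup.1 hmem
    obtain ⟨c, rfl⟩ := Submodule.mem_span_singleton.1 hc'
    refine hw ?_
    have e2 : (c * c - v * c - u) • w = v • u₀ - Q *ᵥ u₀ - c • u₀ := by
      have e3 := h w
      rw [← e, Matrix.mulVec_add, Matrix.mulVec_smul, ← e] at e3
      funext r
      have e4 := congrFun e3 r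
      simp only [Pi.add_apply, Pi.smul_apply, Pi.sub_apply, smul_eq_mul] at e4 ⊢
      linear_combination e4
    have e5 : (c * c - v * c - u) • w ∈ U :=
      e2 ▸ sub_mem (sub_mem (U.smul_mem v hu₀) (hUi u₀ hu₀)) (U.smul_mem c hu₀)
    exact (Submodule.smul_mem_iff U (fun e6 => hroot c (by linear_combination e6))).1 e5
  obtain ⟨U', hU'⟩ : ∃ U', U' = U ⊔ Submodule.span F {w} ⊔ Submodule.span F {Q *ᵥ w} := ⟨_, rfl⟩
  have hrank : Module.finrank F U' = Module.finrank F U + 2 := by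
    rw [hU', finrank_sup_singleton _ hQ, finrank_sup_singleton _ hw]
  have hinv : ∀ x ∈ U', Q *ᵥ x ∈ U' := by
    intro x hx
    rw [hU'] at hx ⊢
    obtain ⟨x₁, hx₁, x₂, hx₂, rfl⟩ := Submodule.mem_sup.1 hx
    obtain ⟨x₃, hx₃, x₄, hx₄, rfl⟩ := Submodule.mem_sup.1 hx₁
    obtain ⟨a, rfl⟩ := Submodule.mem_span_singleton.1 hx₄
    obtain ⟨b, rfl⟩ := Submodule.mem_span_singleton.1 hx₂
    rw [Matrix.mulVec_add, Matrix.mulVec_add, Matrix.mulVec_smul, Matrix.mulVec_smul, h w]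
    refine add_mem (add_mem (Submodule.mem_sup_left (Submodule.mem_sup_left (hUi x₃ hx₃)))
      (Submodule.smul_mem _ a (Submodule.mem_sup_right (Submodule.mem_span_singleton_self _)))) ?_
    exact Submodule.smul_mem _ b (add_mem
      (Submodule.smul_mem _ u (Submodule.mem_sup_left (Submodule.mem_sup_right (Submodule.mem_span_singleton_self _))))
      (Submodule.smul_mem _ v (Submodule.mem_sup_right (Submodule.mem_span_singleton_self _))))
  have := hmax U' ⟨hinv, by rw [hrank]; exact hUe.add (by decide)⟩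
  omega

theorem gl_mulVec_ne_zero {κ : Type} [Fintype κ] [DecidableEq κ] (b : GL κ F) {f : κ → F} (hf : f ≠ 0) :
    (b : Matrix κ κ F) *ᵥ f ≠ 0 := fun e => hf (mulVec_injective b (by simpa using e))

/-- The Kronecker products at a factor. -/
def krHom (i : Fin (t + 1)) : GL (Fin t → Fin m) F × GL (Fin m) F →* GL (Fin (t + 1) → Fin m) F :=
  MonoidHom.mk' (fun p => J i (kr p.1 p.2)) fun p q => by rw [← map_mul, kr_mul]; rfl

theorem img_rows (i : Fin (t + 1)) (a : GL (Fin t → Fin m) F) (b : GL (Fin m) F) {f : Fin m → F} (hf : f ≠ 0) :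
    img (J i (kr a b)) (rows i (Submodule.span F {f})) =
      rows i (Submodule.span F {(b : Matrix (Fin m) (Fin m) F) *ᵥ f}) := by
  have hbf : (b : Matrix (Fin m) (Fin m) F) *ᵥ f ≠ 0 := gl_mulVec_ne_zero b hf
  refine Submodule.eq_of_le_of_finrank_eq ?_ ?_
  · rintro _ ⟨v, hv, rfl⟩
    choose c hc using fun x => Submodule.mem_span_singleton.1 (hv x)
    rw [Matrix.mulVecLin_apply, show v = tens i c f from (slice i).injective (by
      rw [slice_tens]; ext x k; rw [vecMulVec_apply, ← hc x]; rfl), kr_tens]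
    exact tens_mem_rows i _ (Submodule.mem_span_singleton_self _)
  · rw [finrank_img, finrank_rows, finrank_rows, finrank_span_singleton hf, finrank_span_singleton hbf]

variable [Fintype F] {X : Subgroup (GL (Fin (t + 1) → Fin m) F)}
  {W : Submodule F ((Fin (t + 1) → Fin m) → F)} {z g : GL (Fin (t + 1) → Fin m) F}

/-- An element of the stabiliser of the subspace preserving a factor keeps its functional. -/
theorem Ext.keeps {p : ℕ} (E : Ext p X W z g) {i : Fin (t + 1)} {f l : Fin m → F} (hf : f ≠ 0) (hl : l ≠ 0)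
    (hlf : l ⬝ᵥ f = 0) (hW : W ≤ ann i l) {a : GL (Fin t → Fin m) F} {b : GL (Fin m) F}
    (hn : J i (kr a b) ∈ fixG W) {h : Fin m → F} (hh : l ⬝ᵥ h = 0) :
    l ⬝ᵥ ((b : Matrix (Fin m) (Fin m) F) *ᵥ h) = 0 := by
  obtain ⟨y, hy⟩ : ∃ y, y = facGL i (tv f l hlf) := ⟨_, rfl⟩
  have hyv : (y : Matrix (Fin (t + 1) → Fin m) (Fin (t + 1) → Fin m) F) = facM i (1 + vecMulVec f l) :=
    hy ▸ facGL_val _ _
  have hyW : y ∈ fixG W := mem_fixG_iff_le.2 ((fixS_root hf hyv).symm ▸ hW)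
  have hy' : ((J i (kr a b) * y * (J i (kr a b))⁻¹ : GL (Fin (t + 1) → Fin m) F) :
      Matrix (Fin (t + 1) → Fin m) (Fin (t + 1) → Fin m) F) = facM i (1 + vecMulVec ((b : Matrix (Fin m) (Fin m) F) *ᵥ f)
        (l ᵥ* ((b⁻¹ : GL (Fin m) F) : Matrix (Fin m) (Fin m) F))) := by
    rw [hy, ← J_kr_right, ← map_inv, ← map_mul, ← map_mul, kr_inv, kr_mul, kr_mul, mul_one, mul_inv_cancel, J_kr_right,
      facGL_val, Units.val_mul, Units.val_mul]
    congr 1
    show (b : Matrix (Fin m) (Fin m) F) * (1 + vecMulVec f l) * _ = _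
    rw [mul_add, add_mul, mul_one, Units.mul_inv, Matrix.mul_vecMulVec, Matrix.vecMulVec_mul]
  have hbf : (b : Matrix (Fin m) (Fin m) F) *ᵥ f ≠ 0 := gl_mulVec_ne_zero b hf
  have hlb : l ᵥ* ((b⁻¹ : GL (Fin m) F) : Matrix (Fin m) (Fin m) F) ≠ 0 := fun e => hl (by
    have h2 := congrArg (fun v => v ᵥ* (b : Matrix (Fin m) (Fin m) F)) e
    simpa [Matrix.vecMul_vecMul] using h2)
  obtain ⟨c, -, hc⟩ := E.functional hf hl hbf hlb hyv hy' hyW (mul_mem (mul_mem hn hyW) (inv_mem hn))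
  have e : l = c • (l ᵥ* (b : Matrix (Fin m) (Fin m) F)) := by
    have h2 := congrArg (fun v => v ᵥ* (b : Matrix (Fin m) (Fin m) F)) hc
    simpa [Matrix.vecMul_vecMul, Matrix.smul_vecMul] using h2
  have hc0 : c ≠ 0 := fun h0 => hl (by rw [e, h0, zero_smul])
  have h2 : l ᵥ* (b : Matrix (Fin m) (Fin m) F) = c⁻¹ • l := by
    rw [eq_inv_smul_iff₀ hc0]; exact e.symm
  rw [dotProduct_mulVec, h2, smul_dotProduct, hh, smul_zero]

theorem fix_slice {i : Fin (t + 1)} {a : GL (Fin t → Fin m) F} {b : GL (Fin m) F} (hn : J i (kr a b) ∈ fixG W)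
    {v : (Fin (t + 1) → Fin m) → F} (hv : v ∈ W) :
    slice i v * (b : Matrix (Fin m) (Fin m) F)ᵀ =
      ((a⁻¹ : GL (Fin t → Fin m) F) : Matrix (Fin t → Fin m) (Fin t → Fin m) F) * slice i v := by
  have e := congrArg (slice i) (hn v hv)
  rw [slice_kr] at e
  conv_rhs => rw [← e, ← Matrix.mul_assoc, ← Matrix.mul_assoc, Units.inv_mul, Matrix.one_mul]

/-- An element acting on a factor without fixing the given line: the dimension count. -/
theorem Ext.gamma {p : ℕ} (E : Ext p X W z g) {i : Fin (t + 1)} {f l : Fin m → F} (hf : f ≠ 0) (hl : l ≠ 0)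
    (hlf : l ⬝ᵥ f = 0) (hW : W ≤ ann i l) {a : GL (Fin t → Fin m) F} {b : GL (Fin m) F}
    (hn : J i (kr a b) ∈ fixG W) (hind : ∀ c : F, (b : Matrix (Fin m) (Fin m) F) *ᵥ f ≠ c • f) :
    m = 3 ∧ ∃ γ : Fin m → F, ∀ w : (Fin t → Fin m) → F, ∃ v ∈ W, slice i v *ᵥ γ = w := by
  classical
  have hm := E.ov.hm
  obtain ⟨o, ho⟩ := Function.ne_iff.1 hf
  obtain ⟨f', hf'⟩ : ∃ f', f' = (b : Matrix (Fin m) (Fin m) F) *ᵥ f := ⟨_, rfl⟩
  obtain ⟨γ, hγ, hγ'⟩ : ∃ γ : Fin m → F, γ ⬝ᵥ f = 0 ∧ γ ⬝ᵥ f' ≠ 0 := by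
    by_contra hcon
    push Not at hcon
    refine hind (f' o / f o) (funext fun k => ?_)
    have e := hcon (Pi.single k (f o) - Pi.single o (f k)) (by
      rw [sub_dotProduct, single_dotProduct, single_dotProduct]; ring)
    rw [sub_dotProduct, single_dotProduct, single_dotProduct, sub_eq_zero] at e
    rw [← hf', Pi.smul_apply, smul_eq_mul, div_mul_eq_mul_div, eq_div_iff (show f o ≠ 0 from ho), mul_comm, e, mul_comm]
  obtain ⟨γ', hγ''⟩ : ∃ γ', γ' = (b : Matrix (Fin m) (Fin m) F)ᵀ *ᵥ γ := ⟨_, rfl⟩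
  have hdot : ∀ h, γ' ⬝ᵥ h = γ ⬝ᵥ ((b : Matrix (Fin m) (Fin m) F) *ᵥ h) := fun h => by
    rw [hγ'', Matrix.mulVec_transpose, dotProduct_mulVec]
  obtain ⟨K₁, hK₁⟩ : ∃ K, K = LinearMap.ker (dotProductBilin F F l) ⊓ LinearMap.ker (dotProductBilin F F γ) :=
    ⟨_, rfl⟩
  obtain ⟨K₀, hK₀⟩ : ∃ K, K = K₁ ⊓ LinearMap.ker (dotProductBilin F F γ') := ⟨_, rfl⟩
  have hf'l : l ⬝ᵥ f' = 0 := hf' ▸ E.keeps hf hl hlf hW hn hlf
  have hlt₁ : K₁ < LinearMap.ker (dotProductBilin F F l) := by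
    refine lt_of_le_of_ne (hK₁ ▸ inf_le_left) fun e => hγ' ?_
    have : f' ∈ K₁ := e ▸ (show f' ∈ LinearMap.ker (dotProductBilin F F l) from hf'l)
    rw [hK₁] at this
    exact this.2
  have hlt₀ : K₀ < K₁ := by
    refine lt_of_le_of_ne (hK₀ ▸ inf_le_left) fun e => hγ' ?_
    have : f ∈ K₀ := e ▸ (hK₁ ▸ (⟨hlf, hγ⟩ : f ∈ LinearMap.ker (dotProductBilin F F l) ⊓ LinearMap.ker (dotProductBilin F F γ)))
    rw [hK₀] at this
    have h2 : γ' ⬝ᵥ f = 0 := this.2
    rwa [hdot, ← hf'] at h2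
  have hK₀dim : Module.finrank F K₀ ≤ m - 3 := by
    have := Submodule.finrank_lt_finrank_of_lt hlt₁
    have := Submodule.finrank_lt_finrank_of_lt hlt₀
    have := finrank_ker_dot hl
    omega
  let A : ((Fin (t + 1) → Fin m) → F) →ₗ[F] ((Fin t → Fin m) → F) :=
    { toFun := fun v => slice i v *ᵥ γ
      map_add' := fun v w => by rw [map_add, Matrix.add_mulVec]
      map_smul' := fun c v => by rw [map_smul, Matrix.smul_mulVec]; rfl }
  have h1 := LinearMap.finrank_range_add_finrank_ker (A.domRestrict W)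
  rw [LinearMap.range_domRestrict, LinearMap.ker_domRestrict, ← Submodule.finrank_map_subtype_eq,
    Submodule.map_comap_subtype] at h1
  have hker : W ⊓ LinearMap.ker A ≤ rows i K₀ := by
    rintro v ⟨hv, hvA⟩ x
    have hvA' : slice i v *ᵥ γ = 0 := hvA
    rw [hK₀, hK₁]
    refine ⟨⟨(hW hv) x, ?_⟩, ?_⟩
    · show γ ⬝ᵥ slice i v x = 0
      rw [dotProduct_comm]
      exact congrFun hvA' x
    · show γ' ⬝ᵥ slice i v x = 0
      have e : slice i v *ᵥ γ' = 0 := by
        rw [hγ'', Matrix.mulVec_mulVec, fix_slice hn hv, ← Matrix.mulVec_mulVec, hvA', Matrix.mulVec_zero]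
      rw [dotProduct_comm]
      exact congrFun e x
  have h2 := Submodule.finrank_mono hker
  rw [finrank_rows] at h2
  have h3 : m ^ t * Module.finrank F K₀ ≤ m ^ t * (m - 3) := Nat.mul_le_mul_left _ hK₀dim
  have h4 : Module.finrank F (W.map A) ≤ m ^ t := by
    refine (Submodule.finrank_le _).trans ?_
    rw [Module.finrank_fintype_fun_eq_card, Fintype.card_fun, Fintype.card_fin, Fintype.card_fin]
  have h5 := E.dim
  have h6 : (m - 2) * m ^ t = m ^ t + m ^ t * (m - 3) := by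
    rw [show m - 2 = (m - 3) + 1 by omega, add_mul, one_mul, mul_comm]
    ring
  have hrows : rows i K₀ ≤ W := by
    have he : W ⊓ LinearMap.ker A = rows i K₀ := Submodule.eq_of_le_of_finrank_le hker (by rw [finrank_rows]; omega)
    exact he ▸ inf_le_left
  have hm3 : m = 3 := by
    by_contra hne
    have hK0 : K₀ ≠ ⊥ := fun e => by
      rw [e, finrank_bot, mul_zero] at h2
      have : 0 < m ^ t * (m - 3) := Nat.mul_pos (pow_pos (by omega) t) (by omega)
      omega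
    obtain ⟨h, hh, h0⟩ := Submodule.exists_mem_ne_zero_of_ne_bot hK0
    exact E.notMem (E.ov.fixed_fibre i h0 E.mem fun w => E.gfix _ (hrows (tens_mem_rows i w hh)))
  refine ⟨hm3, γ, fun w => ?_⟩
  have htop : W.map A = ⊤ := Submodule.eq_top_of_finrank_eq (by
    rw [Module.finrank_fintype_fun_eq_card, Fintype.card_fun, Fintype.card_fin, Fintype.card_fin]
    omega)
  obtain ⟨v, hv, hvw⟩ : w ∈ W.map A := htop ▸ Submodule.mem_top
  exact ⟨v, hv, hvw⟩

/-- No configuration in characteristic two. -/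
theorem Ext.false_two (E : Ext 2 X W z g) : False := by
  classical
  have hm := E.ov.hm
  haveI := Fact.mk E.ov.prime
  haveI := E.ov.char
  haveI : Nonempty (Fin t → Fin m) := ⟨fun _ => ⟨0, by omega⟩⟩
  obtain ⟨i, f₀, l, hf₀, hl, hlf₀, hz⟩ := E.root
  have hW : W ≤ ann i l := E.le_ann hf₀ hz E.zfix
  let G : Subgroup (GL (Fin (t + 1) → Fin m) F) := Ns m (t + 1) F ⊓ fixG W ⊓ (krHom i).range
  let Ω := {P : Submodule F ((Fin (t + 1) → Fin m) → F) //
    ∃ f : Fin m → F, f ≠ 0 ∧ l ⬝ᵥ f = 0 ∧ P = rows i (Submodule.span F {f})}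
  have hact : ∀ (n : G) (P : Ω), ∃ f : Fin m → F, f ≠ 0 ∧ l ⬝ᵥ f = 0 ∧
      img (n : GL (Fin (t + 1) → Fin m) F) P.1 = rows i (Submodule.span F {f}) := by
    rintro ⟨n, ⟨-, hnW⟩, ⟨⟨a, b⟩, rfl⟩⟩ ⟨_, f, hf, hlf, rfl⟩
    exact ⟨(b : Matrix (Fin m) (Fin m) F) *ᵥ f,
      gl_mulVec_ne_zero b hf,
      E.keeps hf₀ hl hlf₀ hW hnW hlf, img_rows i a b hf⟩
  letI : MulAction G Ω :=
    { smul := fun n P => ⟨img (n : GL (Fin (t + 1) → Fin m) F) P.1, hact n P⟩
      one_smul := fun P => Subtype.ext (by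
        show img _ P.1 = P.1
        rw [img, Subgroup.coe_one, Units.val_one, Matrix.mulVecLin_one, Submodule.map_id])
      mul_smul := fun n n' P => Subtype.ext (by
        show img _ P.1 = img _ (img _ P.1)
        rw [img, img, img, Subgroup.coe_mul, Units.val_mul, Matrix.mulVecLin_mul, Submodule.map_comp]) }
  haveI : Finite G := inferInstance
  haveI : Finite Ω := inferInstance
  haveI : MulAction.IsPretransitive G Ω := by
    refine ⟨?_⟩
    rintro ⟨_, f, hf, hlf, rfl⟩ ⟨_, f', hf', hlf', rfl⟩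
    obtain ⟨n, hn, hnW, e⟩ := E.fused hl hf hf' hlf hlf' (facGL_val i (tv f l hlf)) (facGL_val i (tv f' l hlf')) hW
    obtain ⟨a, b, rfl, hb⟩ := conj_slot (by omega) hn.1 hf hl hlf (facGL_val i (tv f l hlf))
      (facGL_val i (tv f' l hlf')) hf' hl hlf' (by rw [← e, inv_mul_cancel_right])
    refine ⟨⟨_, ⟨hn, hnW⟩, ⟨(a, b), rfl⟩⟩, Subtype.ext ?_⟩
    show img (J i (kr a b)) _ = _
    rw [img_rows i a b hf]
    rw [Matrix.mul_vecMulVec, Matrix.vecMulVec_mul] at hb
    obtain ⟨k, hk⟩ := Function.ne_iff.1 hl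
    obtain ⟨c, hc⟩ : ∃ c : F, (b : Matrix (Fin m) (Fin m) F) *ᵥ f = c • f' :=
      ⟨(l ᵥ* (b : Matrix (Fin m) (Fin m) F)) k / l k, funext fun r => by
        have e := congrFun (congrFun hb r) k
        rw [vecMulVec_apply, vecMulVec_apply] at e
        rw [Pi.smul_apply, smul_eq_mul, div_mul_eq_mul_div, eq_div_iff (show l k ≠ 0 from hk), e, mul_comm]⟩
    have hc0 : c ≠ 0 := fun h0 => hf (mulVec_injective b (by
      rw [Matrix.mulVecLin_apply, Matrix.mulVecLin_apply, hc, h0, zero_smul, Matrix.mulVec_zero]))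
    rw [hc, Submodule.span_singleton_smul_eq (Ne.isUnit hc0)]
  obtain ⟨f, hlf, hoff⟩ := exists_off_line (f := f₀) hm hl
  have hf : f ≠ 0 := fun e => hoff 0 (by rw [e, zero_smul])
  haveI : Nontrivial Ω := by
    refine ⟨⟨⟨_, f₀, hf₀, hlf₀, rfl⟩, ⟨_, f, hf, hlf, rfl⟩, fun e => ?_⟩⟩
    have e' : rows i (Submodule.span F ({f₀} : Set (Fin m → F))) = rows i (Submodule.span F ({f} : Set (Fin m → F))) :=
      congrArg Subtype.val e
    have h1 : tens i (fun _ => (1 : F)) f ∈ rows i (Submodule.span F ({f₀} : Set (Fin m → F))) := by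
      rw [e']; exact tens_mem_rows i _ (Submodule.mem_span_singleton_self f)
    obtain ⟨c, hc⟩ := Submodule.mem_span_singleton.1 (h1 (Classical.arbitrary _))
    refine hoff c (funext fun r => ?_)
    have := congrFun hc r
    rw [slice_tens, vecMulVec_apply, one_mul] at this
    exact this.symm
  obtain ⟨n, hfree⟩ := exists_derangement (G := G) (Ω := Ω)
  have hnW : (n : GL (Fin (t + 1) → Fin m) F) ∈ fixG W := (n.2.1).2
  obtain ⟨⟨a, b⟩, hab⟩ : ∃ p, krHom i p = (n : GL (Fin (t + 1) → Fin m) F) := n.2.2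
  replace hab : J i (kr a b) = (n : GL (Fin (t + 1) → Fin m) F) := hab
  rw [← hab] at hnW
  have hno : ∀ h : Fin m → F, h ≠ 0 → l ⬝ᵥ h = 0 → ∀ c : F, (b : Matrix (Fin m) (Fin m) F) *ᵥ h ≠ c • h := by
    intro h h0 hh c hc
    have hc0 : c ≠ 0 := fun e => h0 (mulVec_injective b (by
      rw [Matrix.mulVecLin_apply, Matrix.mulVecLin_apply, hc, e, zero_smul, Matrix.mulVec_zero]))
    refine hfree ⟨_, h, h0, hh, rfl⟩ (Subtype.ext ?_)
    show img (n : GL (Fin (t + 1) → Fin m) F) _ = _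
    rw [← hab, img_rows i a b h0, hc, Submodule.span_singleton_smul_eq (Ne.isUnit hc0)]
  obtain ⟨hm3, γ, hγ⟩ := E.gamma hf hl hlf hW hnW (hno f hf hlf)
  -- the plane is spanned by `f` and `b f`
  obtain ⟨f', hf'⟩ : ∃ f', f' = (b : Matrix (Fin m) (Fin m) F) *ᵥ f := ⟨_, rfl⟩
  have hf'l : l ⬝ᵥ f' = 0 := hf' ▸ E.keeps hf₀ hl hlf₀ hW hnW hlf
  have hf'n : f' ∉ Submodule.span F ({f} : Set (Fin m → F)) := fun hh => by
    obtain ⟨c, hc⟩ := Submodule.mem_span_singleton.1 hh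
    exact hno f hf hlf c (by rw [← hf', hc])
  have hspan : Submodule.span F {f} ⊔ Submodule.span F {f'} = LinearMap.ker (dotProductBilin F F l) := by
    refine Submodule.eq_of_le_of_finrank_le (sup_le ((Submodule.span_singleton_le_iff_mem _ _).2 hlf)
      ((Submodule.span_singleton_le_iff_mem _ _).2 hf'l)) ?_
    rw [finrank_sup_singleton _ hf'n, finrank_span_singleton hf]
    have := finrank_ker_dot hl
    omega
  have hcomb : ∀ h, l ⬝ᵥ h = 0 → ∃ α β : F, h = α • f + β • f' := fun h hh => by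
    have hmem : h ∈ Submodule.span F {f} ⊔ Submodule.span F {f'} := hspan ▸ hh
    obtain ⟨x, hx, y, hy, rfl⟩ := Submodule.mem_sup.1 hmem
    obtain ⟨α, rfl⟩ := Submodule.mem_span_singleton.1 hx
    obtain ⟨β, rfl⟩ := Submodule.mem_span_singleton.1 hy
    exact ⟨α, β, rfl⟩
  obtain ⟨u, v, huv⟩ := hcomb ((b : Matrix (Fin m) (Fin m) F) *ᵥ f') (E.keeps hf₀ hl hlf₀ hW hnW hf'l)
  have hroot : ∀ c : F, c * c ≠ v * c + u := by
    intro c hc
    obtain ⟨δ, hδ⟩ : ∃ δ, δ = f' - (v - c) • f := ⟨_, rfl⟩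
    refine hno δ (fun e => hf'n (Submodule.mem_span_singleton.2 ⟨v - c, ?_⟩)) ?_ c ?_
    · rw [hδ, sub_eq_zero] at e
      exact e.symm
    · rw [hδ, dotProduct_sub, dotProduct_smul, hf'l, hlf, smul_zero, sub_zero]
    · rw [hδ, Matrix.mulVec_sub, Matrix.mulVec_smul, huv, ← hf']
      funext r
      simp only [Pi.add_apply, Pi.sub_apply, Pi.smul_apply, smul_eq_mul]
      linear_combination (-(f r)) * hc
  have hquad : ∀ h, l ⬝ᵥ h = 0 → (b : Matrix (Fin m) (Fin m) F) *ᵥ ((b : Matrix (Fin m) (Fin m) F) *ᵥ h) =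
      u • h + v • ((b : Matrix (Fin m) (Fin m) F) *ᵥ h) := fun h hh => by
    obtain ⟨α, β, rfl⟩ := hcomb h hh
    funext r
    simp only [Matrix.mulVec_add, Matrix.mulVec_smul, ← hf', huv, Pi.add_apply, Pi.smul_apply, smul_eq_mul]
    ring
  have heven := even_of_quadratic ((a⁻¹ : GL (Fin t → Fin m) F) : Matrix (Fin t → Fin m) (Fin t → Fin m) F) u v
    (fun w => by
      obtain ⟨s, hs, rfl⟩ := hγ w
      have e1 := fix_slice hnW hs
      rw [Matrix.mulVec_mulVec, Matrix.mulVec_mulVec, Matrix.mulVec_mulVec,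
        ← e1, Matrix.mul_assoc, ← e1]
      rw [← Matrix.mul_assoc, ← e1]
      funext x
      have hS : ∀ (T : Matrix (Fin t → Fin m) (Fin m) F),
          (T * (b : Matrix (Fin m) (Fin m) F)ᵀ) x = (b : Matrix (Fin m) (Fin m) F) *ᵥ (T x) := fun T => by
        rw [Matrix.mul_apply_eq_vecMul, Matrix.vecMul_transpose]
      rw [Pi.add_apply, Pi.smul_apply, Pi.smul_apply]
      show (slice i s * (b : Matrix (Fin m) (Fin m) F)ᵀ * (b : Matrix (Fin m) (Fin m) F)ᵀ :
          Matrix (Fin t → Fin m) (Fin m) F) x ⬝ᵥ γ = u * (slice i s x ⬝ᵥ γ) +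
        v * ((slice i s * (b : Matrix (Fin m) (Fin m) F)ᵀ : Matrix (Fin t → Fin m) (Fin m) F) x ⬝ᵥ γ)
      rw [hS, hS, hquad _ (hW hs x), add_dotProduct, smul_dotProduct, smul_dotProduct, smul_eq_mul, smul_eq_mul])
    hroot
  rw [Fintype.card_fun, Fintype.card_fin, Fintype.card_fin, hm3, Nat.even_pow] at heven
  exact absurd heven.1 (by decide)

end Cfsg.Agent.Classical.TensorPowerMax
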