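/-
Maximality of the stabilisers of tensor powers in the special linear group.
-/
import Cfsg.Agent.Lib.Classical.TensorPowerMax.Even

set_option autoImplicit false
set_option linter.unusedSectionVars false

namespace Cfsg.Agent.Classical.TensorPowerMax

open Matrix Cfsg.Geo
open Cfsg.Agent.Classical
open Cfsg.Agent.Classical.TensorMax (kr kr_val kr_mul kr_one kr_inv)
open scoped Kronecker

variable {F : Type*} [Field F] {m t : ℕ}

/-- With one factor the stabiliser is everything. -/
theorem maximal_one : Maximal m 1 F := fun X hN hX => by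
  refine Or.inl (le_antisymm (fun g hg => ⟨?_, hX hg⟩) hN)
  obtain ⟨G, rfl⟩ := (J (F := F) (m := m) (t := 0) 0).surjective g
  let e : (Fin 0 → Fin m) × Fin m ≃ Fin m :=
    ⟨Prod.snd, fun x => (default, x), fun p => Prod.ext (Subsingleton.elim _ _) rfl, fun _ => rfl⟩
  rw [show G = kr (1 : GL (Fin 0 → Fin m) F) (glReindex e G) from Units.ext (by
    ext ⟨u, k⟩ ⟨v, l⟩
    rw [kr_val, kroneckerMap_apply, Subsingleton.elim u default, Subsingleton.elim v default, Units.val_one,
      Matrix.one_apply_eq, one_mul]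
    rfl), J_kr_right]
  exact facGL_mem _ _

variable [Fintype F]

/-- The inductive step. -/
theorem maximal_succ (hm : 3 ≤ m) (ht : 0 < t) (ih : Maximal m t F) : Maximal m (t + 1) F := fun X hN hX => by
  classical
  by_cases hall : specialLinear (Fin (t + 1) → Fin m) F ≤ X
  · exact Or.inr hall
  left
  obtain ⟨p, hp⟩ := CharP.exists F
  have H : Over p X := ⟨CharP.char_is_prime F p, hp, hm, ht, hN, hX, hall, ih⟩
  refine le_antisymm (fun g hg => ?_) hN
  by_contra hgN
  obtain ⟨W, z, g', E⟩ := H.exists_ext hg hgN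
  obtain rfl := E.char_two
  exact E.false_two

theorem maximal (hm : 3 ≤ m) : ∀ t, Maximal m (t + 1) F
  | 0 => maximal_one
  | t + 1 => maximal_succ hm (Nat.succ_pos t) (maximal hm t)

/-- The stabiliser is proper. -/
theorem ne_top (hm : 3 ≤ m) (ht : 0 < t) : Ns m (t + 1) F ≠ specialLinear (Fin (t + 1) → Fin m) F := by
  classical
  intro e
  obtain ⟨p, hp⟩ := CharP.exists F
  haveI : Fact p.Prime := ⟨CharP.char_is_prime F p⟩
  let a₀ : Fin m := ⟨0, by omega⟩
  let a₁ : Fin m := ⟨1, by omega⟩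
  have hxy : (fun _ => a₀ : Fin (t + 1) → Fin m) ≠ fun _ => a₁ := fun h => by
    simpa [a₀, a₁, Fin.ext_iff] using congrFun h 0
  obtain ⟨g, hg⟩ : ∃ g, g = transGL (F := F) hxy 1 := ⟨_, rfl⟩
  have hmem : g ∈ Ns m (t + 1) F := e ▸ hg ▸ transGL_mem hxy 1
  have hsub : (g : Matrix (Fin (t + 1) → Fin m) (Fin (t + 1) → Fin m) F) - 1 =
      Matrix.single (fun _ => a₀) (fun _ => a₁) 1 := by
    rw [hg, transGL_coe, Matrix.transvection, add_sub_cancel_left]
  have hr : ((g : Matrix (Fin (t + 1) → Fin m) (Fin (t + 1) → Fin m) F) - 1).rank ≤ 1 := by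
    rw [hsub, Matrix.single_eq_single_vecMulVec_single]
    exact Matrix.rank_vecMulVec_le _ _
  have hne : g ≠ 1 := fun h => by
    rw [h, Units.val_one, sub_self] at hsub
    simpa using congrFun (congrFun hsub (fun _ => a₀)) fun _ => a₁
  have hpow : 1 < m ^ t := Nat.one_lt_pow (by omega) (by omega)
  rcases classify p hm hmem.1 (by
      rw [hsub, Matrix.single_mul_single_of_ne]
      exact hxy.symm) hne (hr.trans hpow.le) with h | ⟨-, A, σ, hσ, he⟩
  · have := h.rank (by omega)
    omega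
  · obtain ⟨x, y, hxy', rfl⟩ := hσ
    have := (rank_perm_pair hm A (σ := Equiv.swap x y) (j := x) (by
      rw [Equiv.swap_apply_left]; exact hxy'.symm)).1
    rw [← he] at this
    omega

/-- The stabiliser of a tensor power is maximal in the special linear group. -/
theorem isMaximalIn {n : ℕ} (hm : 3 ≤ m) (ht : 2 ≤ t) (e : Fin n ≃ (Fin t → Fin m)) (P : GL (Fin n) F) :
    IsMaximalIn (specialLinear (Fin n) F) (tensorWreathSubgroup m t e P ⊓ specialLinear (Fin n) F) := by
  classical
  obtain ⟨t, rfl⟩ : ∃ s, t = s + 1 := ⟨t - 1, by omega⟩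
  let φ : GL (Fin (t + 1) → Fin m) F ≃* GL (Fin n) F := (glReindex (F := F) e.symm).trans (MulAut.conj P)
  have hdet : ∀ g, φ g ∈ specialLinear (Fin n) F ↔ g ∈ specialLinear (Fin (t + 1) → Fin m) F := fun g => by
    rw [mem_specialLinear_iff, mem_specialLinear_iff]
    have : ((φ g : GL (Fin n) F) : Matrix (Fin n) (Fin n) F).det =
        (g : Matrix (Fin (t + 1) → Fin m) (Fin (t + 1) → Fin m) F).det := by
      simp only [φ, MulEquiv.trans_apply, MulAut.conj_apply, Units.val_mul, Matrix.det_units_conj]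
      exact Matrix.det_reindexAlgEquiv F F e.symm _
    rw [this]
  have hkr : ∀ g, φ g ∈ tensorWreathSubgroup m (t + 1) e P ↔ g ∈ tensorWreathStandard m (t + 1) F := fun g => by
    constructor
    · rintro ⟨y, ⟨x, hx, rfl⟩, hy⟩
      have : φ x = φ g := hy
      rw [← φ.injective this]
      exact hx
    · intro hg
      exact ⟨_, ⟨_, hg, rfl⟩, rfl⟩
  refine ⟨lt_of_le_of_ne inf_le_right fun hEq => ne_top (F := F) hm (show 0 < t by omega)
    (le_antisymm inf_le_right fun g hg => ?_), fun M hM hMS => ?_⟩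
  · have : φ g ∈ tensorWreathSubgroup m (t + 1) e P ⊓ specialLinear (Fin n) F := hEq.symm ▸ (hdet g).2 hg
    exact ⟨(hkr g).1 this.1, hg⟩
  rcases maximal (F := F) hm t (M.comap φ.toMonoidHom) (fun g hg => hM ⟨(hkr g).2 hg.1, (hdet g).2 hg.2⟩)
      (fun g hg => (hdet g).1 (hMS hg)) with h | h
  · refine Or.inl (le_antisymm (fun g hg => ?_) hM)
    obtain ⟨x, rfl⟩ := φ.surjective g
    have hx : x ∈ Ns m (t + 1) F := h ▸ (show x ∈ M.comap φ.toMonoidHom from hg)
    exact ⟨(hkr x).2 hx.1, (hdet x).2 hx.2⟩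
  · refine Or.inr (le_antisymm hMS fun g hg => ?_)
    obtain ⟨x, rfl⟩ := φ.surjective g
    exact h ((hdet x).1 hg)

end Cfsg.Agent.Classical.TensorPowerMax
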